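import Mathlib
import Cfsg.Agent.Lib.ChevAut.RootCent
import Cfsg.Agent.Lib.ChevCanon
import Cfsg.Agent.Lib.BorelTits50

/-!
# Simply laced root data: the inner product, support lemmas for ordered products
-/

set_option autoImplicit false
set_option linter.unusedSectionVars false
set_option linter.unusedVariables false
set_option linter.unnecessarySimpa false

namespace Cfsg.Agent.Lib.ChevInv

open Cfsg Cfsg.Lie Matrix Cfsg.Agent.Lib.Chev Cfsg.Agent.Lib.Chev.Full Cfsg.Agent.Lib.Chev.Tri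
open Cfsg.Agent.Lib.ChevAut.LongRoot Cfsg.Agent.Lib.ChevAut.RootCent Cfsg.Agent.Lib.ChevAut.ParabFit Equiv

variable {T : Tabs} {X : Extra} {R : RootTab} {D : ChevalleyDatum} (hF : Full T X R D)
variable {F : Type*} [Field F]

/-- The inner product of roots, as a linear form in the second variable. -/
noncomputable def om (R : RootTab) (D : ChevalleyDatum) (r s : ℕ) : ℤ := R.lin D.rank (fun j => D.cartan j r) s

/-- The table facts for simply laced root systems. -/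
structure SL (R : RootTab) (D : ChevalleyDatum) : Prop where
  self : ∀ r < D.nroots, om R D r r = 2
  range : ∀ r < D.nroots, ∀ s < D.nroots, s ≠ r → s ≠ D.neg r → om R D r s = -1 ∨ om R D r s = 0 ∨ om R D r s = 1
  symm : ∀ r < D.nroots, ∀ s < D.nroots, om R D r s = om R D s r
  coroot : ∀ r < D.nroots, ∀ i < D.rank, (D.coroot.getD r #[]).getD i 0 = R.rcAt r i
  one : ∀ r < D.nroots, ∀ s < D.nroots, om R D r s = -1 →
    ∃ k c c', D.commTerms r s = [(k, c, 1, 1)] ∧ (c = 1 ∨ c = -1) ∧ D.chainCoeff r s k = [(1, c')] ∧ (c' = 1 ∨ c' = -1)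

section support

include hF

/-- Off-diagonal entries of a root element raise any linear form. -/
theorem x_entry_gr (a : ℕ → ℤ) {s : ℕ} (hs : s < D.nroots) (t : F) {i j : D.Idx} (hij : i ≠ j)
    (h : D.x F s t i j ≠ 0) : ∃ e : ℤ, 1 ≤ e ∧ gr R D a i = gr R D a j + e * R.lin D.rank a s := by
  obtain ⟨e, he, h1⟩ := hF.x_entry_ne hs hij h
  exact ⟨e, by exact_mod_cast he, hF.gr_add a h1⟩

/-- Root elements in the closed half space lie in `Tri`. -/
theorem xG_mem_Tri {a : ℕ → ℤ} {ℓ : D.Idx → ℕ} {M : ℤ} (hℓ : ∀ b, (ℓ b : ℤ) = gr R D a b + M)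
    {s : ℕ} (hs : s < D.nroots) (h0 : 0 ≤ R.lin D.rank a s) (t : F) : hF.c.xG s t ∈ Tri (F := F) ℓ := by
  rw [mem_Tri, Checks.coe_xG]
  intro i j hij
  by_cases hne : i = j
  · subst hne
    omega
  · by_contra h
    obtain ⟨e, he, h1⟩ := x_entry_gr hF a hs t hne h
    have h2 := hℓ i
    have h3 := hℓ j
    have h4 : 0 ≤ e * R.lin D.rank a s := mul_nonneg (by omega) h0
    omega

/-- Root elements in the open half space lie in `UT`. -/
theorem xG_mem_UT' {a : ℕ → ℤ} {ℓ : D.Idx → ℕ} {M : ℤ} {d : ℕ} {hd : ∀ i, ℓ i < d}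
    (hℓ : ∀ b, (ℓ b : ℤ) = gr R D a b + M)
    {s : ℕ} (hs : s < D.nroots) (h0 : 1 ≤ R.lin D.rank a s) (t : F) : hF.c.xG s t ∈ UT (F := F) ℓ 0 d hd := by
  rw [mem_UT, Checks.coe_xG]
  exact x_sub_one_mem_lin hF hℓ hs (by omega) t

theorem rootClosure_le_Tri {a : ℕ → ℤ} {ℓ : D.Idx → ℕ} {M : ℤ} (hℓ : ∀ b, (ℓ b : ℤ) = gr R D a b + M)
    {Q : ℕ → Prop} (hQ : ∀ s, Q s → s < D.nroots ∧ 0 ≤ R.lin D.rank a s) :
    rootClosure D F Q ≤ Tri (F := F) ℓ := by
  rw [rootClosure, Subgroup.closure_le]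
  rintro g ⟨s, t, hs, hg⟩
  rw [SetLike.mem_coe, hF.c.eq_xG hg]
  exact xG_mem_Tri hF hℓ (hQ s hs).1 (hQ s hs).2 t

theorem rootClosure_le_UT {a : ℕ → ℤ} {ℓ : D.Idx → ℕ} {M : ℤ} {d : ℕ} {hd : ∀ i, ℓ i < d}
    (hℓ : ∀ b, (ℓ b : ℤ) = gr R D a b + M)
    {Q : ℕ → Prop} (hQ : ∀ s, Q s → s < D.nroots ∧ 1 ≤ R.lin D.rank a s) :
    rootClosure D F Q ≤ UT (F := F) ℓ 0 d hd := by
  rw [rootClosure, Subgroup.closure_le]
  rintro g ⟨s, t, hs, hg⟩
  rw [SetLike.mem_coe, hF.c.eq_xG hg]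
  exact xG_mem_UT' hF hℓ (hQ s hs).1 (hQ s hs).2 t

/-- A coefficient of a coroot does not vanish after multiplying by a non-zero scalar. -/
theorem exists_coroot_ne {k : ℕ} (hkn : k < D.nroots) {c : F} (hc : c ≠ 0) :
    ∃ i : Fin D.rank, (((D.coroot.getD k #[]).getD i 0 : ℤ) : F) * c ≠ 0 := by
  by_contra hall
  push Not at hall
  apply hc
  have hb := hF.r.bez k hkn
  rw [sumZ_eq] at hb
  have hb2 := congrArg (fun z : ℤ => (z : F) * c) hb
  simp only [Int.cast_sum, Int.cast_mul, Int.cast_one, one_mul, Finset.sum_mul] at hb2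
  rw [← hb2]
  apply Finset.sum_eq_zero
  intro i hi
  rw [mul_assoc, hall ⟨i, Finset.mem_range.1 hi⟩, mul_zero]

/-- Support of an ordered product in a group with a grading. -/
theorem support_gen (a : ℕ → ℤ) (S : Subgroup (GL D.Idx F)) (e : ℤ) (he : 0 ≤ e)
    (h1 : ∀ g ∈ S, ∀ i j : D.Idx, i ≠ j → (g : Matrix D.Idx D.Idx F) i j ≠ 0 → gr R D a j + e ≤ gr R D a i)
    (h2 : ∀ s < D.nroots, e ≤ R.lin D.rank a s → ∀ t : F, hF.c.xG s t ∈ S) :
    ∀ (m k : ℕ), k + m = D.nroots → R.N ≤ k → ∀ τ : ℕ → F, hF.ordW k τ ∈ S →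
      ∀ s, k ≤ s → s < D.nroots → τ s ≠ 0 → e ≤ R.lin D.rank a s := by
  intro m
  induction m with
  | zero =>
    intro k hk _ τ _ s h3 h4
    omega
  | succ m ih =>
    intro k hk hkN τ hτ s h3 h4 hs
    have hkn : k < D.nroots := by omega
    have hlead : τ k ≠ 0 → e ≤ R.lin D.rank a k := by
      intro hk0
      obtain ⟨i, hi⟩ := exists_coroot_ne hF hkn hk0
      have h5 := Cfsg.Agent.Lib.BorelTits50.ordW_entry hF hkN hkn τ i
      have h6 := h1 _ hτ (Sum.inl i) (Sum.inr ⟨D.neg k, hF.neg_lt hkn⟩) (by simp) (by rw [h5]; exact hi)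
      rw [gr_inl, gr_inr] at h6
      have h7 : R.lin D.rank a (D.neg k) = - R.lin D.rank a k := hF.lin_neg _ hkn
      simp only at h6
      rw [h7] at h6
      omega
    have hx : hF.c.xG k (τ k) ∈ S := by
      by_cases hk0 : τ k = 0
      · rw [hk0, hF.c.xG_zero]
        exact S.one_mem
      · exact h2 k hkn (hlead hk0) _
    rcases Nat.lt_or_ge k s with hlt | hge
    · have h8 : hF.ordW (k + 1) τ ∈ S := by
        rw [hF.ordW_succ hkn] at hτ
        exact (Subgroup.mul_mem_cancel_left S hx).1 hτ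
      exact ih (k + 1) (by omega) (by omega) τ h8 s (by omega) h4 hs
    · have : s = k := by omega
      subst this
      exact hlead hs

/-- Support in a closed half space. -/
theorem support_Tri {a : ℕ → ℤ} {ℓ : D.Idx → ℕ} {M : ℤ} (hℓ : ∀ b, (ℓ b : ℤ) = gr R D a b + M)
    {k : ℕ} (hk : R.N ≤ k) {τ : ℕ → F} (h : hF.ordW k τ ∈ Tri (F := F) ℓ) {s : ℕ} (h3 : k ≤ s)
    (h4 : s < D.nroots) (h5 : τ s ≠ 0) : 0 ≤ R.lin D.rank a s := by
  have hkn : k ≤ D.nroots := by omega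
  refine support_gen hF a (Tri (F := F) ℓ) 0 le_rfl ?_ ?_ (D.nroots - k) k (by omega) hk τ h s h3 h4 h5
  · intro g hg i j hij hne
    rw [mem_Tri] at hg
    by_contra hcon
    apply hne
    apply hg
    have h7 := hℓ i
    have h8 := hℓ j
    omega
  · intro s hs h0 t
    exact xG_mem_Tri hF hℓ hs h0 t

/-- Support in an open half space. -/
theorem support_UT {a : ℕ → ℤ} {ℓ : D.Idx → ℕ} {M : ℤ} {d : ℕ} {hd : ∀ i, ℓ i < d}
    (hℓ : ∀ b, (ℓ b : ℤ) = gr R D a b + M)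
    {k : ℕ} (hk : R.N ≤ k) {τ : ℕ → F} (h : hF.ordW k τ ∈ UT (F := F) ℓ 0 d hd) {s : ℕ} (h3 : k ≤ s)
    (h4 : s < D.nroots) (h5 : τ s ≠ 0) : 1 ≤ R.lin D.rank a s := by
  have hkn : k ≤ D.nroots := by omega
  refine support_gen hF a (UT (F := F) ℓ 0 d hd) 1 (by omega) ?_ ?_ (D.nroots - k) k (by omega) hk τ h s h3 h4 h5
  · intro g hg i j hij hne
    rw [mem_UT] at hg
    by_contra hcon
    apply hne
    have h9 := hg i j (by
      have h7 := hℓ i
      have h8 := hℓ j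
      omega)
    rwa [Matrix.sub_apply, Matrix.one_apply_ne hij, sub_zero] at h9
  · intro s hs h0 t
    exact xG_mem_UT' hF hℓ hs h0 t

/-- Ordered products with support in `Q` lie in the closure of `Q`. -/
theorem ordW_mem_closure {Q : ℕ → Prop} {k : ℕ} {τ : ℕ → F}
    (h : ∀ r, k ≤ r → r < D.nroots → τ r ≠ 0 → Q r) : hF.ordW k τ ∈ rootClosure D F Q :=
  Cfsg.Agent.Lib.BorelTits50.ordW_mem_rootClosure hF h

/-- Comparing ordered products modulo `U_m`. -/
theorem coord_eq_of_mem {m : ℕ} : ∀ (n k : ℕ), k + n = D.nroots → R.N ≤ k → ∀ τ τ' : ℕ → F,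
    (hF.ordW k τ)⁻¹ * hF.ordW k τ' ∈ Uk D F m → ∀ s, k ≤ s → s < m → s < D.nroots → τ s = τ' s := by
  intro n
  induction n with
  | zero =>
    intro k hk _ τ τ' _ s h1 _ h3
    omega
  | succ n ih =>
    intro k hk hkN τ τ' h s h1 h2 h3
    have hkn : k < D.nroots := by omega
    have hkm : k < m := by omega
    have hU : (hF.ordW k τ)⁻¹ * hF.ordW k τ' ∈ Uk D F (k + 1) := hF.Uk_anti (by omega) h
    rw [hF.ordW_succ hkn, hF.ordW_succ hkn] at hU h
    have e : (hF.c.xG k (τ k) * hF.ordW (k + 1) τ)⁻¹ * (hF.c.xG k (τ' k) * hF.ordW (k + 1) τ') =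
        (hF.ordW (k + 1) τ)⁻¹ * (hF.c.xG k (-(τ k) + τ' k)) * hF.ordW (k + 1) τ' := by
      rw [← hF.c.xG_add, ← hF.c.xG_inv]
      group
    rw [e] at hU h
    have h4 : hF.c.xG k (-(τ k) + τ' k) ∈ Uk D F (k + 1) := by
      have h5 : hF.c.xG k (-(τ k) + τ' k) =
          hF.ordW (k + 1) τ * ((hF.ordW (k + 1) τ)⁻¹ * hF.c.xG k (-(τ k) + τ' k) * hF.ordW (k + 1) τ') * (hF.ordW (k + 1) τ')⁻¹ := by
        group
      rw [h5]
      exact Subgroup.mul_mem _ (Subgroup.mul_mem _ (hF.ordW_mem _ _) hU) (Subgroup.inv_mem _ (hF.ordW_mem _ _))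
    have h6 := hF.xG_not_mem hkN hkn h4
    have h7 : τ k = τ' k := by
      have : τ' k = τ k + (-(τ k) + τ' k) := by ring
      rw [this, h6, add_zero]
    rcases Nat.lt_or_ge k s with hlt | hge
    · rw [h6, hF.c.xG_zero, mul_one] at h
      exact ih (k + 1) (by omega) (by omega) τ τ' h s (by omega) h2 h3
    · have : s = k := by omega
      subst this
      exact h7

/-- If two coordinate functions agree below `m`, the quotient of the ordered products is the quotient of the tails. -/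
theorem ordW_quot {m : ℕ} : ∀ (n k : ℕ), m = k + n → ∀ τ τ' : ℕ → F, (∀ s, k ≤ s → s < m → τ s = τ' s) →
    k ≤ D.nroots → m ≤ D.nroots → (hF.ordW k τ)⁻¹ * hF.ordW k τ' = (hF.ordW m τ)⁻¹ * hF.ordW m τ' := by
  intro n
  induction n with
  | zero =>
    intro k hk τ τ' _ _ _
    subst hk
    simp
  | succ n ih =>
    intro k hk τ τ' h h1 h2
    have hkn : k < D.nroots := by omega
    rw [hF.ordW_succ hkn, hF.ordW_succ hkn, h k le_rfl (by omega), ← ih (k + 1) (by omega) τ τ'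
      (fun s h3 h4 => h s (by omega) h4) (by omega) h2]
    group

end support

end Cfsg.Agent.Lib.ChevInv
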