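import Mathlib
import Cfsg.Agent.Lib.ChevInv.Base

/-!
# Simply laced root data: linearity, the commutator relations in characteristic two
-/

set_option autoImplicit false
set_option linter.unusedSectionVars false
set_option linter.unusedVariables false
set_option linter.unnecessarySimpa false

namespace Cfsg.Agent.Lib.ChevInv

open Cfsg Cfsg.Lie Matrix Cfsg.Agent.Lib.Chev Cfsg.Agent.Lib.Chev.Full Cfsg.Agent.Lib.Chev.Tri
open Cfsg.Agent.Lib.ChevAut.LongRoot Cfsg.Agent.Lib.ChevAut.RootCent Cfsg.Agent.Lib.ChevAut.ParabFit Equiv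

variable {T : Tabs} {X : Extra} {R : RootTab} {D : ChevalleyDatum} (hF : Full T X R D)
variable {F : Type*} [Field F]

theorem lin_comb (a : ℕ → ℤ) {t r s : ℕ} {A B : ℤ}
    (h : ∀ j < D.rank, R.rcAt t j = A * R.rcAt r j + B * R.rcAt s j) :
    R.lin D.rank a t = A * R.lin D.rank a r + B * R.lin D.rank a s := by
  unfold RootTab.lin
  rw [Finset.mul_sum, Finset.mul_sum, ← Finset.sum_add_distrib]
  apply Finset.sum_congr rfl
  intro j hj
  rw [h j (Finset.mem_range.1 hj)]
  ring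

theorem om_eq (o s : ℕ) : om R D o s = R.lin D.rank (fun j => D.cartan j o) s := rfl

section roots

include hF

theorem om_neg (o : ℕ) {r : ℕ} (hr : r < D.nroots) : om R D o (D.neg r) = - om R D o r :=
  hF.lin_neg _ hr

theorem lin_term (a : ℕ → ℤ) {r s : ℕ} (hr : r < D.nroots) (hs : s < D.nroots) (h1 : s ≠ r)
    (h2 : s ≠ D.neg r) {c : ℕ × ℤ × ℕ × ℕ} (hc : c ∈ D.commTerms r s) :
    R.lin D.rank a c.1 = (c.2.2.1 : ℤ) * R.lin D.rank a r + (c.2.2.2 : ℤ) * R.lin D.rank a s :=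
  lin_comb a (hF.commTerms_spec hr hs h1 h2 hc).2.2.2

theorem om_term (o : ℕ) {r s : ℕ} (hr : r < D.nroots) (hs : s < D.nroots) (h1 : s ≠ r)
    (h2 : s ≠ D.neg r) {c : ℕ × ℤ × ℕ × ℕ} (hc : c ∈ D.commTerms r s) :
    om R D o c.1 = (c.2.2.1 : ℤ) * om R D o r + (c.2.2.2 : ℤ) * om R D o s :=
  lin_term hF _ hr hs h1 h2 hc

/-- The linear functional `phiW` is injective on roots. -/
theorem phi_inj {r s : ℕ} (hr : r < D.nroots) (hs : s < D.nroots)
    (h : R.lin D.rank hF.phiW r = R.lin D.rank hF.phiW s) : r = s := by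
  rcases Nat.lt_trichotomy r s with h1 | h1 | h1
  · have := hF.phi_strict h1 hs
    omega
  · exact h1
  · have := hF.phi_strict h1 hr
    omega

theorem root_eq_of_rc {r s : ℕ} (hr : r < D.nroots) (hs : s < D.nroots)
    (h : ∀ j < D.rank, R.rcAt r j = R.rcAt s j) : r = s := by
  apply phi_inj hF hr hs
  unfold RootTab.lin
  apply Finset.sum_congr rfl
  intro j hj
  rw [h j (Finset.mem_range.1 hj)]

variable (hSL : SL R D)
include hSL

theorem om_neg_self {r : ℕ} (hr : r < D.nroots) : om R D r (D.neg r) = -2 := by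
  rw [om_neg hF _ hr, hSL.self r hr]

/-- Orthogonal or obtuse pairs have no commutator terms when the inner product is non-negative. -/
theorem nil_of_nonneg {r s : ℕ} (hr : r < D.nroots) (hs : s < D.nroots) (h1 : s ≠ r)
    (h2 : s ≠ D.neg r) (h0 : 0 ≤ om R D r s) : D.commTerms r s = [] := by
  rw [List.eq_nil_iff_forall_not_mem]
  intro c hc
  have hsp := hF.commTerms_spec hr hs h1 h2 hc
  have hk : c.1 < D.nroots := hsp.1
  have hi : (1 : ℤ) ≤ (c.2.2.1 : ℤ) := by exact_mod_cast hsp.2.1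
  have hj : (1 : ℤ) ≤ (c.2.2.2 : ℤ) := by exact_mod_cast hsp.2.2.1
  have e1 := om_term hF c.1 hr hs h1 h2 hc
  have e2 := om_term hF r hr hs h1 h2 hc
  have e3 := om_term hF s hr hs h1 h2 hc
  have e4 := hSL.self _ hk
  have e5 := hSL.self _ hr
  have e6 := hSL.self _ hs
  have e7 := hSL.symm _ hk _ hr
  have e8 := hSL.symm _ hk _ hs
  have e9 := hSL.symm _ hs _ hr
  rw [e7, e8, e2, e3, e5, e6, e9] at e1
  rw [e4] at e1
  generalize (c.2.2.1 : ℤ) = i at *
  generalize (c.2.2.2 : ℤ) = j at *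
  generalize om R D r s = e at *
  nlinarith [mul_nonneg (mul_nonneg (by omega : (0:ℤ) ≤ i) (by omega : (0:ℤ) ≤ j)) h0, mul_self_nonneg (i - 1), mul_self_nonneg (j - 1)]

theorem comm_of_nonneg {r s : ℕ} (hr : r < D.nroots) (hs : s < D.nroots) (h1 : s ≠ r)
    (h2 : s ≠ D.neg r) (h0 : 0 ≤ om R D r s) (t u : F) :
    hF.c.xG s u * hF.c.xG r t = hF.c.xG r t * hF.c.xG s u := by
  have h := hF.xG_comm hr hs h1 h2 t u
  have h3 : D.commWord F r s t u = [] := by
    simp [ChevalleyDatum.commWord, nil_of_nonneg hF hSL hr hs h1 h2 h0]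
  rw [h3, Checks.wordG_nil, mul_one] at h
  exact h

theorem comm_of_orth {r s : ℕ} (hr : r < D.nroots) (hs : s < D.nroots)
    (h0 : om R D r s = 0) (t u : F) :
    hF.c.xG s u * hF.c.xG r t = hF.c.xG r t * hF.c.xG s u := by
  have h1 : s ≠ r := by
    rintro rfl
    rw [hSL.self _ hr] at h0
    omega
  have h2 : s ≠ D.neg r := by
    rintro rfl
    rw [om_neg_self hF hSL hr] at h0
    omega
  exact comm_of_nonneg hF hSL hr hs h1 h2 (by omega) t u

/-- The range of the inner product -/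
theorem om_le_two {r s : ℕ} (hr : r < D.nroots) (hs : s < D.nroots) : om R D r s ≤ 2 ∧ -2 ≤ om R D r s := by
  by_cases h1 : s = r
  · subst h1
    rw [hSL.self _ hr]
    omega
  by_cases h2 : s = D.neg r
  · subst h2
    rw [om_neg_self hF hSL hr]
    omega
  · have := hSL.range r hr s hs h1 h2
    omega

theorem eq_of_om_two {r s : ℕ} (hr : r < D.nroots) (hs : s < D.nroots) (h : om R D r s = 2) : s = r := by
  by_contra h1
  by_cases h2 : s = D.neg r
  · subst h2
    rw [om_neg_self hF hSL hr] at h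
    omega
  · have := hSL.range r hr s hs h1 h2
    omega

theorem eq_of_om_neg_two {r s : ℕ} (hr : r < D.nroots) (hs : s < D.nroots) (h : om R D r s = -2) :
    s = D.neg r := by
  by_contra h2
  by_cases h1 : s = r
  · subst h1
    rw [hSL.self _ hr] at h
    omega
  · have := hSL.range r hr s hs h1 h2
    omega

/-- If `om r s = -1` the pair is not `r, ±r`. -/
theorem ne_of_om_neg_one {r s : ℕ} (hr : r < D.nroots) (hs : s < D.nroots) (h : om R D r s = -1) :
    s ≠ r ∧ s ≠ D.neg r := by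
  constructor
  · rintro rfl
    rw [hSL.self _ hr] at h
    omega
  · rintro rfl
    rw [om_neg_self hF hSL hr] at h
    omega

/-- The commutator formula in characteristic two for a pair with `om r s = -1`. -/
theorem conj_one [CharP F 2] {r s : ℕ} (hr : r < D.nroots) (hs : s < D.nroots) (h : om R D r s = -1)
    {k : ℕ} {c : ℤ} (hk : D.commTerms r s = [(k, c, 1, 1)]) (hc : c = 1 ∨ c = -1) (t u : F) :
    hF.c.xG r t * hF.c.xG s u * (hF.c.xG r t)⁻¹ = hF.c.xG s u * hF.c.xG k (t * u) := by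
  obtain ⟨h1, h2⟩ := ne_of_om_neg_one hF hSL hr hs h
  rw [hF.xG_conj hr hs h1 h2]
  congr 1
  have hc' : ((c : ℤ) : F) = 1 := by
    rcases hc with rfl | rfl
    · simp
    · simp [CharTwo.neg_eq]
  simp [ChevalleyDatum.commWord, hk, Checks.wordG_cons, Checks.wordG_nil, hc']

/-- `m - r` for `om r m = 1`. -/
theorem exists_sub {r m : ℕ} (hr : r < D.nroots) (hm : m < D.nroots) (h : om R D r m = 1) :
    ∃ v < D.nroots, (∀ a : ℕ → ℤ, R.lin D.rank a v = R.lin D.rank a m - R.lin D.rank a r) ∧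
      om R D v r = -1 ∧ ∃ c : ℤ, D.commTerms v r = [(m, c, 1, 1)] ∧ (c = 1 ∨ c = -1) := by
  have hnr := hF.neg_lt hr
  have h1 : om R D m (D.neg r) = -1 := by
    rw [om_neg hF _ hr, hSL.symm m hm r hr, h]
  obtain ⟨v, c, c', h2, -, -, -⟩ := hSL.one m hm _ hnr h1
  have hne := ne_of_om_neg_one hF hSL hm hnr h1
  have hv : (v, c, 1, 1) ∈ D.commTerms m (D.neg r) := by rw [h2]; simp
  have hsp := hF.commTerms_spec hm hnr hne.1 hne.2 hv
  have hvn : v < D.nroots := hsp.1
  have hrcv : ∀ j < D.rank, R.rcAt v j = R.rcAt m j + (-1) * R.rcAt r j := by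
    intro j hj
    have h3 := hsp.2.2.2 j hj
    simp only [Nat.cast_one, one_mul] at h3
    rw [h3, hF.rc_neg hr hj]
    ring
  have hlin : ∀ a : ℕ → ℤ, R.lin D.rank a v = R.lin D.rank a m - R.lin D.rank a r := by
    intro a
    have h3 : ∀ j < D.rank, R.rcAt v j = (1 : ℤ) * R.rcAt m j + (-1) * R.rcAt r j := by
      intro j hj
      rw [hrcv j hj]
      ring
    rw [lin_comb a h3]
    ring
  have h4 : om R D v r = -1 := by
    rw [hSL.symm v hvn r hr, om_eq, hlin, ← om_eq, ← om_eq, h, hSL.self r hr]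
    norm_num
  obtain ⟨k, c1, c2, h5, h6, -, -⟩ := hSL.one v hvn r hr h4
  have hne2 := ne_of_om_neg_one hF hSL hvn hr h4
  have hk : (k, c1, 1, 1) ∈ D.commTerms v r := by rw [h5]; simp
  have hsp2 := hF.commTerms_spec hvn hr hne2.1 hne2.2 hk
  have hkm : k = m := by
    apply root_eq_of_rc hF hsp2.1 hm
    intro j hj
    have h7 := hsp2.2.2.2 j hj
    simp only [Nat.cast_one, one_mul] at h7
    rw [h7, hrcv j hj]
    ring
  subst hkm
  exact ⟨v, hvn, hlin, h4, c1, h5, h6⟩

end roots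

end Cfsg.Agent.Lib.ChevInv
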