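import Mathlib
import Cfsg.Agent.Lib.ChevInv.Comm

/-!
# Normal form of involutions in `U`: clearing the coordinates with inner product one
-/

set_option autoImplicit false
set_option linter.unusedSectionVars false
set_option linter.unusedVariables false
set_option linter.unnecessarySimpa false

namespace Cfsg.Agent.Lib.ChevInv

open Cfsg Cfsg.Lie Matrix Cfsg.Agent.Lib.Chev Cfsg.Agent.Lib.Chev.Full Cfsg.Agent.Lib.Chev.Tri
open Cfsg.Agent.Lib.ChevAut.LongRoot Cfsg.Agent.Lib.ChevAut.RootCent Cfsg.Agent.Lib.ChevAut.ParabFit Equiv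

variable {T : Tabs} {X : Extra} {R : RootTab} {D : ChevalleyDatum} (hF : Full T X R D)
variable {F : Type*} [Field F]

/-- Levels for a grading -/
theorem exists_level (a : ℕ → ℤ) : ∃ (ℓ : D.Idx → ℕ) (M : ℤ), ∀ b, (ℓ b : ℤ) = gr R D a b + M := by
  refine ⟨fun b => (gr R D a b + ∑ c, |gr R D a c|).toNat, ∑ c, |gr R D a c|, fun b => ?_⟩
  apply Int.toNat_of_nonneg
  have h1 : |gr R D a b| ≤ ∑ c, |gr R D a c| :=
    Finset.single_le_sum (f := fun c => |gr R D a c|) (fun _ _ => abs_nonneg _) (Finset.mem_univ b)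
  have h2 := neg_abs_le (gr R D a b)
  linarith

/-- A bound for levels. -/
theorem level_lt (ℓ : D.Idx → ℕ) (i : D.Idx) : ℓ i < Finset.univ.sup ℓ + 1 :=
  Nat.lt_succ_of_le (Finset.le_sup (f := ℓ) (Finset.mem_univ i))

theorem rootClosure_mono {Q Q' : ℕ → Prop} (h : ∀ s, Q s → Q' s) :
    rootClosure D F Q ≤ rootClosure D F Q' := by
  apply Subgroup.closure_mono
  rintro g ⟨s, t, hs, hg⟩
  exact ⟨s, t, h s hs, hg⟩

/-- Positive roots orthogonal to a list. -/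
def Sg (R : RootTab) (D : ChevalleyDatum) (O : List ℕ) (s : ℕ) : Prop :=
  R.N ≤ s ∧ s < D.nroots ∧ ∀ o ∈ O, om R D o s = 0

section part

include hF

theorem lin_negF (a : ℕ → ℤ) (s : ℕ) : R.lin D.rank (fun j => - a j) s = - R.lin D.rank a s := by
  unfold RootTab.lin
  rw [← Finset.sum_neg_distrib]
  apply Finset.sum_congr rfl
  intro j _
  ring

theorem support_Sg {O : List ℕ} {k : ℕ} (hk : R.N ≤ k) {τ : ℕ → F}
    (h : hF.ordW k τ ∈ rootClosure D F (Sg R D O)) {s : ℕ} (h3 : k ≤ s) (h4 : s < D.nroots)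
    (h5 : τ s ≠ 0) : Sg R D O s := by
  refine ⟨by omega, h4, ?_⟩
  intro o ho
  obtain ⟨ℓ, M, hℓ⟩ := exists_level (R := R) (D := D) (fun j => D.cartan j o)
  obtain ⟨ℓ', M', hℓ'⟩ := exists_level (R := R) (D := D) (fun j => - D.cartan j o)
  have h1 : rootClosure D F (Sg R D O) ≤ Tri (F := F) ℓ := by
    apply rootClosure_le_Tri hF hℓ
    intro s hs
    refine ⟨hs.2.1, ?_⟩
    have := hs.2.2 o ho
    unfold om at this
    omega
  have h2 : rootClosure D F (Sg R D O) ≤ Tri (F := F) ℓ' := by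
    apply rootClosure_le_Tri hF hℓ'
    intro s hs
    refine ⟨hs.2.1, ?_⟩
    have := hs.2.2 o ho
    unfold om at this
    rw [lin_negF hF]
    omega
  have h6 := support_Tri hF hℓ hk (h1 h) h3 h4 h5
  have h7 := support_Tri hF hℓ' hk (h2 h) h3 h4 h5
  rw [lin_negF hF] at h7
  unfold om
  omega

/-- A commutator of two positive root elements is high. -/
theorem comm_high {s v m : ℕ} (hs : s < D.nroots) (hsN : R.N ≤ s) (hv : v < D.nroots) (hvN : R.N ≤ v)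
    (hm : m < D.nroots) (hmN : R.N ≤ m)
    (h : R.lin D.rank hF.phiW m < R.lin D.rank hF.phiW s + R.lin D.rank hF.phiW v) (b a : F) :
    hF.c.xG s b * hF.c.xG v a * (hF.c.xG s b)⁻¹ * (hF.c.xG v a)⁻¹ ∈ Uk D F (m + 1) := by
  by_cases hsv : v = s
  · subst hsv
    rw [hF.c.xG_inv, hF.c.xG_inv, hF.c.xG_add, hF.c.xG_add, hF.c.xG_add]
    have : b + a + -b + -a = 0 := by ring
    rw [this, hF.c.xG_zero]
    exact Subgroup.one_mem _
  · have hneg : v ≠ D.neg s := neg_ne_of_pos hF hs hsN hvN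
    rw [hF.xG_conj hs hv hsv hneg]
    have h1 : hF.c.wordG (D.commWord F s v (-b) a) ∈ Uk D F (m + 1) := by
      apply hF.c.wordG_mem
      intro p hp
      simp only [ChevalleyDatum.commWord, List.mem_map] at hp
      obtain ⟨c, hc, rfl⟩ := hp
      have h3 := hF.commTerm_pos hs hv hsv hneg hc hsN hvN
      have h4 := hF.commTerms_spec hs hv hsv hneg hc
      have h5 := lin_term hF hF.phiW hs hv hsv hneg hc
      have h6 := hF.phi_pos hs hsN
      have h7 := hF.phi_pos hv hvN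
      have h8 : (1 : ℤ) ≤ (c.2.2.1 : ℤ) := by exact_mod_cast h4.2.1
      have h9 : (1 : ℤ) ≤ (c.2.2.2 : ℤ) := by exact_mod_cast h4.2.2.1
      have h10 : R.lin D.rank hF.phiW m < R.lin D.rank hF.phiW c.1 := by
        rw [h5]
        nlinarith
      have h11 := (hF.phi_lt_iff hm h4.1).1 h10
      exact hF.xG_mem_rootClosure ⟨by omega, h4.1⟩ _
    have h2 := hF.xG_mem_normalizer_Uk hv hvN (k := m + 1) (by omega) a
    have h3 := (Subgroup.mem_set_normalizer_iff.1 h2 _).1 h1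
    have e : hF.c.xG v a * hF.c.wordG (D.commWord F s v (-b) a) * (hF.c.xG v a)⁻¹ =
      hF.c.xG v a * hF.c.wordG (D.commWord F s v (-b) a) * (hF.c.xG v a)⁻¹ := rfl
    exact h3

theorem Uk_le_posU {k : ℕ} (hk : R.N ≤ k) : Uk D F k ≤ D.posUnipotent F := by
  rw [hF.U_eq_Uk]
  exact hF.Uk_anti hk

/-- The commutator with a whole group `U_k`. -/
theorem comm_high_U {k v m : ℕ} (hk : R.N ≤ k) (hv : v < D.nroots) (hvN : R.N ≤ v)
    (hm : m < D.nroots) (hmN : R.N ≤ m)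
    (h : ∀ s, k ≤ s → s < D.nroots → R.lin D.rank hF.phiW m < R.lin D.rank hF.phiW s + R.lin D.rank hF.phiW v)
    (a : F) {y : GL D.Idx F} (hy : y ∈ Uk D F k) :
    y * hF.c.xG v a * y⁻¹ * (hF.c.xG v a)⁻¹ ∈ Uk D F (m + 1) := by
  have hnorm := hF.U_le_normalizer_Uk (F := F) (k := m + 1) (by omega)
  have hconj : ∀ g ∈ Uk D F k, ∀ z ∈ Uk D F (m + 1), g * z * g⁻¹ ∈ Uk D F (m + 1) := by
    intro g hg z hz
    exact (Subgroup.mem_set_normalizer_iff.1 (hnorm (Uk_le_posU hF hk hg)) z).1 hz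
  unfold Uk at hy hconj
  unfold rootClosure at hy hconj
  induction hy using Subgroup.closure_induction with
  | mem g hg =>
    obtain ⟨s, b, ⟨hs1, hs2⟩, hg⟩ := hg
    rw [hF.c.eq_xG hg]
    exact comm_high hF hs2 (by omega) hv hvN hm hmN (h s hs1 hs2) b a
  | one =>
    simp only [one_mul, inv_one, mul_one, mul_inv_cancel]
    exact Subgroup.one_mem _
  | mul a' b' ha hb iha ihb =>
    have h1 : a' * b' * hF.c.xG v a * (a' * b')⁻¹ * (hF.c.xG v a)⁻¹ =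
        a' * (b' * hF.c.xG v a * b'⁻¹ * (hF.c.xG v a)⁻¹) * a'⁻¹ *
          (a' * hF.c.xG v a * a'⁻¹ * (hF.c.xG v a)⁻¹) := by group
    rw [h1]
    exact Subgroup.mul_mem _ (hconj _ ha _ ihb) iha
  | inv a' ha iha =>
    have h1 : a'⁻¹ * hF.c.xG v a * a'⁻¹⁻¹ * (hF.c.xG v a)⁻¹ =
        a'⁻¹ * (a' * hF.c.xG v a * a'⁻¹ * (hF.c.xG v a)⁻¹)⁻¹ * a'⁻¹⁻¹ := by
      group
    rw [h1]
    exact hconj _ (Subgroup.inv_mem _ ha) _ (Subgroup.inv_mem _ iha)

/-- Coordinates of `y' ≡ y x_m(b)` modulo `U_{m+1}`. -/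
theorem coord_of_mul {k m : ℕ} (hkN : R.N ≤ k) (hkm : k ≤ m) (hm : m < D.nroots) {τ τ' : ℕ → F} {b : F}
    (h : (hF.ordW k τ)⁻¹ * hF.ordW k τ' * (hF.c.xG m b)⁻¹ ∈ Uk D F (m + 1)) :
    (∀ s, k ≤ s → s < m → τ s = τ' s) ∧ τ' m = τ m + b := by
  have hmN : R.N ≤ m := by omega
  have hxm : hF.c.xG m b ∈ Uk D F m := hF.xG_mem_rootClosure ⟨le_rfl, hm⟩ b
  have h1 : (hF.ordW k τ)⁻¹ * hF.ordW k τ' ∈ Uk D F m := by
    have := Subgroup.mul_mem _ (hF.Uk_anti (Nat.le_succ m) h) hxm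
    simpa using this
  have h2 : ∀ s, k ≤ s → s < m → τ s = τ' s := fun s hs1 hs2 =>
    coord_eq_of_mem hF (D.nroots - k) k (by omega) hkN τ τ' h1 s hs1 hs2 (by omega)
  refine ⟨h2, ?_⟩
  rw [ordW_quot hF (m - k) k (by omega) τ τ' h2 (by omega) (by omega), hF.ordW_succ hm, hF.ordW_succ hm] at h
  set A := hF.ordW (m + 1) τ with hA
  set B := hF.ordW (m + 1) τ' with hB
  have hAm : A ∈ Uk D F (m + 1) := hF.ordW_mem _ _
  have hBm : B ∈ Uk D F (m + 1) := hF.ordW_mem _ _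
  have e : (hF.c.xG m (τ m) * A)⁻¹ * (hF.c.xG m (τ' m) * B) * (hF.c.xG m b)⁻¹ =
      A⁻¹ * hF.c.xG m (-(τ m) + τ' m + -b) * (hF.c.xG m b * B * (hF.c.xG m b)⁻¹) := by
    rw [← hF.c.xG_add, ← hF.c.xG_add, ← hF.c.xG_inv, ← hF.c.xG_inv]
    group
  rw [e] at h
  have hnorm := hF.xG_mem_normalizer_Uk hm hmN (k := m + 1) (by omega) b
  have h3 := (Subgroup.mem_set_normalizer_iff.1 hnorm B).1 hBm
  have h4 : hF.c.xG m (-(τ m) + τ' m + -b) ∈ Uk D F (m + 1) := by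
    have e2 : hF.c.xG m (-(τ m) + τ' m + -b) =
        A * (A⁻¹ * hF.c.xG m (-(τ m) + τ' m + -b) * (hF.c.xG m b * B * (hF.c.xG m b)⁻¹)) *
          (hF.c.xG m b * B * (hF.c.xG m b)⁻¹)⁻¹ := by group
    rw [e2]
    exact Subgroup.mul_mem _ (Subgroup.mul_mem _ hAm h) (Subgroup.inv_mem _ h3)
  have h5 := hF.xG_not_mem hmN hm h4
  linear_combination h5

/-- One elimination step -/
theorem elim_step {r₀ v m : ℕ} (hr₀N : R.N ≤ r₀) (hr₀ : r₀ < D.nroots) (hv : v < D.nroots) (hvN : R.N ≤ v)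
    (hm : m < D.nroots)
    (hphi : R.lin D.rank hF.phiW m = R.lin D.rank hF.phiW r₀ + R.lin D.rank hF.phiW v)
    {Qa : ℕ → Prop} (hQa : ∀ s, Qa s → r₀ < s ∧ s < D.nroots) (hmQ : Qa m) {a c b : F}
    (hnorm : hF.c.xG v a ∈ Subgroup.normalizer (rootClosure D F Qa : Set (GL D.Idx F)))
    (hsupp : ∀ τ' : ℕ → F, hF.ordW (r₀ + 1) τ' ∈ rootClosure D F Qa →
      ∀ s, r₀ < s → s < D.nroots → τ' s ≠ 0 → Qa s)
    (hz : hF.c.xG v a * hF.c.xG r₀ c * (hF.c.xG v a)⁻¹ = hF.c.xG r₀ c * hF.c.xG m b)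
    {τ : ℕ → F} (hτ : ∀ s, r₀ < s → s < D.nroots → τ s ≠ 0 → Qa s) :
    ∃ τ'' : ℕ → F, (∀ s, r₀ < s → s < D.nroots → τ'' s ≠ 0 → Qa s) ∧
      (∀ s, r₀ < s → s < m → τ'' s = τ s) ∧ τ'' m = τ m + b ∧
      hF.c.xG v a * (hF.c.xG r₀ c * hF.ordW (r₀ + 1) τ) * (hF.c.xG v a)⁻¹ =
        hF.c.xG r₀ c * hF.ordW (r₀ + 1) τ'' := by
  have hr₀m : r₀ < m := (hQa m hmQ).1
  have hmN : R.N ≤ m := by omega
  have hkN : R.N ≤ r₀ + 1 := by omega
  have hKle : rootClosure D F Qa ≤ Uk D F (r₀ + 1) :=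
    rootClosure_mono (fun s hs => ⟨(hQa s hs).1, (hQa s hs).2⟩)
  set y := hF.ordW (r₀ + 1) τ with hy
  have hyK : y ∈ rootClosure D F Qa :=
    ordW_mem_closure hF (fun r hr1 hr2 hr3 => hτ r (by omega) hr2 hr3)
  have hxm : hF.c.xG m b ∈ rootClosure D F Qa := hF.xG_mem_rootClosure hmQ b
  have hgy := (Subgroup.mem_set_normalizer_iff.1 hnorm y).1 hyK
  set y' := hF.c.xG m b * (hF.c.xG v a * y * (hF.c.xG v a)⁻¹) with hy'
  have hy'K : y' ∈ rootClosure D F Qa := Subgroup.mul_mem _ hxm hgy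
  obtain ⟨τ'', hτ''⟩ := hF.exists_ordW (D.nroots - (r₀ + 1)) (r₀ + 1) (by omega) hkN y' (hKle hy'K)
  have hy'eq : hF.ordW (r₀ + 1) τ'' ∈ rootClosure D F Qa := by rw [← hτ'']; exact hy'K
  -- the coordinates
  have hU : y⁻¹ ∈ D.posUnipotent F := Uk_le_posU hF hkN (Subgroup.inv_mem _ (hKle hyK))
  have h1 := hF.comm_xG_mem_Uk (k := m) hmN hm hU b
  have h2 : y⁻¹ * hF.c.xG v a * y⁻¹⁻¹ * (hF.c.xG v a)⁻¹ ∈ Uk D F (m + 1) := by
    apply comm_high_U hF hkN hv hvN hm hmN _ a (Subgroup.inv_mem _ (hKle hyK))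
    intro s hs1 hs2
    have := (hF.phi_lt_iff hr₀ hs2).2 (by omega : r₀ < s)
    omega
  have hnm := hF.xG_mem_normalizer_Uk hm hmN (k := m + 1) (by omega) b
  have h3 := (Subgroup.mem_set_normalizer_iff.1 hnm _).1 h2
  have hcoord : y⁻¹ * hF.ordW (r₀ + 1) τ'' * (hF.c.xG m b)⁻¹ ∈ Uk D F (m + 1) := by
    rw [← hτ'']
    have e : y⁻¹ * y' * (hF.c.xG m b)⁻¹ =
        (y⁻¹ * hF.c.xG m b * y⁻¹⁻¹ * (hF.c.xG m b)⁻¹) *
        (hF.c.xG m b * (y⁻¹ * hF.c.xG v a * y⁻¹⁻¹ * (hF.c.xG v a)⁻¹) * (hF.c.xG m b)⁻¹) := by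
      rw [hy']
      group
    rw [e]
    exact Subgroup.mul_mem _ h1 h3
  obtain ⟨h4, h5⟩ := coord_of_mul hF hkN (by omega) hm hcoord
  refine ⟨τ'', fun s hs1 hs2 hs3 => hsupp τ'' hy'eq s hs1 hs2 hs3, fun s hs1 hs2 => (h4 s hs1 hs2).symm, h5, ?_⟩
  rw [← hτ'', hy']
  calc hF.c.xG v a * (hF.c.xG r₀ c * y) * (hF.c.xG v a)⁻¹
      = (hF.c.xG v a * hF.c.xG r₀ c * (hF.c.xG v a)⁻¹) * (hF.c.xG v a * y * (hF.c.xG v a)⁻¹) := by group
    _ = hF.c.xG r₀ c * (hF.c.xG m b * (hF.c.xG v a * y * (hF.c.xG v a)⁻¹)) := by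
      rw [hz]
      group

variable (hSL : SL R D)
include hSL

/-- Killing the part of inner product one. -/
theorem stepA [CharP F 2] {O : List ℕ} {r₀ : ℕ} (hr₀ : Sg R D O r₀) {c : F} (hc : c ≠ 0) :
    ∀ (n m : ℕ), m + n = D.nroots → ∀ τ : ℕ → F,
      (∀ s, r₀ < s → s < D.nroots → τ s ≠ 0 → Sg R D O s) →
      (∀ s, r₀ < s → s < m → s < D.nroots → τ s ≠ 0 → om R D r₀ s ≠ 1) →
      ∃ h ∈ rootClosure D F (Sg R D O), ∃ τ' : ℕ → F,
        (∀ s, r₀ < s → s < D.nroots → τ' s ≠ 0 → Sg R D O s) ∧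
        (∀ s, r₀ < s → s < D.nroots → τ' s ≠ 0 → om R D r₀ s ≠ 1) ∧
        h * (hF.c.xG r₀ c * hF.ordW (r₀ + 1) τ) * h⁻¹ = hF.c.xG r₀ c * hF.ordW (r₀ + 1) τ' := by
  obtain ⟨hr₀N, hr₀n, hr₀O⟩ := hr₀
  intro n
  induction n with
  | zero =>
    intro m hm τ h1 h2
    refine ⟨1, Subgroup.one_mem _, τ, h1, ?_, by group⟩
    intro s hs1 hs2 hs3
    exact h2 s hs1 (by omega) hs2 hs3
  | succ n ih =>
    intro m hm τ h1 h2
    have hmn : m < D.nroots := by omega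
    by_cases hcase : r₀ < m ∧ τ m ≠ 0 ∧ om R D r₀ m = 1
    · obtain ⟨hr₀m, hτm, hom⟩ := hcase
      have hmS : Sg R D O m := h1 m hr₀m hmn hτm
      obtain ⟨v, hvn, hlin, hvr, ε, hterm, hε⟩ := exists_sub hF hSL hr₀n hmn hom
      have hvφ : R.lin D.rank hF.phiW v = R.lin D.rank hF.phiW m - R.lin D.rank hF.phiW r₀ := hlin _
      have hlt := (hF.phi_lt_iff hr₀n hmn).2 hr₀m
      have hvN : R.N ≤ v := by
        by_contra hcon
        have := hF.phi_neg (r := v) (by omega)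
        omega
      have hvS : Sg R D O v := by
        refine ⟨hvN, hvn, fun o ho => ?_⟩
        rw [om_eq, hlin, ← om_eq, ← om_eq, hmS.2.2 o ho, hr₀O o ho]
        simp
      set Qa : ℕ → Prop := fun s => Sg R D O s ∧ r₀ < s with hQa
      have hQn : ∀ s, Qa s → r₀ < s ∧ s < D.nroots := fun s hs => ⟨hs.2, hs.1.2.1⟩
      have hnorm : ∀ a : F, hF.c.xG v a ∈ Subgroup.normalizer (rootClosure D F Qa : Set (GL D.Idx F)) := by
        intro a
        apply hF.xG_mem_normalizer hvn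
        · intro s hs
          exact ⟨hs.1.2.1, neg_ne_of_pos hF hvn hvN hs.1.1⟩
        · intro s hs hsv c' hc'
          have hne := neg_ne_of_pos hF hvn hvN hs.1.1
          have h3 := hF.commTerm_pos hvn hs.1.2.1 hsv hne hc' hvN hs.1.1
          have h4 := hF.commTerms_spec hvn hs.1.2.1 hsv hne hc'
          refine ⟨⟨h3.1, h4.1, fun o ho => ?_⟩, by have := hs.2; omega⟩
          rw [om_term hF o hvn hs.1.2.1 hsv hne hc', hvS.2.2 o ho, hs.1.2.2 o ho]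
          simp
      have hsupp : ∀ τ' : ℕ → F, hF.ordW (r₀ + 1) τ' ∈ rootClosure D F Qa →
          ∀ s, r₀ < s → s < D.nroots → τ' s ≠ 0 → Qa s := by
        intro τ' hτ' s hs1 hs2 hs3
        have h5 : hF.ordW (r₀ + 1) τ' ∈ rootClosure D F (Sg R D O) := rootClosure_mono (fun s hs => hs.1) hτ'
        exact ⟨support_Sg hF (by omega) h5 (by omega) hs2 hs3, hs1⟩
      have hconj := conj_one hF hSL hvn hr₀n hvr hterm hε (τ m / c) c
      have hb : τ m / c * c = τ m := by field_simp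
      rw [hb] at hconj
      obtain ⟨τ'', h5, h6, h7, h8⟩ := elim_step hF hr₀N hr₀n hvn hvN hmn
        (by rw [hvφ]; ring) hQn ⟨hmS, hr₀m⟩ (hnorm (τ m / c)) hsupp hconj
        (τ := τ) (fun s hs1 hs2 hs3 => ⟨h1 s hs1 hs2 hs3, hs1⟩)
      have h9 : τ'' m = 0 := by
        rw [h7]
        exact CharTwo.add_self_eq_zero _
      obtain ⟨h', hh', τ', hA, hB, hE⟩ := ih (m + 1) (by omega) τ''
        (fun s hs1 hs2 hs3 => (h5 s hs1 hs2 hs3).1)
        (by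
          intro s hs1 hs2 hs3 hs4
          rcases Nat.lt_or_ge s m with hlt' | hge
          · rw [h6 s hs1 hlt'] at hs4
            exact h2 s hs1 hlt' hs3 hs4
          · have : s = m := by omega
            subst this
            exact absurd h9 hs4)
      refine ⟨h' * hF.c.xG v (τ m / c), Subgroup.mul_mem _ hh' (hF.xG_mem_rootClosure hvS _), τ', hA, hB, ?_⟩
      rw [← hE, ← h8]
      group
    · obtain ⟨h', hh', τ', hA, hB, hE⟩ := ih (m + 1) (by omega) τ h1 (by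
          intro s hs1 hs2 hs3 hs4
          rcases Nat.lt_or_ge s m with hlt' | hge
          · exact h2 s hs1 hlt' hs3 hs4
          · have : s = m := by omega
            subst this
            intro hom
            exact hcase ⟨hs1, hs4, hom⟩)
      exact ⟨h', hh', τ', hA, hB, hE⟩

end part

end Cfsg.Agent.Lib.ChevInv
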