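import Mathlib
import Cfsg.Agent.Lib.ChevInv.StepA

/-!
# Normal form of involutions in `U`: the part of inner product `-1` vanishes
-/

set_option autoImplicit false
set_option linter.unusedSectionVars false
set_option linter.unusedVariables false
set_option linter.unnecessarySimpa false

namespace Cfsg.Agent.Lib.ChevInv

open Cfsg Cfsg.Lie Matrix Cfsg.Agent.Lib.Chev Cfsg.Agent.Lib.Chev.Full Cfsg.Agent.Lib.Chev.Tri
open Cfsg.Agent.Lib.ChevAut.LongRoot Cfsg.Agent.Lib.ChevAut.RootCent Cfsg.Agent.Lib.ChevAut.ParabFit Equiv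

variable {T : Tabs} {X : Extra} {R : RootTab} {D : ChevalleyDatum} (hF : Full T X R D)
variable {F : Type*} [Field F]

theorem gr_negF (a : ℕ → ℤ) (b : D.Idx) : gr R D (fun j => - a j) b = - gr R D a b := by
  cases b with
  | inl i => simp [gr_inl]
  | inr s =>
    rw [gr_inr, gr_inr]
    unfold RootTab.lin
    rw [← Finset.sum_neg_distrib]
    apply Finset.sum_congr rfl
    intro j _
    ring

theorem rootClosure_or_le (P P' : ℕ → Prop) :
    rootClosure D F (fun s => P s ∨ P' s) ≤ rootClosure D F P ⊔ rootClosure D F P' := by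
  rw [rootClosure, Subgroup.closure_le]
  rintro g ⟨s, t, hs | hs, hg⟩
  · exact Subgroup.mem_sup_left (Subgroup.subset_closure ⟨s, t, hs, hg⟩)
  · exact Subgroup.mem_sup_right (Subgroup.subset_closure ⟨s, t, hs, hg⟩)

section part

include hF

/-- Entry of `x_s` on a chain. -/
theorem x_entry_chain {s r k : ℕ} (hs : s < D.nroots) (hr : r < D.nroots) (hk : k < D.nroots)
    (h1 : r ≠ s) (h2 : r ≠ D.neg s) (h3 : k ≠ r) {c' : ℤ} (hc : D.chainCoeff s r k = [(1, c')]) (b : F) :
    D.x F s b (Sum.inr ⟨k, hk⟩) (Sum.inr ⟨r, hr⟩) = (c' : F) * b := by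
  have hx : D.x F s b = D.xMat F ⟨s, hs⟩ b := by simp [ChevalleyDatum.x, hs]
  rw [hx]
  have h4 : (⟨r, hr⟩ : Fin D.nroots) ≠ ⟨s, hs⟩ := by
    intro h
    exact h1 (Fin.mk.inj_iff.1 h)
  have h5 : ¬ r = D.negIdx.getD s 0 := h2
  have h6 : (⟨k, hk⟩ : Fin D.nroots) ≠ ⟨r, hr⟩ := by
    intro h
    exact h3 (Fin.mk.inj_iff.1 h)
  simp only [ChevalleyDatum.xMat, Matrix.of_apply, h4, h5, h6, if_false, zero_add, hc]
  simp

section entries

variable {r₀ : ℕ} (hr₀ : r₀ < D.nroots)

/-- Entries of a matrix with the relation `u z = z M`. -/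
theorem entry_vanish (hSL : SL R D) {c : F} (hc : c ≠ 0) {u M : Matrix D.Idx D.Idx F}
    (hu : ∀ i j, i ≠ j → u i j ≠ 0 → gr R D (fun j => D.cartan j r₀) i + 1 ≤ gr R D (fun j => D.cartan j r₀) j)
    (hM : ∀ i j, M i j ≠ 0 → gr R D (fun j => D.cartan j r₀) i ≤ gr R D (fun j => D.cartan j r₀) j)
    (hrel : u * D.x F r₀ c = D.x F r₀ c * M) (K : D.Idx) (hK : gr R D (fun j => D.cartan j r₀) K = 1) :
    u K (Sum.inr ⟨r₀, hr₀⟩) = 0 := by
  set a : ℕ → ℤ := fun j => D.cartan j r₀ with ha
  set w : D.Idx → ℤ := gr R D a with hw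
  set Rr : D.Idx := Sum.inr ⟨r₀, hr₀⟩ with hRr
  set col : D.Idx := Sum.inr ⟨D.neg r₀, hF.neg_lt hr₀⟩ with hcol
  have hwR : w Rr = 2 := by
    rw [hw, hRr, gr_inr]
    exact hSL.self r₀ hr₀
  have hwc : w col = -2 := by
    rw [hw, hcol, gr_inr]
    exact om_neg_self hF hSL hr₀
  have hlin : R.lin D.rank a r₀ = 2 := hSL.self r₀ hr₀
  have hbd : ∀ b, w b ≤ 2 ∧ -2 ≤ w b := by
    intro b
    cases b with
    | inl i =>
      rw [hw, gr_inl]
      omega
    | inr s =>
      rw [hw, gr_inr]
      exact om_le_two hF hSL hr₀ s.2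
  have h2 : ∀ b, w b = 2 → b = Rr := by
    intro b hb
    cases b with
    | inl i =>
      rw [hw, gr_inl] at hb
      omega
    | inr s =>
      rw [hw, gr_inr] at hb
      have := eq_of_om_two hF hSL hr₀ s.2 hb
      rw [hRr]
      congr 1
      exact Fin.ext this
  have hm2 : ∀ b, w b = -2 → b = col := by
    intro b hb
    cases b with
    | inl i =>
      rw [hw, gr_inl] at hb
      omega
    | inr s =>
      rw [hw, gr_inr] at hb
      have := eq_of_om_neg_two hF hSL hr₀ s.2 hb
      rw [hcol]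
      congr 1
      exact Fin.ext this
  have hz : ∀ i, D.x F r₀ c i col ≠ 0 → ∃ e : ℤ, 0 ≤ e ∧ w i = -2 + 2 * e := by
    intro i hi
    by_cases hic : i = col
    · exact ⟨0, le_rfl, by rw [hic, hwc]; norm_num⟩
    · obtain ⟨e, he, h3⟩ := hF.x_entry_ne hr₀ hic hi
      have h4 := hF.gr_add a h3
      refine ⟨e, by positivity, ?_⟩
      rw [hw, h4, hlin]
      show gr R D a col + _ = _
      have : gr R D a col = -2 := hwc
      rw [this]
      ring
  have e1 : (u * D.x F r₀ c) K col = u K Rr * D.x F r₀ c Rr col := by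
    rw [Matrix.mul_apply]
    apply Finset.sum_eq_single Rr
    · intro i _ hiR
      by_contra hne
      obtain ⟨h3, h4⟩ := mul_ne_zero_iff.1 hne
      obtain ⟨e, he, h5⟩ := hz i h4
      have h6 : K ≠ i := by
        rintro rfl
        have : w K = 1 := hK
        omega
      have h7 := hu K i h6 h3
      have h8 : w K = 1 := hK
      have h9 : w K + 1 ≤ w i := h7
      exact hiR (h2 i (by have := (hbd i).1; omega))
    · intro h
      exact absurd (Finset.mem_univ _) h
  have e2 : (D.x F r₀ c * M) K col = D.x F r₀ c K col * M col col := by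
    rw [Matrix.mul_apply]
    apply Finset.sum_eq_single col
    · intro i _ hic
      by_contra hne
      obtain ⟨h3, h4⟩ := mul_ne_zero_iff.1 hne
      have h5 := hM i col h4
      have h6 : w i ≤ w col := h5
      exact hic (hm2 i (by have := (hbd i).2; omega))
    · intro h
      exact absurd (Finset.mem_univ _) h
  have e3 : D.x F r₀ c K col = 0 := by
    by_contra hne
    obtain ⟨e, he, h5⟩ := hz K hne
    have h8 : w K = 1 := hK
    omega
  have e4 : D.x F r₀ c Rr col = -(c ^ 2) := hF.x_entry_neg_self hr₀ c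
  rw [hrel, e2, e3, zero_mul, e4] at e1
  have hc2 : -(c ^ 2) ≠ 0 := neg_ne_zero.2 (pow_ne_zero 2 hc)
  exact ((mul_eq_zero.1 e1.symm).resolve_right hc2)

/-- The additivity of a column entry on the unipotent subgroup of the grading. -/
theorem psi_add (hSL : SL R D) {A B : Matrix D.Idx D.Idx F}
    (hA1 : ∀ i, A i i = 1) (hB1 : ∀ i, B i i = 1)
    (hA : ∀ i j, i ≠ j → A i j ≠ 0 → gr R D (fun j => D.cartan j r₀) i + 1 ≤ gr R D (fun j => D.cartan j r₀) j)
    (K : D.Idx) (hK : gr R D (fun j => D.cartan j r₀) K = 1) :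
    (A * B) K (Sum.inr ⟨r₀, hr₀⟩) = A K (Sum.inr ⟨r₀, hr₀⟩) + B K (Sum.inr ⟨r₀, hr₀⟩) := by
  set a : ℕ → ℤ := fun j => D.cartan j r₀ with ha
  set w : D.Idx → ℤ := gr R D a with hw
  set Rr : D.Idx := Sum.inr ⟨r₀, hr₀⟩ with hRr
  have hwR : w Rr = 2 := by
    rw [hw, hRr, gr_inr]
    exact hSL.self r₀ hr₀
  have hKR : K ≠ Rr := by
    intro h
    have h9 : w K = 1 := hK
    rw [h] at h9
    omega
  have hbd : ∀ b, w b ≤ 2 := by
    intro b
    cases b with
    | inl i =>
      rw [hw, gr_inl]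
      omega
    | inr s =>
      rw [hw, gr_inr]
      exact (om_le_two hF hSL hr₀ s.2).1
  have h2 : ∀ b, w b = 2 → b = Rr := by
    intro b hb
    cases b with
    | inl i =>
      rw [hw, gr_inl] at hb
      omega
    | inr s =>
      rw [hw, gr_inr] at hb
      have := eq_of_om_two hF hSL hr₀ s.2 hb
      rw [hRr]
      congr 1
      exact Fin.ext this
  rw [Matrix.mul_apply, Finset.sum_eq_add K Rr hKR]
  · rw [hA1 K, hB1 Rr, one_mul, mul_one, add_comm]
  · intro i _ hi
    by_contra hne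
    obtain ⟨h3, h4⟩ := mul_ne_zero_iff.1 hne
    have h5 := hA K i (Ne.symm hi.1) h3
    have h6 : w K + 1 ≤ w i := h5
    have h7 : w K = 1 := hK
    exact hi.2 (h2 i (by have := hbd i; omega))
  · intro h
    exact absurd (Finset.mem_univ _) h
  · intro h
    exact absurd (Finset.mem_univ _) h

end entries

variable (hSL : SL R D)
include hSL

/-- The part of inner product `-1` of an involution vanishes. -/
theorem stepB [CharP F 2] {O : List ℕ} {r₀ : ℕ} (hr₀ : Sg R D O r₀) {c : F} (hc : c ≠ 0) {τ : ℕ → F}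
    (h1 : ∀ s, r₀ < s → s < D.nroots → τ s ≠ 0 → Sg R D O s)
    (h2 : ∀ s, r₀ < s → s < D.nroots → τ s ≠ 0 → om R D r₀ s ≠ 1)
    (ht : (hF.c.xG r₀ c * hF.ordW (r₀ + 1) τ) * (hF.c.xG r₀ c * hF.ordW (r₀ + 1) τ) = 1) :
    hF.ordW (r₀ + 1) τ ∈ rootClosure D F (Sg R D (r₀ :: O)) := by
  obtain ⟨hr₀N, hr₀n, hr₀O⟩ := hr₀
  have hkN : R.N ≤ r₀ + 1 := by omega
  set z := hF.c.xG r₀ c with hz
  have hzz : z * z = 1 := by
    rw [hz, hF.c.xG_add, CharTwo.add_self_eq_zero, hF.c.xG_zero]
  set Qm : ℕ → Prop := fun s => Sg R D O s ∧ r₀ < s ∧ om R D r₀ s = -1 with hQm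
  set Q0 : ℕ → Prop := fun s => Sg R D O s ∧ r₀ < s ∧ om R D r₀ s = 0 with hQ0
  have hpos_ne : ∀ s, R.N ≤ s → s ≠ D.neg r₀ := fun s hs => neg_ne_of_pos hF hr₀n hr₀N hs
  -- the decomposition
  have hy : hF.ordW (r₀ + 1) τ ∈ rootClosure D F (fun s => Qm s ∨ Q0 s) := by
    apply ordW_mem_closure hF
    intro s hs1 hs2 hs3
    have h3 := h1 s (by omega) hs2 hs3
    have h4 := h2 s (by omega) hs2 hs3
    have h5 := hSL.range r₀ hr₀n s hs2 (by omega) (hpos_ne s h3.1)
    rcases h5 with h5 | h5 | h5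
    · exact Or.inl ⟨h3, by omega, h5⟩
    · exact Or.inr ⟨h3, by omega, h5⟩
    · exact absurd h5 h4
  have hnormal : rootClosure D F Q0 ≤ Subgroup.normalizer (rootClosure D F Qm : Set (GL D.Idx F)) := by
    rw [rootClosure, Subgroup.closure_le]
    rintro g ⟨s, t, hs, hg⟩
    rw [SetLike.mem_coe, hF.c.eq_xG hg]
    apply hF.xG_mem_normalizer hs.1.2.1
    · intro s' hs'
      exact ⟨hs'.1.2.1, neg_ne_of_pos hF hs.1.2.1 hs.1.1 hs'.1.1⟩
    · intro s' hs' hne c' hc'
      have hne2 := neg_ne_of_pos hF hs.1.2.1 hs.1.1 hs'.1.1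
      have h3 := hF.commTerm_pos hs.1.2.1 hs'.1.2.1 hne hne2 hc' hs.1.1 hs'.1.1
      have h4 := hF.commTerms_spec hs.1.2.1 hs'.1.2.1 hne hne2 hc'
      refine ⟨⟨h3.1, h4.1, fun o ho => ?_⟩, by have := hs'.2.1; omega, ?_⟩
      · rw [om_term hF o hs.1.2.1 hs'.1.2.1 hne hne2 hc', hs.1.2.2 o ho, hs'.1.2.2 o ho]
        simp
      · have h5 := om_term hF r₀ hs.1.2.1 hs'.1.2.1 hne hne2 hc'
        rw [hs.2.2, hs'.2.2] at h5
        have h6 : (1 : ℤ) ≤ (c'.2.2.2 : ℤ) := by exact_mod_cast h4.2.2.1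
        have h7 := (om_le_two hF hSL hr₀n h4.1).2
        have h8 : om R D r₀ c'.1 ≠ -2 := by
          intro h9
          have h10 := eq_of_om_neg_two hF hSL hr₀n h4.1 h9
          exact hpos_ne _ h3.1 h10
        rw [h5] at h7 h8 ⊢
        omega
  have hy2 := rootClosure_or_le (F := F) Qm Q0 hy
  obtain ⟨u, hu, k, hk, hyuk⟩ := (Cfsg.Agent.Lib.Chev.GroupLem.mem_sup_iff_of_le_normalizer hnormal).1 hy2
  -- `z` commutes with `k`
  have hzk : k * z = z * k := by
    have hle : rootClosure D F Q0 ≤ Subgroup.centralizer {z} := by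
      rw [rootClosure, Subgroup.closure_le]
      rintro g ⟨s, t, hs, hg⟩
      rw [SetLike.mem_coe, hF.c.eq_xG hg, Subgroup.mem_centralizer_singleton_iff]
      exact comm_of_orth hF hSL hr₀n hs.1.2.1 hs.2.2 c t
    have := hle hk
    rw [Subgroup.mem_centralizer_singleton_iff] at this
    exact this
  -- the levels
  obtain ⟨ℓ, M', hℓ⟩ := exists_level (R := R) (D := D) (fun j => - D.cartan j r₀)
  have hd : ∀ i, ℓ i < Finset.univ.sup ℓ + 1 := level_lt ℓ
  have hQle : rootClosure D F (fun s => Qm s ∨ Q0 s) ≤ Tri (F := F) ℓ := by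
    apply rootClosure_le_Tri hF hℓ
    rintro s (hs | hs)
    · refine ⟨hs.1.2.1, ?_⟩
      rw [lin_negF hF]
      have : R.lin D.rank (fun j => D.cartan j r₀) s = -1 := hs.2.2
      omega
    · refine ⟨hs.1.2.1, ?_⟩
      rw [lin_negF hF]
      have : R.lin D.rank (fun j => D.cartan j r₀) s = 0 := hs.2.2
      omega
  have hQm' : rootClosure D F Qm ≤ UT (F := F) ℓ 0 _ hd := by
    apply rootClosure_le_UT hF hℓ
    intro s hs
    refine ⟨hs.1.2.1, ?_⟩
    rw [lin_negF hF]
    have : R.lin D.rank (fun j => D.cartan j r₀) s = -1 := hs.2.2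
    omega
  have hmQ : rootClosure D F Qm ≤ rootClosure D F (fun s => Qm s ∨ Q0 s) := rootClosure_mono (fun s hs => Or.inl hs)
  have h0Q : rootClosure D F Q0 ≤ rootClosure D F (fun s => Qm s ∨ Q0 s) := rootClosure_mono (fun s hs => Or.inr hs)
  -- `z u z` is triangular
  have hM : z * u * z ∈ Tri (F := F) ℓ := by
    have e : z * u * z = (k * u * k)⁻¹ := by
      rw [hyuk] at ht
      apply eq_inv_of_mul_eq_one_left
      have e1 : (z * (u * k)) * (z * (u * k)) = z * u * z * (k * u * k) := by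
        calc (z * (u * k)) * (z * (u * k)) = z * u * (k * z) * u * k := by group
          _ = z * u * (z * k) * u * k := by rw [hzk]
          _ = _ := by group
      rw [← e1]
      exact ht
    rw [e]
    apply Subgroup.inv_mem
    apply hQle
    exact Subgroup.mul_mem _ (Subgroup.mul_mem _ (h0Q hk) (hmQ hu)) (h0Q hk)
  have hrelG : u * z = z * (z * u * z) := by
    calc u * z = (z * z) * u * z := by rw [hzz, one_mul]
      _ = _ := by group
  -- entries of `u`
  have hgrneg : ∀ b, (ℓ b : ℤ) = - gr R D (fun j => D.cartan j r₀) b + M' := by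
    intro b
    rw [hℓ b, gr_negF]
  have huUT : ∀ g ∈ rootClosure D F Qm, ∀ i j, i ≠ j → (g : Matrix D.Idx D.Idx F) i j ≠ 0 →
      gr R D (fun j => D.cartan j r₀) i + 1 ≤ gr R D (fun j => D.cartan j r₀) j := by
    intro g hg i j hij hne
    have h3 := hQm' hg
    rw [mem_UT] at h3
    by_contra hcon
    apply hne
    have h4 := h3 i j (by
      have h5 := hgrneg i
      have h6 := hgrneg j
      omega)
    rwa [Matrix.sub_apply, Matrix.one_apply_ne hij, sub_zero] at h4
  have hdiag : ∀ g ∈ rootClosure D F Qm, ∀ i, (g : Matrix D.Idx D.Idx F) i i = 1 := by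
    intro g hg i
    have h3 := hQm' hg
    rw [mem_UT] at h3
    have h4 := h3 i i (by omega)
    rw [Matrix.sub_apply, Matrix.one_apply_eq] at h4
    exact sub_eq_zero.1 h4
  have hMtri : ∀ i j, ((z * u * z : GL D.Idx F) : Matrix D.Idx D.Idx F) i j ≠ 0 →
      gr R D (fun j => D.cartan j r₀) i ≤ gr R D (fun j => D.cartan j r₀) j := by
    intro i j hne
    rw [mem_Tri] at hM
    by_contra hcon
    apply hne
    apply hM
    have h5 := hgrneg i
    have h6 := hgrneg j
    omega
  have hentry : ∀ K : D.Idx, gr R D (fun j => D.cartan j r₀) K = 1 →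
      (u : Matrix D.Idx D.Idx F) K (Sum.inr ⟨r₀, hr₀n⟩) = 0 := by
    intro K hK
    refine entry_vanish hF hr₀n hSL hc (huUT u hu) hMtri ?_ K hK
    have := congrArg (fun g : GL D.Idx F => (g : Matrix D.Idx D.Idx F)) hrelG
    simp only [Units.val_mul] at this ⊢
    rw [hz, Checks.coe_xG] at this
    exact this
  -- `u` is trivial
  have hKle : rootClosure D F Qm ≤ Uk D F (r₀ + 1) :=
    rootClosure_mono (fun s hs => ⟨hs.2.1, hs.1.2.1⟩)
  obtain ⟨τm, hτm⟩ := hF.exists_ordW (D.nroots - (r₀ + 1)) (r₀ + 1) (by omega) hkN u (hKle hu)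
  have hsuppm : ∀ s, r₀ < s → s < D.nroots → τm s ≠ 0 → Qm s := by
    intro s hs1 hs2 hs3
    have h3 : hF.ordW (r₀ + 1) τm ∈ rootClosure D F Qm := by rw [← hτm]; exact hu
    have h4 : rootClosure D F Qm ≤ rootClosure D F (Sg R D O) := rootClosure_mono (fun s hs => hs.1)
    have h5 := support_Sg hF hkN (h4 h3) (by omega : r₀ + 1 ≤ s) hs2 hs3
    have h6 := support_UT hF hℓ hkN (hQm' h3) (by omega : r₀ + 1 ≤ s) hs2 hs3
    rw [lin_negF hF] at h6
    have h7 := hSL.range r₀ hr₀n s hs2 (by omega) (hpos_ne s h5.1)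
    have h8 : om R D r₀ s = R.lin D.rank (fun j => D.cartan j r₀) s := rfl
    exact ⟨h5, hs1, by omega⟩
  have hτ0 : ∀ s, r₀ < s → s < D.nroots → τm s = 0 := by
    intro s hs1 hs2
    by_contra hne
    have hsQ := hsuppm s hs1 hs2 hne
    have hsr : om R D s r₀ = -1 := by rw [hSL.symm s hs2 r₀ hr₀n]; exact hsQ.2.2
    obtain ⟨k', c1, c', h3, -, h4, h5⟩ := hSL.one s hs2 r₀ hr₀n hsr
    have hne' := ne_of_om_neg_one hF hSL hs2 hr₀n hsr
    have hk' : (k', c1, 1, 1) ∈ D.commTerms s r₀ := by rw [h3]; simp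
    have hsp := hF.commTerms_spec hs2 hr₀n hne'.1 hne'.2 hk'
    have hk'n : k' < D.nroots := hsp.1
    have hw1 : om R D r₀ k' = 1 := by
      have h6 := om_term hF r₀ hs2 hr₀n hne'.1 hne'.2 hk'
      simp only [Nat.cast_one, one_mul] at h6
      rw [h6, hsQ.2.2, hSL.self r₀ hr₀n]
      norm_num
    have hk'r : k' ≠ r₀ := by
      rintro rfl
      rw [hSL.self _ hr₀n] at hw1
      omega
    set K : D.Idx := Sum.inr ⟨k', hk'n⟩ with hK
    have hKw : gr R D (fun j => D.cartan j r₀) K = 1 := by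
      rw [hK, gr_inr]
      exact hw1
    -- the value of the entry of the ordered product
    have hval : ∀ (n j : ℕ), j + n = D.nroots → r₀ < j →
        ((hF.ordW j τm : GL D.Idx F) : Matrix D.Idx D.Idx F) K (Sum.inr ⟨r₀, hr₀n⟩) =
          if j ≤ s then (c' : F) * τm s else 0 := by
      intro n
      induction n with
      | zero =>
        intro j hj hj2
        have : D.nroots ≤ j := by omega
        rw [hF.ordW_of_ge this, if_neg (by omega)]
        simp only [Units.val_one]
        rw [Matrix.one_apply_ne]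
        rw [hK]
        intro h
        exact hk'r (Fin.mk.inj_iff.1 (Sum.inr_injective h))
      | succ n ih =>
        intro j hj hj2
        have hjn : j < D.nroots := by omega
        have h6 := hF.ordW_succ hjn τm
        have hmem : ∀ j', r₀ < j' → hF.ordW j' τm ∈ rootClosure D F Qm := by
          intro j' hj'
          apply ordW_mem_closure hF
          intro r hr1 hr2 hr3
          exact hsuppm r (by omega) hr2 hr3
        have hxj : hF.c.xG j (τm j) ∈ rootClosure D F Qm := by
          by_cases h7 : τm j = 0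
          · rw [h7, hF.c.xG_zero]
            exact Subgroup.one_mem _
          · exact hF.xG_mem_rootClosure (hsuppm j hj2 hjn h7) _
        rw [h6, Units.val_mul]
        rw [psi_add hF hr₀n hSL (hdiag _ hxj) (hdiag _ (hmem (j + 1) (by omega))) (huUT _ hxj) K hKw]
        rw [ih (j + 1) (by omega) (by omega), Checks.coe_xG]
        by_cases hjs : j = s
        · subst hjs
          rw [if_neg (by omega), if_pos le_rfl, add_zero]
          have h8 : r₀ ≠ j := by omega
          have h9 : r₀ ≠ D.neg j := fun h => hpos_ne j hsQ.1.1 (by rw [h, hF.neg_neg hs2])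
          exact x_entry_chain hF hs2 hr₀n hk'n h8 h9 hk'r h4 _
        · have h8 : D.x F j (τm j) K (Sum.inr ⟨r₀, hr₀n⟩) = 0 := by
            by_contra hne2
            have h9 : τm j ≠ 0 := by
              intro h10
              rw [h10, x_zero] at hne2
              apply hne2
              rw [Matrix.one_apply_ne]
              rw [hK]
              intro h
              exact hk'r (Fin.mk.inj_iff.1 (Sum.inr_injective h))
            have hjQ := hsuppm j hj2 hjn h9
            have hKR : K ≠ Sum.inr ⟨r₀, hr₀n⟩ := by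
              rw [hK]
              intro h
              exact hk'r (Fin.mk.inj_iff.1 (Sum.inr_injective h))
            obtain ⟨e, he, h10⟩ := hF.x_entry_ne hjn hKR hne2
            have h11 := hF.gr_add (fun j => D.cartan j r₀) h10
            rw [hKw, gr_inr] at h11
            have h12 : R.lin D.rank (fun j => D.cartan j r₀) r₀ = 2 := hSL.self r₀ hr₀n
            have h13 : R.lin D.rank (fun j' => D.cartan j' r₀) j = -1 := hjQ.2.2
            rw [h12, h13] at h11
            have h14 : (e : ℤ) = 1 := by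
              omega
            have h15 : e = 1 := by exact_mod_cast h14
            subst h15
            apply hjs
            apply root_eq_of_rc hF hjn hs2
            intro i hi
            have h16 := h10 i hi
            have h17 := hsp.2.2.2 i hi
            simp only [rcIdx_inr, Nat.cast_one, one_mul] at h16 h17
            rw [hK] at h16
            simp only [rcIdx_inr] at h16
            omega
          rw [h8, zero_add]
          by_cases hjs2 : j ≤ s
          · rw [if_pos (by omega), if_pos hjs2]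
          · rw [if_neg (by omega), if_neg hjs2]
    have h6 := hval (D.nroots - (r₀ + 1)) (r₀ + 1) (by omega) (by omega)
    rw [if_pos (by omega), ← hτm, hentry K hKw] at h6
    have hc'0 : ((c' : ℤ) : F) ≠ 0 := by
      rcases h5 with rfl | rfl
      · simp
      · simp [CharTwo.neg_eq]
    exact hne ((mul_eq_zero.1 h6.symm).resolve_left hc'0)
  have hu1 : u = 1 := by
    rw [hτm, hF.ordW_congr (t' := (0 : ℕ → F)) (fun r hr1 hr2 => hτ0 r (by omega) hr2), hF.ordW_zero]
  rw [hyuk, hu1, one_mul]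
  refine rootClosure_mono ?_ hk
  intro s hs
  refine ⟨hs.1.1, hs.1.2.1, ?_⟩
  intro o ho
  rcases List.mem_cons.1 ho with rfl | ho
  · exact hs.2.2
  · exact hs.1.2.2 o ho

end part

end Cfsg.Agent.Lib.ChevInv
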