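import Mathlib
import Cfsg.Agent.Lib.ChevInv.StepB

/-!
# Normal form of involutions in `U`
-/

set_option autoImplicit false
set_option linter.unusedSectionVars false
set_option linter.unusedVariables false
set_option linter.unnecessarySimpa false

namespace Cfsg.Agent.Lib.ChevInv

open Cfsg Cfsg.Lie Matrix Cfsg.Agent.Lib.Chev Cfsg.Agent.Lib.Chev.Full Cfsg.Agent.Lib.Chev.Tri
open Cfsg.Agent.Lib.ChevAut.LongRoot Cfsg.Agent.Lib.ChevAut.RootCent Cfsg.Agent.Lib.ChevAut.ParabFit Equiv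

variable {T : Tabs} {X : Extra} {R : RootTab} {D : ChevalleyDatum} (hF : Full T X R D)
variable {F : Type*} [Field F]

open Classical in
/-- The number of positive roots orthogonal to a list. -/
noncomputable def cardS (R : RootTab) (D : ChevalleyDatum) (O : List ℕ) : ℕ :=
  ((Finset.range D.nroots).filter (fun s => Sg R D O s)).card

section part

include hF

variable (hSL : SL R D)
include hSL

theorem normal_form [CharP F 2] : ∀ (n : ℕ) (O : List ℕ), cardS R D O = n →
    ∀ t ∈ rootClosure D F (Sg R D O), t * t = 1 →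
    ∃ h ∈ rootClosure D F (Sg R D O), ∃ L : List (ℕ × F),
      (∀ p ∈ L, Sg R D O p.1 ∧ p.2 ≠ 0) ∧
      (L.map Prod.fst).Pairwise (fun a b => om R D a b = 0) ∧ h * t * h⁻¹ = hF.c.wordG L := by
  intro n
  induction n using Nat.strong_induction_on with
  | _ n ih =>
  intro O hO t ht htt
  have hNn : R.N ≤ D.nroots := by have := hF.two; omega
  have hle : rootClosure D F (Sg R D O) ≤ Uk D F R.N := rootClosure_mono (fun s hs => ⟨hs.1, hs.2.1⟩)
  obtain ⟨τ, hτ⟩ := hF.exists_ordW (D.nroots - R.N) R.N (by omega) le_rfl t (hle ht)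
  by_cases hex : ∃ r, R.N ≤ r ∧ r < D.nroots ∧ τ r ≠ 0
  · classical
    set r₀ := Nat.find hex with hr₀def
    obtain ⟨hr₀N, hr₀n, hc⟩ := Nat.find_spec hex
    rw [← hr₀def] at hr₀N hr₀n hc
    have hmin : ∀ s, R.N ≤ s → s < r₀ → τ s = 0 := by
      intro s hs1 hs2
      by_contra hne
      exact Nat.find_min hex hs2 ⟨hs1, by omega, hne⟩
    have ht0 : hF.ordW R.N τ ∈ rootClosure D F (Sg R D O) := by rw [← hτ]; exact ht
    have hsupp0 : ∀ s, R.N ≤ s → s < D.nroots → τ s ≠ 0 → Sg R D O s :=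
      fun s h1 h2 h3 => support_Sg hF le_rfl ht0 h1 h2 h3
    have hr₀S := hsupp0 r₀ hr₀N hr₀n hc
    have hsupp : ∀ s, r₀ < s → s < D.nroots → τ s ≠ 0 → Sg R D O s :=
      fun s h1 h2 h3 => hsupp0 s (by omega) h2 h3
    have e1 : hF.ordW R.N τ = hF.ordW r₀ τ := by
      have h1 := ordW_quot hF (r₀ - R.N) R.N (m := r₀) (by omega) τ (0 : ℕ → F)
        (fun s hs1 hs2 => hmin s hs1 hs2) hNn (by omega)
      rw [hF.ordW_zero, hF.ordW_zero, mul_one, mul_one] at h1
      exact inv_injective h1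
    have e2 : t = hF.c.xG r₀ (τ r₀) * hF.ordW (r₀ + 1) τ := by
      rw [hτ, e1, hF.ordW_succ hr₀n]
    obtain ⟨h₁, hh₁, τ', hA, hB, hE⟩ := stepA hF hSL hr₀S hc (D.nroots - (r₀ + 1)) (r₀ + 1) (by omega) τ hsupp
      (fun s h1 h2 => by omega)
    rw [← e2] at hE
    set z := hF.c.xG r₀ (τ r₀) with hz
    set y' := hF.ordW (r₀ + 1) τ' with hy'
    have hzz : z * z = 1 := by
      rw [hz, hF.c.xG_add, CharTwo.add_self_eq_zero, hF.c.xG_zero]
    have ht' : (z * y') * (z * y') = 1 := by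
      rw [← hE]
      calc (h₁ * t * h₁⁻¹) * (h₁ * t * h₁⁻¹) = h₁ * (t * t) * h₁⁻¹ := by group
        _ = 1 := by rw [htt]; group
    have hyS : y' ∈ rootClosure D F (Sg R D (r₀ :: O)) := stepB hF hSL hr₀S hc hA hB ht'
    have hcent : rootClosure D F (Sg R D (r₀ :: O)) ≤ Subgroup.centralizer {z} := by
      rw [rootClosure, Subgroup.closure_le]
      rintro g ⟨s, a, hs, hg⟩
      rw [SetLike.mem_coe, hF.c.eq_xG hg, Subgroup.mem_centralizer_singleton_iff]
      exact comm_of_orth hF hSL hr₀n hs.2.1 (hs.2.2 r₀ List.mem_cons_self) _ _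
    have hcomm : ∀ g ∈ rootClosure D F (Sg R D (r₀ :: O)), g * z = z * g := by
      intro g hg
      have := hcent hg
      rwa [Subgroup.mem_centralizer_singleton_iff] at this
    have hyy : y' * y' = 1 := by
      have e3 : (z * y') * (z * y') = (z * z) * (y' * y') := by
        calc (z * y') * (z * y') = z * (y' * z) * y' := by group
          _ = z * (z * y') * y' := by rw [hcomm y' hyS]
          _ = _ := by group
      rw [e3, hzz, one_mul] at ht'
      exact ht'
    have hsub : ∀ s, Sg R D (r₀ :: O) s → Sg R D O s := fun s hs =>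
      ⟨hs.1, hs.2.1, fun o ho => hs.2.2 o (List.mem_cons_of_mem _ ho)⟩
    have hcard : cardS R D (r₀ :: O) < n := by
      rw [← hO]
      unfold cardS
      apply Finset.card_lt_card
      rw [Finset.ssubset_iff_of_subset]
      · refine ⟨r₀, ?_, ?_⟩
        · rw [Finset.mem_filter, Finset.mem_range]
          exact ⟨hr₀n, hr₀S⟩
        · rw [Finset.mem_filter, not_and]
          intro _ h2
          have := h2.2.2 r₀ List.mem_cons_self
          rw [hSL.self r₀ hr₀n] at this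
          omega
      · intro s hs
        rw [Finset.mem_filter] at hs ⊢
        exact ⟨hs.1, hsub s hs.2⟩
    obtain ⟨h₂, hh₂, L', hL1, hL2, hL3⟩ := ih _ hcard (r₀ :: O) rfl y' hyS hyy
    refine ⟨h₂ * h₁, Subgroup.mul_mem _ (rootClosure_mono hsub hh₂) hh₁, (r₀, τ r₀) :: L', ?_, ?_, ?_⟩
    · intro p hp
      rcases List.mem_cons.1 hp with rfl | hp
      · exact ⟨hr₀S, hc⟩
      · exact ⟨hsub _ (hL1 p hp).1, (hL1 p hp).2⟩
    · rw [List.map_cons, List.pairwise_cons]
      refine ⟨?_, hL2⟩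
      intro a ha
      obtain ⟨p, hp, rfl⟩ := List.mem_map.1 ha
      exact (hL1 p hp).1.2.2 r₀ List.mem_cons_self
    · rw [Checks.wordG_cons, ← hL3]
      show h₂ * h₁ * t * (h₂ * h₁)⁻¹ = z * (h₂ * y' * h₂⁻¹)
      have e4 : h₂ * h₁ * t * (h₂ * h₁)⁻¹ = h₂ * (h₁ * t * h₁⁻¹) * h₂⁻¹ := by group
      rw [e4, hE]
      have e5 : h₂ * (z * y') * h₂⁻¹ = (h₂ * z) * y' * h₂⁻¹ := by group
      rw [e5, hcomm h₂ hh₂]
      group
  · push Not at hex
    refine ⟨1, Subgroup.one_mem _, [], by simp, List.Pairwise.nil, ?_⟩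
    have e1 : t = 1 := by
      rw [hτ, hF.ordW_congr (t' := (0 : ℕ → F)) (fun r hr1 hr2 => hex r hr1 hr2), hF.ordW_zero]
    rw [e1]
    simp [Checks.wordG_nil]

end part

end Cfsg.Agent.Lib.ChevInv
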