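import Mathlib
import Cfsg.Agent.Lib.ChevInv.NF

/-!
# Products of orthogonal root elements: normalising coefficients, Weyl moves, the tower of orthogonal roots
-/

set_option autoImplicit false
set_option linter.unusedSectionVars false
set_option linter.unusedVariables false
set_option linter.unnecessarySimpa false

namespace Cfsg.Agent.Lib.ChevInv

open Cfsg Cfsg.Lie Matrix Cfsg.Agent.Lib.Chev Cfsg.Agent.Lib.Chev.Full Cfsg.Agent.Lib.Chev.Tri
open Cfsg.Agent.Lib.ChevAut.LongRoot Cfsg.Agent.Lib.ChevAut.RootCent Cfsg.Agent.Lib.ChevAut.ParabFit Equiv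

variable {T : Tabs} {X : Extra} {R : RootTab} {D : ChevalleyDatum} (hF : Full T X R D)
variable {F : Type*} [Field F]

/-- Product of root elements with coefficient one. -/
noncomputable def xL (hF : Full T X R D) (F : Type*) [Field F] (L : List ℕ) : GL D.Idx F :=
  hF.c.wordG (L.map fun r => (r, (1 : F)))

/-- Action of a word in the fundamental reflections on roots. -/
noncomputable def act (X : Extra) (w : List ℕ) (s : ℕ) : ℕ := w.foldr (fun i x => X.wf i x) s

/-- Word in the `n_i`. -/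
noncomputable def nW (hF : Full T X R D) (F : Type*) [Field F] (w : List ℕ) : GL D.Idx F :=
  (w.map fun i => hF.c.nG (D.simple i) (1 : F)).prod

/-- Pairwise orthogonal lists of roots. -/
def OrthL (R : RootTab) (D : ChevalleyDatum) (L : List ℕ) : Prop :=
  (∀ r ∈ L, r < D.nroots) ∧ L.Pairwise (fun a b => om R D a b = 0)

/-- Root indices orthogonal to a list. -/
def PP (R : RootTab) (D : ChevalleyDatum) (St : List ℕ) (s : ℕ) : Prop :=
  s < D.nroots ∧ ∀ o ∈ St, om R D o s = 0

/-- Fundamental indices orthogonal to a list. -/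
def JJ (D : ChevalleyDatum) (St : List ℕ) (i : ℕ) : Prop :=
  i < D.rank ∧ ∀ o ∈ St, D.cartan i o = 0

/-- Dominance for those fundamental indices. -/
def Dom (D : ChevalleyDatum) (St : List ℕ) (s : ℕ) : Prop :=
  ∀ i, JJ D St i → 0 ≤ D.cartan i s

/-- The tower of dominant orthogonal roots. -/
def TreeOK (R : RootTab) (D : ChevalleyDatum) (P : List ℕ → Prop) : ℕ → List ℕ → Prop
  | 0, St => P St ∧ ∀ s, ¬ PP R D St s
  | f + 1, St => P St ∧ ∀ s, PP R D St s → Dom D St s → TreeOK R D P f (St ++ [s])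

section part

include hF

theorem xL_nil : xL hF F [] = 1 := rfl

theorem xL_cons (r : ℕ) (L : List ℕ) : xL hF F (r :: L) = hF.c.xG r 1 * xL hF F L := by
  simp [xL, Checks.wordG_cons]

theorem xL_append (L L' : List ℕ) : xL hF F (L ++ L') = xL hF F L * xL hF F L' := by
  simp [xL, Checks.wordG_append]

theorem xL_eq_prod (L : List ℕ) : xL hF F L = (L.map fun r => hF.c.xG r (1 : F)).prod := by
  induction L with
  | nil => simp [xL_nil hF]
  | cons r L ih => simp [xL_cons hF, ih]

theorem xL_mem_group {L : List ℕ} (hL : ∀ r ∈ L, r < D.nroots) : xL hF F L ∈ D.group F := by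
  induction L with
  | nil => exact Subgroup.one_mem _
  | cons r L ih =>
    rw [xL_cons hF]
    exact Subgroup.mul_mem _ (hF.c.xG_mem_group (hL r List.mem_cons_self) 1)
      (ih (fun s hs => hL s (List.mem_cons_of_mem _ hs)))

theorem nW_nil : nW hF F [] = 1 := rfl

theorem nW_cons (i : ℕ) (w : List ℕ) : nW hF F (i :: w) = hF.c.nG (D.simple i) 1 * nW hF F w := by
  simp [nW]

theorem nW_mem_group {w : List ℕ} (hw : ∀ i ∈ w, i < D.rank) : nW hF F w ∈ D.group F := by
  induction w with
  | nil => exact Subgroup.one_mem _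
  | cons i w ih =>
    rw [nW_cons hF]
    exact Subgroup.mul_mem _ (hF.c.nG_mem_group (hF.simple_lt (hw i List.mem_cons_self)) 1)
      (ih (fun s hs => hw s (List.mem_cons_of_mem _ hs)))

theorem act_lt {w : List ℕ} (hw : ∀ i ∈ w, i < D.rank) {s : ℕ} (hs : s < D.nroots) : act X w s < D.nroots := by
  induction w with
  | nil => exact hs
  | cons i w ih =>
    exact hF.wf_lt (hw i List.mem_cons_self) (ih (fun s hs => hw s (List.mem_cons_of_mem _ hs)))

theorem eta_cast [CharP F 2] {i s : ℕ} (hi : i < D.rank) (hs : s < D.nroots) : ((X.eta i s : ℤ) : F) = 1 := by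
  have h := hF.eta_mul_self hi hs
  rcases mul_self_eq_one_iff.1 h with h1 | h1
  · simp [h1]
  · simp [h1, CharTwo.neg_eq]

theorem nW_conj [CharP F 2] {w : List ℕ} (hw : ∀ i ∈ w, i < D.rank) {s : ℕ} (hs : s < D.nroots) (t : F) :
    nW hF F w * hF.c.xG s t * (nW hF F w)⁻¹ = hF.c.xG (act X w s) t := by
  induction w with
  | nil => simp [nW_nil hF, act]
  | cons i w ih =>
    have hi := hw i List.mem_cons_self
    have hw' : ∀ i ∈ w, i < D.rank := fun s hs => hw s (List.mem_cons_of_mem _ hs)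
    have h1 := ih hw'
    have h2 := act_lt hF hw' hs
    have h3 := hF.c.nG_conj_xG hi h2 t
    rw [eta_cast hF hi h2, one_mul] at h3
    rw [nW_cons hF]
    calc hF.c.nG (D.simple i) 1 * nW hF F w * hF.c.xG s t * (hF.c.nG (D.simple i) 1 * nW hF F w)⁻¹
        = hF.c.nG (D.simple i) 1 * (nW hF F w * hF.c.xG s t * (nW hF F w)⁻¹) * (hF.c.nG (D.simple i) 1)⁻¹ := by group
      _ = hF.c.xG (X.wf i (act X w s)) t := by rw [h1, h3]

theorem nW_conj_xL [CharP F 2] {w : List ℕ} (hw : ∀ i ∈ w, i < D.rank) {L : List ℕ} (hL : ∀ r ∈ L, r < D.nroots) :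
    nW hF F w * xL hF F L * (nW hF F w)⁻¹ = xL hF F (L.map (act X w)) := by
  induction L with
  | nil => simp [xL_nil hF]
  | cons r L ih =>
    have h1 := ih (fun s hs => hL s (List.mem_cons_of_mem _ hs))
    rw [xL_cons hF, List.map_cons, xL_cons hF, ← h1, ← nW_conj hF hw (hL r List.mem_cons_self)]
    group

section roots

variable (hSL : SL R D)
include hSL

theorem om_simple {i s : ℕ} (hi : i < D.rank) : om R D s (D.simple i) = D.cartan i s := by
  unfold om RootTab.lin
  rw [Finset.sum_eq_single i]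
  · rw [hF.simple_rc hi hi]
    simp
  · intro j hj hne
    rw [hF.simple_rc hi (Finset.mem_range.1 hj), if_neg (Ne.symm hne), mul_zero]
  · intro h
    exact absurd (Finset.mem_range.2 hi) h

theorem om_simple' {i s : ℕ} (hi : i < D.rank) (hs : s < D.nroots) : om R D (D.simple i) s = D.cartan i s := by
  rw [hSL.symm _ (hF.simple_lt hi) _ hs, om_simple hF hSL hi]

theorem om_wf (o : ℕ) {i s : ℕ} (hi : i < D.rank) (hs : s < D.nroots) :
    om R D o (X.wf i s) = om R D o s - D.cartan i o * D.cartan i s := by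
  unfold om RootTab.lin
  have h1 : ∀ j ∈ Finset.range D.rank, D.cartan j o * R.rcAt (X.wf i s) j =
      D.cartan j o * R.rcAt s j - (if j = i then D.cartan i o * D.cartan i s else 0) := by
    intro j hj
    rw [hF.wf_rc hi hs (Finset.mem_range.1 hj), mul_sub]
    by_cases h : j = i
    · subst h
      simp
    · simp [h]
  rw [Finset.sum_congr rfl h1, Finset.sum_sub_distrib, Finset.sum_ite_eq' (Finset.range D.rank) i,
    if_pos (Finset.mem_range.2 hi)]

theorem cartan_self {i : ℕ} (hi : i < D.rank) : D.cartan i (D.simple i) = 2 := by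
  rw [← om_simple hF hSL hi]
  exact hSL.self _ (hF.simple_lt hi)

theorem cartan_wf {i r : ℕ} (hi : i < D.rank) (hr : r < D.nroots) : D.cartan i (X.wf i r) = - D.cartan i r := by
  rw [← om_simple' hF hSL hi (hF.wf_lt hi hr), om_wf hF hSL _ hi hr, om_simple' hF hSL hi hr, cartan_self hF hSL hi]
  ring

theorem om_wf_wf {i r s : ℕ} (hi : i < D.rank) (hr : r < D.nroots) (hs : s < D.nroots) :
    om R D (X.wf i r) (X.wf i s) = om R D r s := by
  rw [om_wf hF hSL _ hi hs, cartan_wf hF hSL hi hr, hSL.symm _ (hF.wf_lt hi hr) _ hs, om_wf hF hSL _ hi hr,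
    hSL.symm s hs r hr]
  ring

theorem wf_fix {i o : ℕ} (hi : i < D.rank) (ho : o < D.nroots) (h : D.cartan i o = 0) : X.wf i o = o := by
  apply root_eq_of_rc hF (hF.wf_lt hi ho) ho
  intro j hj
  rw [hF.wf_rc hi ho hj, h]
  simp

theorem om_act {w : List ℕ} (hw : ∀ i ∈ w, i < D.rank) {r s : ℕ} (hr : r < D.nroots) (hs : s < D.nroots) :
    om R D (act X w r) (act X w s) = om R D r s := by
  induction w with
  | nil => rfl
  | cons i w ih =>
    have hw' : ∀ i ∈ w, i < D.rank := fun s hs => hw s (List.mem_cons_of_mem _ hs)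
    show om R D (X.wf i (act X w r)) (X.wf i (act X w s)) = _
    rw [om_wf_wf hF hSL (hw i List.mem_cons_self) (act_lt hF hw' hr) (act_lt hF hw' hs), ih hw']

theorem orth_map_act {w : List ℕ} (hw : ∀ i ∈ w, i < D.rank) {L : List ℕ} (hL : OrthL R D L) :
    OrthL R D (L.map (act X w)) := by
  refine ⟨?_, ?_⟩
  · intro r hr
    obtain ⟨s, hs, rfl⟩ := List.mem_map.1 hr
    exact act_lt hF hw (hL.1 s hs)
  · rw [List.pairwise_map]
    have hrange : L.Pairwise (fun a b => a < D.nroots ∧ b < D.nroots ∧ om R D a b = 0) :=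
      List.Pairwise.imp_of_mem (fun {a b} ha hb h => ⟨hL.1 a ha, hL.1 b hb, h⟩) hL.2
    exact hrange.imp (fun {a b} h => by rw [om_act hF hSL hw h.1 h.2.1]; exact h.2.2)

theorem act_fix {St : List ℕ} {w : List ℕ} (hw : ∀ i ∈ w, JJ D St i) {o : ℕ} (ho : o ∈ St) (hon : o < D.nroots) :
    act X w o = o := by
  induction w with
  | nil => rfl
  | cons i w ih =>
    show X.wf i (act X w o) = o
    rw [ih (fun s hs => hw s (List.mem_cons_of_mem _ hs))]
    have hi := hw i List.mem_cons_self
    exact wf_fix hF hSL hi.1 hon (hi.2 o ho)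

/-- The reflections in `J` preserve the orthogonal complement. -/
theorem PP_wf {St : List ℕ} {i s : ℕ} (hi : JJ D St i) (hs : PP R D St s) : PP R D St (X.wf i s) := by
  refine ⟨hF.wf_lt hi.1 hs.1, fun o ho => ?_⟩
  rw [om_wf hF hSL o hi.1 hs.1, hs.2 o ho, hi.2 o ho]
  simp

/-- Climbing to a dominant root. -/
theorem climb {St : List ℕ} : ∀ (m r : ℕ), r + m = D.nroots → PP R D St r →
    ∃ w : List ℕ, (∀ i ∈ w, JJ D St i) ∧ PP R D St (act X w r) ∧ Dom D St (act X w r) := by
  intro m
  induction m using Nat.strong_induction_on with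
  | _ m ih =>
  intro r hm hr
  by_cases hd : Dom D St r
  · exact ⟨[], by simp, hr, hd⟩
  · unfold Dom at hd
    push Not at hd
    obtain ⟨i, hi, hneg⟩ := hd
    have h1 : r < X.wf i r := by
      have h2 := lin_wf hF hi.1 hr.1
      have h3 : (0 : ℤ) < hF.phiW i := by
        unfold phiW
        positivity
      have h4 : R.lin D.rank hF.phiW r < R.lin D.rank hF.phiW (X.wf i r) := by
        rw [h2]
        nlinarith
      exact (hF.phi_lt_iff hr.1 (hF.wf_lt hi.1 hr.1)).1 h4
    have h5 := hF.wf_lt hi.1 hr.1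
    obtain ⟨w, hw1, hw2, hw3⟩ := ih (D.nroots - X.wf i r) (by omega) (X.wf i r) (by omega) (PP_wf hF hSL hi hr)
    refine ⟨w ++ [i], ?_, ?_, ?_⟩
    · intro j hj
      rcases List.mem_append.1 hj with hj | hj
      · exact hw1 j hj
      · rw [List.mem_singleton] at hj
        rw [hj]
        exact hi
    · have : act X (w ++ [i]) r = act X w (X.wf i r) := by simp [act]
      rw [this]
      exact hw2
    · have : act X (w ++ [i]) r = act X w (X.wf i r) := by simp [act]
      rw [this]
      exact hw3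

/-- The tower. -/
theorem tower [CharP F 2] {P : List ℕ → Prop} : ∀ (f : ℕ) (St O : List ℕ), TreeOK R D P f St →
    (∀ o ∈ St, o < D.nroots) → (∀ r ∈ O, PP R D St r) → O.Pairwise (fun a b => om R D a b = 0) →
    ∃ g ∈ D.group F, ∃ St', P St' ∧ St'.length = St.length + O.length ∧
      g * xL hF F (St ++ O) * g⁻¹ = xL hF F St' := by
  intro f
  induction f with
  | zero =>
    intro St O hT hSt hO hP
    cases O with
    | nil =>
      exact ⟨1, Subgroup.one_mem _, St, hT.1, by simp, by simp⟩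
    | cons r O =>
      exact absurd (hO r List.mem_cons_self) (hT.2 r)
  | succ f ih =>
    intro St O hT hSt hO hP
    cases O with
    | nil =>
      exact ⟨1, Subgroup.one_mem _, St, hT.1, by simp, by simp⟩
    | cons r O =>
      have hr := hO r List.mem_cons_self
      obtain ⟨w, hw1, hw2, hw3⟩ := climb hF hSL (D.nroots - r) r (by have := hr.1; omega) hr
      have hwr : ∀ i ∈ w, i < D.rank := fun i hi => (hw1 i hi).1
      rw [List.pairwise_cons] at hP
      have hOn : ∀ s ∈ O, s < D.nroots := fun s hs => (hO s (List.mem_cons_of_mem _ hs)).1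
      have hSt2 : ∀ o ∈ St ++ [act X w r], o < D.nroots := by
        intro o ho
        rcases List.mem_append.1 ho with ho | ho
        · exact hSt o ho
        · rw [List.mem_singleton] at ho
          rw [ho]
          exact hw2.1
      have hO2 : ∀ s ∈ O.map (act X w), PP R D (St ++ [act X w r]) s := by
        intro s hs
        obtain ⟨s₀, hs₀, rfl⟩ := List.mem_map.1 hs
        have h3 := hO s₀ (List.mem_cons_of_mem _ hs₀)
        refine ⟨act_lt hF hwr h3.1, fun o ho => ?_⟩
        rcases List.mem_append.1 ho with ho | ho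
        · have h4 := om_act hF hSL hwr (hSt o ho) h3.1
          rw [act_fix hF hSL hw1 ho (hSt o ho)] at h4
          rw [h4]
          exact h3.2 o ho
        · rw [List.mem_singleton] at ho
          rw [ho, om_act hF hSL hwr hr.1 h3.1]
          exact hP.1 s₀ hs₀
      have hP2 : (O.map (act X w)).Pairwise (fun a b => om R D a b = 0) :=
        (orth_map_act hF hSL hwr ⟨hOn, hP.2⟩).2
      obtain ⟨g, hg, St', hS1, hS2, hS3⟩ := ih (St ++ [act X w r]) (O.map (act X w)) (hT.2 _ hw2 hw3) hSt2 hO2 hP2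
      refine ⟨g * nW hF F w, Subgroup.mul_mem _ hg (nW_mem_group hF hwr), St', hS1, ?_, ?_⟩
      · rw [hS2]
        simp
        omega
      · rw [← hS3]
        have hall : ∀ x ∈ St ++ r :: O, x < D.nroots := by
          intro x hx
          rcases List.mem_append.1 hx with hx | hx
          · exact hSt x hx
          · rcases List.mem_cons.1 hx with rfl | hx
            · exact hr.1
            · exact hOn x hx
        have h5 := nW_conj_xL (F := F) hF hwr hall
        have h6 : (St ++ r :: O).map (act X w) = St ++ [act X w r] ++ O.map (act X w) := by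
          rw [List.map_append, List.map_cons]
          have : St.map (act X w) = St := by
            conv_rhs => rw [← List.map_id St]
            apply List.map_congr_left
            intro o ho
            exact act_fix hF hSL hw1 ho (hSt o ho)
          rw [this]
          simp
        rw [h6] at h5
        rw [← h5]
        group

/-- The value of the torus character. -/
theorem chi_hG {r : ℕ} (hr : r < D.nroots) (e : Fˣ) (s : ℕ) :
    chiT D (fun i => e ^ (D.coroot.getD r #[]).getD i 0) s = e ^ om R D s r := by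
  unfold chiT om RootTab.lin
  have h1 : ∀ i : Fin D.rank, (e ^ (D.coroot.getD r #[]).getD i 0) ^ D.cartan i s =
      (fun k : ℕ => e ^ (D.cartan k s * R.rcAt r k)) i := by
    intro i
    show _ = e ^ (D.cartan i s * R.rcAt r i)
    rw [← _root_.zpow_mul, hSL.coroot r hr i i.2, mul_comm]
  rw [Finset.prod_congr rfl (fun i _ => h1 i),
    Fin.prod_univ_eq_prod_range (fun k : ℕ => e ^ (D.cartan k s * R.rcAt r k)) D.rank, hF.zpow_sum_range]

/-- Conjugation by `h_r(e)`. -/
theorem hG_conj_xG {r s : ℕ} (hr : r < D.nroots) (hs : s < D.nroots) (e : Fˣ) (t : F) :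
    hF.c.hG r (e : F) * hF.c.xG s t * (hF.c.hG r (e : F))⁻¹ =
      hF.c.xG s (((e ^ om R D s r : Fˣ) : F) * t) := by
  rw [hF.hG_eq_tor hr, hF.tor_conj_xG _ hs, chi_hG hF hSL hr]

/-- Normalising the coefficients. -/
theorem normalize [Fintype F] [CharP F 2] : ∀ L : List (ℕ × F), (∀ p ∈ L, p.1 < D.nroots ∧ p.2 ≠ 0) →
    (L.map Prod.fst).Pairwise (fun a b => om R D a b = 0) →
    ∃ h ∈ D.group F, (∀ s < D.nroots, (∀ p ∈ L, om R D p.1 s = 0) → ∀ t : F, h * hF.c.xG s t * h⁻¹ = hF.c.xG s t) ∧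
      h * hF.c.wordG L * h⁻¹ = xL hF F (L.map Prod.fst) := by
  intro L
  induction L with
  | nil =>
    intro _ _
    exact ⟨1, Subgroup.one_mem _, by simp, by simp [xL_nil hF, Checks.wordG_nil]⟩
  | cons p L ih =>
    intro h1 h2
    obtain ⟨r, c⟩ := p
    have hr := (h1 (r, c) List.mem_cons_self).1
    have hc : c ≠ 0 := (h1 (r, c) List.mem_cons_self).2
    simp only [List.map_cons, List.pairwise_cons] at h2
    obtain ⟨h', hh', hfix, hcon⟩ := ih (fun p hp => h1 p (List.mem_cons_of_mem _ hp)) h2.2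
    -- the square root
    obtain ⟨e0, he0⟩ := FiniteField.isSquare_of_char_two (ringChar.eq F 2) c⁻¹
    have he00 : e0 ≠ 0 := by
      rintro rfl
      rw [mul_zero] at he0
      exact inv_ne_zero hc he0
    set e : Fˣ := Units.mk0 e0 he00 with he
    have hecoe : (e : F) = e0 := rfl
    have h3 : ((e ^ om R D r r : Fˣ) : F) * c = 1 := by
      rw [hSL.self r hr]
      have : ((e ^ (2 : ℤ) : Fˣ) : F) = e0 * e0 := by
        simp [zpow_two, hecoe, pow_two]
      rw [this, ← he0]
      exact inv_mul_cancel₀ hc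
    have hfixe : ∀ s < D.nroots, om R D r s = 0 → ∀ t : F,
        hF.c.hG r (e : F) * hF.c.xG s t * (hF.c.hG r (e : F))⁻¹ = hF.c.xG s t := by
      intro s hs h0 t
      rw [hG_conj_xG hF hSL hr hs, hSL.symm s hs r hr, h0]
      simp
    have hL' : ∀ p ∈ L, p.1 < D.nroots := fun p hp => (h1 p (List.mem_cons_of_mem _ hp)).1
    have hwL : ∀ L' : List (ℕ × F), (∀ p ∈ L', p.1 < D.nroots ∧ om R D r p.1 = 0) →
        hF.c.hG r (e : F) * hF.c.wordG L' * (hF.c.hG r (e : F))⁻¹ = hF.c.wordG L' := by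
      intro L'
      induction L' with
      | nil =>
        intro _
        simp [Checks.wordG_nil]
      | cons q L' ih' =>
        intro hq
        rw [Checks.wordG_cons]
        have h4 := hfixe q.1 (hq q List.mem_cons_self).1 (hq q List.mem_cons_self).2 q.2
        have h5 := ih' (fun p hp => hq p (List.mem_cons_of_mem _ hp))
        calc hF.c.hG r (e : F) * (hF.c.xG q.1 q.2 * hF.c.wordG L') * (hF.c.hG r (e : F))⁻¹
            = (hF.c.hG r (e : F) * hF.c.xG q.1 q.2 * (hF.c.hG r (e : F))⁻¹) *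
              (hF.c.hG r (e : F) * hF.c.wordG L' * (hF.c.hG r (e : F))⁻¹) := by group
          _ = _ := by rw [h4, h5]
    refine ⟨h' * hF.c.hG r (e : F), Subgroup.mul_mem _ hh' (hF.c.hG_mem_group hr _), ?_, ?_⟩
    · intro s hs hp t
      have h4 := hfixe s hs (hp (r, c) List.mem_cons_self) t
      have h5 := hfix s hs (fun p hp' => hp p (List.mem_cons_of_mem _ hp')) t
      calc h' * hF.c.hG r (e : F) * hF.c.xG s t * (h' * hF.c.hG r (e : F))⁻¹
          = h' * (hF.c.hG r (e : F) * hF.c.xG s t * (hF.c.hG r (e : F))⁻¹) * h'⁻¹ := by group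
        _ = _ := by rw [h4, h5]
    · have h6 : hF.c.hG r (e : F) * hF.c.xG r c * (hF.c.hG r (e : F))⁻¹ = hF.c.xG r 1 := by
        rw [hG_conj_xG hF hSL hr hr, h3]
      have h7 := hwL L (fun p hp => ⟨hL' p hp, h2.1 p.1 (List.mem_map_of_mem hp)⟩)
      have h8 := hfix r hr (fun p hp => by
        rw [hSL.symm _ (hL' p hp) _ hr]
        exact h2.1 p.1 (List.mem_map_of_mem hp)) 1
      rw [Checks.wordG_cons, List.map_cons, xL_cons hF, ← hcon, ← h8]
      show h' * hF.c.hG r (e : F) * (hF.c.xG r c * hF.c.wordG L) * (h' * hF.c.hG r (e : F))⁻¹ = _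
      calc h' * hF.c.hG r (e : F) * (hF.c.xG r c * hF.c.wordG L) * (h' * hF.c.hG r (e : F))⁻¹
          = h' * (hF.c.hG r (e : F) * hF.c.xG r c * (hF.c.hG r (e : F))⁻¹) *
              (hF.c.hG r (e : F) * hF.c.wordG L * (hF.c.hG r (e : F))⁻¹) * h'⁻¹ := by group
        _ = h' * hF.c.xG r 1 * hF.c.wordG L * h'⁻¹ := by rw [h6, h7]
        _ = _ := by group

/-- Products over orthogonal lists do not depend on the order. -/
theorem xL_perm {L L' : List ℕ} (hL : OrthL R D L) (h : L.Perm L') :
    xL hF F L = xL hF F L' := by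
  rw [xL_eq_prod hF, xL_eq_prod hF]
  apply List.Perm.prod_eq' (h.map _)
  rw [List.pairwise_map]
  have hrange : L.Pairwise (fun a b => a < D.nroots ∧ b < D.nroots ∧ om R D a b = 0) :=
    List.Pairwise.imp_of_mem (fun {a b} ha hb h => ⟨hL.1 a ha, hL.1 b hb, h⟩) hL.2
  exact hrange.imp (fun {a b} h => (comm_of_orth hF hSL h.1 h.2.1 h.2.2 1 1).symm)

/-- A product over an orthogonal list is an involution. -/
theorem xL_sq [CharP F 2] {L : List ℕ} (hL : OrthL R D L) : xL hF F L * xL hF F L = 1 := by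
  obtain ⟨h1, h2⟩ := hL
  induction L with
  | nil => simp [xL_nil hF]
  | cons r L ih =>
    rw [List.pairwise_cons] at h2
    have h3 : hF.c.xG r (1 : F) * hF.c.xG r 1 = 1 := by
      rw [hF.c.xG_add, CharTwo.add_self_eq_zero, hF.c.xG_zero]
    have h4 : ∀ L' : List ℕ, (∀ s ∈ L', s < D.nroots ∧ om R D r s = 0) →
        xL hF F L' * hF.c.xG r 1 = hF.c.xG r 1 * xL hF F L' := by
      intro L'
      induction L' with
      | nil =>
        intro _
        simp [xL_nil hF]
      | cons s L' ih' =>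
        intro hs
        rw [xL_cons hF]
        have h5 := ih' (fun p hp => hs p (List.mem_cons_of_mem _ hp))
        have h6 := comm_of_orth (F := F) hF hSL (h1 r List.mem_cons_self) (hs s List.mem_cons_self).1
          (hs s List.mem_cons_self).2 1 1
        rw [mul_assoc, h5, ← mul_assoc, h6, mul_assoc]
    have h5 := ih (fun s hs => h1 s (List.mem_cons_of_mem _ hs)) h2.2
    rw [xL_cons hF]
    have h6 := h4 L (fun s hs => ⟨h1 s (List.mem_cons_of_mem _ hs), h2.1 s hs⟩)
    calc hF.c.xG r 1 * xL hF F L * (hF.c.xG r 1 * xL hF F L)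
        = hF.c.xG r 1 * (xL hF F L * hF.c.xG r 1) * xL hF F L := by group
      _ = hF.c.xG r 1 * (hF.c.xG r 1 * xL hF F L) * xL hF F L := by rw [h6]
      _ = (hF.c.xG r 1 * hF.c.xG r 1) * (xL hF F L * xL hF F L) := by group
      _ = 1 := by rw [h3, h5, one_mul]

end roots

end part

/-- A list is resolved: conjugate under the Weyl group to a representative, or to a shorter orthogonal list. -/
def Resolved (hF : Full T X R D) (F : Type*) [Field F] (Reps : List (List ℕ)) (St : List ℕ) : Prop :=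
  (∃ N ∈ Reps, ∃ w : List ℕ, (∀ i ∈ w, i < D.rank) ∧ (St.map (act X w)).Perm N) ∨
    (∃ L', OrthL R D L' ∧ L'.length < St.length ∧ ∃ g ∈ D.group F, g * xL hF F St * g⁻¹ = xL hF F L')

section classify

include hF

variable (hSL : SL R D)
include hSL

/-- Every orthogonal list is conjugate to a representative. -/
theorem classify_orth [CharP F 2] {Reps : List (List ℕ)} {f : ℕ}
    (hT : TreeOK R D (fun St => ∃ St₀, St.Perm St₀ ∧ OrthL R D St₀ ∧ Resolved hF F Reps St₀) f []) :
    ∀ (n : ℕ) (L : List ℕ), L.length = n → OrthL R D L → ∃ g ∈ D.group F, ∃ N ∈ Reps, g * xL hF F L * g⁻¹ = xL hF F N := by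
  intro n
  induction n using Nat.strong_induction_on with
  | _ n ih =>
  intro L hn hL
  obtain ⟨g, hg, St', ⟨St₀, hS1, hS2, hS3⟩, hS4, hS5⟩ := tower (F := F) hF hSL f [] L hT (by simp)
    (fun r hr => ⟨hL.1 r hr, by simp⟩) hL.2
  have hSt0 : xL hF F St' = xL hF F St₀ := (xL_perm hF hSL hS2 hS1.symm).symm
  simp only [List.nil_append, List.length_nil, zero_add] at hS4 hS5
  rcases hS3 with ⟨N, hN, w, hw, hperm⟩ | ⟨L', hL', hlen, g', hg', hE⟩
  · have h1 := nW_conj_xL (F := F) hF hw hS2.1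
    have h2 := xL_perm (F := F) hF hSL (orth_map_act hF hSL hw hS2) hperm
    refine ⟨nW hF F w * g, Subgroup.mul_mem _ (nW_mem_group hF hw) hg, N, hN, ?_⟩
    rw [← h2, ← h1, ← hSt0, ← hS5]
    group
  · have hlen2 : L'.length < n := by
      have := hS1.length_eq
      omega
    obtain ⟨g'', hg'', N, hN, hE2⟩ := ih _ hlen2 L' rfl hL'
    refine ⟨g'' * g' * g, Subgroup.mul_mem _ (Subgroup.mul_mem _ hg'' hg') hg, N, hN, ?_⟩
    rw [← hE2, ← hE, ← hSt0, ← hS5]
    group

/-- Every involution of the group is conjugate to a representative. -/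
theorem classify_inv [Fintype F] [CharP F 2] {Reps : List (List ℕ)} {f : ℕ}
    (hT : TreeOK R D (fun St => ∃ St₀, St.Perm St₀ ∧ OrthL R D St₀ ∧ Resolved hF F Reps St₀) f [])
    {t : GL D.Idx F} (ht : t ∈ D.group F) (htt : t * t = 1) :
    ∃ h ∈ D.group F, ∃ N ∈ Reps, h * t * h⁻¹ = xL hF F N := by
  have hUG : Subgroup.zpowers t ≤ D.group F := by
    rw [Subgroup.zpowers_le]
    exact ht
  have hU : IsPGroup 2 ↥(Subgroup.zpowers t) := by
    rintro ⟨g, hg⟩
    obtain ⟨n, rfl⟩ := Subgroup.mem_zpowers_iff.1 hg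
    refine ⟨1, ?_⟩
    apply Subtype.ext
    show (t ^ n) ^ (2 ^ 1) = 1
    rw [pow_one, ← zpow_natCast, ← _root_.zpow_mul, mul_comm, _root_.zpow_mul]
    have : t ^ (((2 : ℕ) : ℤ)) = 1 := by
      rw [zpow_natCast, pow_two, htt]
    rw [this, _root_.one_zpow]
  obtain ⟨g, hg, hgU⟩ := Cfsg.Agent.Lib.BorelTits50.exists_conj_U hF (p := 2) _ hUG hU
  have ht1 := hgU t (Subgroup.mem_zpowers t)
  have hle : D.posUnipotent F ≤ rootClosure D F (Sg R D []) := by
    rw [hF.U_eq_Uk]
    exact rootClosure_mono (fun s hs => ⟨hs.1, hs.2, by simp⟩)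
  have htt1 : (g⁻¹ * t * g) * (g⁻¹ * t * g) = 1 := by
    calc (g⁻¹ * t * g) * (g⁻¹ * t * g) = g⁻¹ * (t * t) * g := by group
      _ = 1 := by rw [htt]; group
  obtain ⟨h₁, hh₁, L, hL1, hL2, hL3⟩ := normal_form hF hSL _ [] rfl _ (hle ht1) htt1
  have hKG : rootClosure D F (Sg R D []) ≤ D.group F := rootClosure_le_group hF (fun r hr => hr.2.1)
  obtain ⟨h₂, hh₂, -, hE⟩ := normalize hF hSL L (fun p hp => ⟨(hL1 p hp).1.2.1, (hL1 p hp).2⟩) hL2
  have hO : OrthL R D (L.map Prod.fst) := by
    refine ⟨?_, hL2⟩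
    intro r hr
    obtain ⟨p, hp, rfl⟩ := List.mem_map.1 hr
    exact (hL1 p hp).1.2.1
  obtain ⟨h₃, hh₃, N, hN, hE3⟩ := classify_orth hF hSL hT _ _ rfl hO
  refine ⟨h₃ * h₂ * h₁ * g⁻¹, Subgroup.mul_mem _ (Subgroup.mul_mem _ (Subgroup.mul_mem _ hh₃ hh₂) (hKG hh₁))
    (Subgroup.inv_mem _ hg), N, hN, ?_⟩
  rw [← hE3, ← hE, ← hL3]
  group

end classify

end Cfsg.Agent.Lib.ChevInv
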