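import Mathlib
import Cfsg.Agent.Lib.ChevInv.Tower

/-!
# A collector for words in the root elements `x_r(1)` of positive roots, in characteristic two
-/

set_option autoImplicit false
set_option linter.unusedSectionVars false
set_option linter.unusedVariables false
set_option linter.unnecessarySimpa false

namespace Cfsg.Agent.Lib.ChevInv

open Cfsg Cfsg.Lie Matrix Cfsg.Agent.Lib.Chev Cfsg.Agent.Lib.Chev.Full Cfsg.Agent.Lib.Chev.Tri
open Cfsg.Agent.Lib.ChevAut.LongRoot Cfsg.Agent.Lib.ChevAut.RootCent Cfsg.Agent.Lib.ChevAut.ParabFit Equiv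

variable {T : Tabs} {X : Extra} {R : RootTab} {D : ChevalleyDatum} (hF : Full T X R D)
variable {F : Type*} [Field F]

/-- The letters of a commutator, modulo two. -/
def cLetters (D : ChevalleyDatum) (r s : ℕ) : List ℕ :=
  ((D.commTerms r s).filter (fun c => c.2.1 % 2 == 1)).map (fun c => c.1)

/-- Insert a letter in a word. -/
def insL (D : ChevalleyDatum) (N : ℕ) : ℕ → ℕ → List ℕ → Option (List ℕ)
  | 0, _, _ => none
  | _ + 1, r, [] => if N ≤ r ∧ r < D.nroots then some [r] else none
  | f + 1, r, s :: l =>
    if (N ≤ r ∧ r < D.nroots) ∧ (N ≤ s ∧ s < D.nroots) then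
      if r < s then some (r :: s :: l)
      else if r = s then some l
      else
        ((cLetters D s r).foldr (fun c acc => acc.bind (insL D N f c)) (some l)).bind
          (fun l1 => (insL D N f r l1).bind (fun l2 => some (s :: l2)))
    else none

/-- Collect a word. -/
def collL (D : ChevalleyDatum) (N f : ℕ) (w : List ℕ) : Option (List ℕ) :=
  w.foldr (fun c acc => acc.bind (insL D N f c)) (some [])

theorem int_cast_char_two [CharP F 2] (n : ℤ) : ((n : ℤ) : F) = if n % 2 == 1 then 1 else 0 := by
  have h2 : (2 : F) = 0 := CharTwo.two_eq_zero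
  have h := Int.emod_add_mul_ediv n 2
  have h3 : ((n : ℤ) : F) = ((n % 2 : ℤ) : F) := by
    conv_lhs => rw [← h]
    push_cast
    rw [h2]
    simp
  rw [h3]
  rcases Int.emod_two_eq_zero_or_one n with h4 | h4
  · rw [h4]
    simp
  · rw [h4]
    simp

section part

include hF

/-- The commutator word in characteristic two. -/
theorem commWord_one [CharP F 2] (r s : ℕ) :
    hF.c.wordG (D.commWord F r s 1 1) = xL hF F (cLetters D r s) := by
  unfold ChevalleyDatum.commWord cLetters
  generalize D.commTerms r s = L
  induction L with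
  | nil => simp [xL_nil hF, Checks.wordG_nil]
  | cons c L ih =>
    have h1 : ((-1 : F)) = 1 := CharTwo.neg_eq 1
    rw [List.map_cons, Checks.wordG_cons, ih]
    rw [int_cast_char_two (F := F) c.2.1]
    by_cases h2 : (c.2.1 % 2 == 1) = true
    · simp only [List.filter_cons, h2, if_true, List.map_cons, xL_cons hF]
      simp [h1]
    · simp only [List.filter_cons, h2, if_false]
      simp [h1, hF.c.xG_zero]

theorem insL_sound [CharP F 2] : ∀ (f r : ℕ) (l l' : List ℕ), insL D R.N f r l = some l' →
    xL hF F l' = hF.c.xG r 1 * xL hF F l := by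
  intro f
  induction f with
  | zero =>
    intro r l l' h
    simp [insL] at h
  | succ f ih =>
    intro r l l' h
    cases l with
    | nil =>
      simp only [insL] at h
      split_ifs at h with h1
      obtain rfl : [r] = l' := by simpa using h
      simp [xL_cons hF, xL_nil hF]
    | cons s l =>
      simp only [insL] at h
      split_ifs at h with h1 h2 h3
      · obtain rfl : r :: s :: l = l' := by simpa using h
        rw [xL_cons hF]
      · obtain rfl : l = l' := by simpa using h
        subst h3
        rw [xL_cons hF, ← mul_assoc, hF.c.xG_add, CharTwo.add_self_eq_zero, hF.c.xG_zero, one_mul]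
      · rw [Option.bind_eq_some_iff] at h
        obtain ⟨l1, hl1, h⟩ := h
        rw [Option.bind_eq_some_iff] at h
        obtain ⟨l2, hl2, h⟩ := h
        obtain rfl : s :: l2 = l' := by simpa using h
        have hfold : ∀ (cs : List ℕ) (l0 l3 : List ℕ),
            cs.foldr (fun c acc => acc.bind (insL D R.N f c)) (some l0) = some l3 →
            xL hF F l3 = xL hF F cs * xL hF F l0 := by
          intro cs
          induction cs with
          | nil =>
            intro l0 l3 h4
            obtain rfl : l0 = l3 := by simpa using h4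
            simp [xL_nil hF]
          | cons c cs ihc =>
            intro l0 l3 h4
            rw [List.foldr_cons, Option.bind_eq_some_iff] at h4
            obtain ⟨l4, hl4, h5⟩ := h4
            rw [ih _ _ _ h5, ihc _ _ hl4, xL_cons hF, mul_assoc]
        rw [xL_cons hF, ih _ _ _ hl2, hfold _ _ _ hl1, ← commWord_one hF, xL_cons hF]
        have hsr : s < r := by omega
        have hne := neg_ne_of_pos hF h1.2.2 h1.2.1 h1.1.1
        have hcomm := hF.xG_comm h1.2.2 h1.1.2 (by omega) hne (1 : F) 1
        simp only [← mul_assoc]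
        rw [hcomm]

theorem collL_sound [CharP F 2] (f : ℕ) : ∀ (w l : List ℕ), collL D R.N f w = some l → xL hF F l = xL hF F w := by
  intro w
  induction w with
  | nil =>
    intro l h
    obtain rfl : [] = l := by simpa [collL] using h
    rfl
  | cons c w ih =>
    intro l h
    unfold collL at h
    rw [List.foldr_cons, Option.bind_eq_some_iff] at h
    obtain ⟨l1, hl1, h2⟩ := h
    rw [insL_sound hF _ _ _ _ h2, ih l1 hl1, xL_cons hF]

theorem xL_reverse [CharP F 2] (w : List ℕ) : xL hF F w * xL hF F w.reverse = 1 := by
  induction w with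
  | nil => simp [xL_nil hF]
  | cons r w ih =>
    rw [List.reverse_cons, xL_append hF, xL_cons hF, xL_cons hF, xL_nil hF, mul_one]
    calc hF.c.xG r 1 * xL hF F w * (xL hF F w.reverse * hF.c.xG r 1)
        = hF.c.xG r 1 * (xL hF F w * xL hF F w.reverse) * hF.c.xG r 1 := by group
      _ = hF.c.xG r 1 * hF.c.xG r 1 := by rw [ih, mul_one]
      _ = 1 := by rw [hF.c.xG_add, CharTwo.add_self_eq_zero, hF.c.xG_zero]

/-- A conjugation certified by the collector. -/
theorem conj_of_coll [CharP F 2] (f : ℕ) {w St L' l : List ℕ} (hw : ∀ r ∈ w, r < D.nroots)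
    (h1 : collL D R.N f (w ++ St ++ w.reverse) = some l) (h2 : collL D R.N f L' = some l) :
    ∃ g ∈ D.group F, g * xL hF F St * g⁻¹ = xL hF F L' := by
  refine ⟨xL hF F w, xL_mem_group hF hw, ?_⟩
  have h3 := collL_sound (F := F) hF f _ _ h1
  have h4 := collL_sound (F := F) hF f _ _ h2
  rw [xL_append hF, xL_append hF] at h3
  have h5 : (xL hF F w)⁻¹ = xL hF F w.reverse := inv_eq_of_mul_eq_one_right (xL_reverse hF w)
  rw [h5, ← h3, h4]

end part

end Cfsg.Agent.Lib.ChevInv
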