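import Mathlib
import Cfsg.Agent.Lib.ChevInv.Coll
import Cfsg.Agent.Lib.ChevInv.StepA

/-!
# Commutators modulo two, closed sets of positive roots and the coordinates of their subgroups
-/

set_option autoImplicit false
set_option linter.unusedSectionVars false
set_option linter.unusedVariables false
set_option linter.unnecessarySimpa false

namespace Cfsg.Agent.Lib.ChevInv

open Cfsg Cfsg.Lie Matrix Cfsg.Agent.Lib.Chev Cfsg.Agent.Lib.Chev.Full Cfsg.Agent.Lib.Chev.Tri
open Cfsg.Agent.Lib.ChevAut.LongRoot Cfsg.Agent.Lib.ChevAut.RootCent Cfsg.Agent.Lib.ChevAut.ParabFit Equiv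

variable {T : Tabs} {X : Extra} {R : RootTab} {D : ChevalleyDatum} (hF : Full T X R D)
variable {F : Type*} [Field F]

/-- The commutator terms with odd coefficient. -/
def oddT (D : ChevalleyDatum) (r s : ℕ) : List (ℕ × ℤ × ℕ × ℕ) :=
  (D.commTerms r s).filter (fun c => c.2.1 % 2 == 1)

/-- The word of a conjugation in characteristic two. -/
noncomputable def oddW (D : ChevalleyDatum) (F : Type*) [Field F] (r s : ℕ) (t u : F) : List (ℕ × F) :=
  (oddT D r s).map fun c => (c.1, t ^ c.2.2.1 * u ^ c.2.2.2)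

theorem mem_oddT_commTerms {r s : ℕ} {c : ℕ × ℤ × ℕ × ℕ} (h : c ∈ oddT D r s) : c ∈ D.commTerms r s :=
  (List.mem_filter.1 h).1

/-- Closed sets of positive roots, modulo two. -/
def ClosedQ (R : RootTab) (D : ChevalleyDatum) (Q : ℕ → Prop) : Prop :=
  (∀ s, Q s → R.N ≤ s ∧ s < D.nroots) ∧ ∀ r s, Q r → Q s → r ≠ s → ∀ c ∈ oddT D r s, Q c.1

section part

include hF

theorem word_odd [CharP F 2] (r s : ℕ) (t u : F) :
    hF.c.wordG (D.commWord F r s (-t) u) = hF.c.wordG (oddW D F r s t u) := by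
  unfold ChevalleyDatum.commWord oddW oddT
  generalize D.commTerms r s = L
  induction L with
  | nil => simp [Checks.wordG_nil]
  | cons c L ih =>
    rw [List.map_cons, Checks.wordG_cons, ih]
    rw [int_cast_char_two (F := F) c.2.1]
    by_cases h2 : (c.2.1 % 2 == 1) = true
    · simp only [List.filter_cons, h2, if_true, List.map_cons, Checks.wordG_cons]
      simp
    · simp only [List.filter_cons, h2, if_false]
      simp [hF.c.xG_zero]

/-- Conjugation in characteristic two. -/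
theorem conj_odd [CharP F 2] {r s : ℕ} (hr : r < D.nroots) (hs : s < D.nroots) (h1 : s ≠ r) (h2 : s ≠ D.neg r)
    (t u : F) :
    hF.c.xG r t * hF.c.xG s u * (hF.c.xG r t)⁻¹ = hF.c.xG s u * hF.c.wordG (oddW D F r s t u) := by
  rw [hF.xG_conj hr hs h1 h2, word_odd hF]

/-- Commuting when there is no odd term. -/
theorem comm_of_oddT [CharP F 2] {r s : ℕ} (hr : r < D.nroots) (hs : s < D.nroots) (h1 : s ≠ r) (h2 : s ≠ D.neg r)
    (h : oddT D r s = []) (t u : F) :
    hF.c.xG r t * hF.c.xG s u = hF.c.xG s u * hF.c.xG r t := by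
  have h3 := conj_odd hF hr hs h1 h2 t u
  have h4 : oddW D F r s t u = [] := by simp [oddW, h]
  rw [h4, Checks.wordG_nil, mul_one] at h3
  calc hF.c.xG r t * hF.c.xG s u = (hF.c.xG r t * hF.c.xG s u * (hF.c.xG r t)⁻¹) * hF.c.xG r t := by group
    _ = _ := by rw [h3]

/-- Root elements normalising a subgroup generated by root elements, in characteristic two. -/
theorem xG_mem_normalizer2 [CharP F 2] {r : ℕ} (hr : r < D.nroots) (Q : ℕ → Prop)
    (hQ : ∀ s, Q s → s < D.nroots ∧ s ≠ D.neg r)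
    (hterm : ∀ s, Q s → s ≠ r → ∀ c ∈ oddT D r s, Q c.1) (t : F) :
    hF.c.xG r t ∈ Subgroup.normalizer (rootClosure D F Q : Set (GL D.Idx F)) := by
  have key : ∀ (t : F) (g : GL D.Idx F), (∃ (s : ℕ) (u : F), Q s ∧
      (g : Matrix D.Idx D.Idx F) = D.x F s u) →
      hF.c.xG r t * g * (hF.c.xG r t)⁻¹ ∈ rootClosure D F Q := by
    rintro t g ⟨s, u, hs, hg⟩
    rw [hF.c.eq_xG hg]
    by_cases hsr : s = r
    · subst hsr
      rw [hF.c.xG_inv, hF.c.xG_add, hF.c.xG_add]
      have : t + u + -t = u := by ring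
      rw [this]
      exact hF.xG_mem_rootClosure hs u
    · rw [conj_odd hF hr (hQ s hs).1 hsr (hQ s hs).2]
      refine Subgroup.mul_mem _ (hF.xG_mem_rootClosure hs u) ?_
      apply hF.c.wordG_mem
      intro p hp
      simp only [oddW, List.mem_map] at hp
      obtain ⟨c, hc, rfl⟩ := hp
      exact hF.xG_mem_rootClosure (hterm s hs hsr c hc) _
  apply GroupLem.mem_normalizer_closure
  · intro g hg
    exact key t g hg
  · intro g hg
    have := key (-t) g hg
    rwa [← hF.c.xG_inv] at this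

/-- Low coordinates vanish. -/
theorem ordW_low {k : ℕ} {τ : ℕ → F} : ∀ (n j : ℕ), j + n = k → k ≤ D.nroots → (∀ r, j ≤ r → r < k → τ r = 0) →
    hF.ordW j τ = hF.ordW k τ := by
  intro n
  induction n with
  | zero =>
    intro j hj _ _
    have : j = k := by omega
    rw [this]
  | succ n ih =>
    intro j hj hk h
    have hjn : j < D.nroots := by omega
    rw [hF.ordW_succ hjn, h j le_rfl (by omega), hF.c.xG_zero, one_mul]
    exact ih (j + 1) (by omega) hk (fun r h1 h2 => h r (by omega) h2)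

theorem cl_step [CharP F 2] {Q : ℕ → Prop} (hQ : ClosedQ R D Q) (k : ℕ) {g : GL D.Idx F}
    (hg : g ∈ rootClosure D F (fun s => Q s ∧ k ≤ s)) :
    ∃ (t : F) (g' : GL D.Idx F), g' ∈ rootClosure D F (fun s => Q s ∧ k + 1 ≤ s) ∧
      g = hF.c.xG k t * g' ∧ (¬ Q k → t = 0) := by
  set H := rootClosure D F (fun s => Q s ∧ k + 1 ≤ s) with hH
  have hnorm : ∀ b : F, (¬ Q k → b = 0) → ∀ y ∈ H, (hF.c.xG k b)⁻¹ * y * hF.c.xG k b ∈ H := by
    intro b hb y hy
    by_cases hk : Q k
    · have hkn := hQ.1 k hk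
      have h1 := xG_mem_normalizer2 hF (F := F) hkn.2 (fun s => Q s ∧ k + 1 ≤ s) (by
          intro s hs
          exact ⟨(hQ.1 s hs.1).2, neg_ne_of_pos hF hkn.2 hkn.1 (hQ.1 s hs.1).1⟩) (by
          intro s hs hsk c hc
          refine ⟨hQ.2 k s hk hs.1 (Ne.symm hsk) c hc, ?_⟩
          have h2 := hF.commTerm_pos hkn.2 (hQ.1 s hs.1).2 hsk (neg_ne_of_pos hF hkn.2 hkn.1 (hQ.1 s hs.1).1)
            (mem_oddT_commTerms hc) hkn.1 (hQ.1 s hs.1).1
          omega) (-b)
      rw [hF.c.xG_inv]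
      have h2 := (Subgroup.mem_set_normalizer_iff.1 h1 y).1 hy
      rw [hF.c.xG_inv, _root_.neg_neg] at h2
      exact h2
    · rw [hb hk, hF.c.xG_zero]
      simpa using hy
  induction hg using Subgroup.closure_induction with
  | mem g hg =>
    obtain ⟨s, t, ⟨hs, hks⟩, hg⟩ := hg
    rw [hF.c.eq_xG hg]
    by_cases hsk : s = k
    · subst hsk
      exact ⟨t, 1, Subgroup.one_mem _, by simp, fun h => absurd hs h⟩
    · refine ⟨0, hF.c.xG s t, hF.xG_mem_rootClosure ⟨hs, by omega⟩ t, by rw [hF.c.xG_zero, one_mul], fun _ => rfl⟩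
  | one =>
    exact ⟨0, 1, Subgroup.one_mem _, by rw [hF.c.xG_zero, one_mul], fun _ => rfl⟩
  | mul a b _ _ iha ihb =>
    obtain ⟨s, a', ha', rfl, hs⟩ := iha
    obtain ⟨t, b', hb', rfl, ht⟩ := ihb
    refine ⟨s + t, ((hF.c.xG k t)⁻¹ * a' * hF.c.xG k t) * b', Subgroup.mul_mem _ (hnorm t ht a' ha') hb', ?_, ?_⟩
    · rw [← hF.c.xG_add]
      group
    · intro h
      rw [hs h, ht h, add_zero]
  | inv a _ iha =>
    obtain ⟨s, a', ha', rfl, hs⟩ := iha
    refine ⟨-s, (hF.c.xG k (-s))⁻¹ * a'⁻¹ * hF.c.xG k (-s), hnorm (-s) (fun h => by rw [hs h, neg_zero]) _ (Subgroup.inv_mem _ ha'), ?_, ?_⟩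
    · have h9 : hF.c.xG k (-s) = (hF.c.xG k s)⁻¹ := by rw [hF.c.xG_inv]
      rw [h9]
      group
    · intro h
      rw [hs h, neg_zero]

theorem cl_ordW [CharP F 2] {Q : ℕ → Prop} (hQ : ClosedQ R D Q) : ∀ (m k : ℕ), k + m = D.nroots → R.N ≤ k →
    ∀ g ∈ rootClosure D F (fun s => Q s ∧ k ≤ s),
      ∃ τ : ℕ → F, g = hF.ordW k τ ∧ ∀ s, k ≤ s → s < D.nroots → τ s ≠ 0 → Q s := by
  intro m
  induction m with
  | zero =>
    intro k hk hN g hg
    have h1 : rootClosure D F (fun s => Q s ∧ k ≤ s) = ⊥ := by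
      rw [rootClosure, Subgroup.closure_eq_bot_iff]
      rintro g ⟨s, t, ⟨hs, hks⟩, -⟩
      have := (hQ.1 s hs).2
      omega
    rw [h1, Subgroup.mem_bot] at hg
    refine ⟨0, by rw [hg, hF.ordW_of_ge (by omega)], ?_⟩
    intro s h2 h3
    omega
  | succ m ih =>
    intro k hk hN g hg
    obtain ⟨t, g', hg', rfl, ht⟩ := cl_step hF hQ k hg
    obtain ⟨τ, rfl, hτ⟩ := ih (k + 1) (by omega) (by omega) g' hg'
    refine ⟨Function.update τ k t, ?_, ?_⟩
    · rw [hF.ordW_succ (k := k) (by omega) (Function.update τ k t), Function.update_self]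
      congr 1
      apply hF.ordW_congr
      intro r h1 _
      rw [Function.update_of_ne (by omega)]
    · intro s h1 h2 h3
      by_cases hsk : s = k
      · subst hsk
        by_contra hcon
        rw [Function.update_self] at h3
        exact h3 (ht hcon)
      · rw [Function.update_of_ne hsk] at h3
        exact hτ s (by omega) h2 h3

/-- The coordinates of an element of the subgroup of a closed set lie in the set. -/
theorem support_closed [CharP F 2] {Q : ℕ → Prop} (hQ : ClosedQ R D Q) {k : ℕ} (hk : R.N ≤ k) (hkn : k ≤ D.nroots) {τ : ℕ → F}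
    (h : hF.ordW k τ ∈ rootClosure D F Q) {s : ℕ} (h3 : k ≤ s) (h4 : s < D.nroots) (h5 : τ s ≠ 0) : Q s := by
  have hN : R.N ≤ D.nroots := by omega
  have h1 : rootClosure D F Q ≤ rootClosure D F (fun s => Q s ∧ R.N ≤ s) :=
    rootClosure_mono (fun s hs => ⟨hs, (hQ.1 s hs).1⟩)
  obtain ⟨τ', he, hτ'⟩ := cl_ordW hF hQ (D.nroots - R.N) R.N (by omega) le_rfl _ (h1 h)
  set τ'' : ℕ → F := fun j => if k ≤ j then τ j else 0 with hτ''
  have h2 : hF.ordW R.N τ'' = hF.ordW k τ := by
    rw [ordW_low hF (k - R.N) R.N (by omega) hkn (fun r _ h => by simp [hτ'', not_le.2 h])]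
    apply hF.ordW_congr
    intro r h6 _
    simp [hτ'', h6]
  have h6 : (hF.ordW R.N τ'')⁻¹ * hF.ordW R.N τ' ∈ Uk D F D.nroots := by
    rw [← he, h2]
    simp [Subgroup.one_mem]
  have h7 := coord_eq_of_mem hF (D.nroots - R.N) R.N (by omega) le_rfl τ'' τ' h6 s (by omega) h4 h4
  apply hτ' s (by omega) h4
  rw [← h7]
  simpa [hτ'', h3] using h5

/-- A root element for a root outside a closed set is not in its subgroup. -/
theorem xG_not_mem_closed [CharP F 2] {Q : ℕ → Prop} (hQ : ClosedQ R D Q) {m : ℕ} (hmN : R.N ≤ m) (hm : m < D.nroots)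
    (hmQ : ¬ Q m) {b : F} (h : hF.c.xG m b ∈ rootClosure D F Q) : b = 0 := by
  by_contra hb
  set τ : ℕ → F := fun j => if j = m then b else 0 with hτ
  have h1 : hF.ordW m τ = hF.c.xG m b := by
    rw [hF.ordW_succ hm]
    have h2 : hF.ordW (m + 1) τ = hF.ordW (m + 1) (0 : ℕ → F) := by
      apply hF.ordW_congr
      intro r h3 _
      have : r ≠ m := by omega
      simp [hτ, this]
    rw [h2, hF.ordW_zero, mul_one]
    simp [hτ]
  rw [← h1] at h
  exact hmQ (support_closed hF hQ hmN hm.le h le_rfl hm (by simpa [hτ] using hb))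

end part

end Cfsg.Agent.Lib.ChevInv
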