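import Mathlib
import Cfsg.Agent.Lib.ChevInv.Gen1

/-!
# Elimination and forcing steps for involutions in `U`, for arbitrary root data in characteristic two
-/

set_option autoImplicit false
set_option linter.unusedSectionVars false
set_option linter.unusedVariables false
set_option linter.unnecessarySimpa false

namespace Cfsg.Agent.Lib.ChevInv

open Cfsg Cfsg.Lie Matrix Cfsg.Agent.Lib.Chev Cfsg.Agent.Lib.Chev.Full Cfsg.Agent.Lib.Chev.Tri
open Cfsg.Agent.Lib.ChevAut.LongRoot Cfsg.Agent.Lib.ChevAut.RootCent Cfsg.Agent.Lib.ChevAut.ParabFit Equiv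

variable {T : Tabs} {X : Extra} {R : RootTab} {D : ChevalleyDatum} (hF : Full T X R D)
variable {F : Type*} [Field F]

/-- A bookkeeping lemma on cosets. -/
theorem coset_move {G : Type*} [Group G] {N : Subgroup G} {y e w₁ : G} (hy : y ∈ N) (he : e ∈ Subgroup.normalizer (N : Set G))
    (hw₁ : w₁ ∈ N) : ∃ w ∈ N, w₁ * y * e = y * e * w := by
  have h1 : y⁻¹ * w₁ * y ∈ N := Subgroup.mul_mem _ (Subgroup.mul_mem _ (Subgroup.inv_mem _ hy) hw₁) hy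
  have h2 : e⁻¹ ∈ Subgroup.normalizer (N : Set G) := Subgroup.inv_mem _ he
  have h3 := (Subgroup.mem_set_normalizer_iff.1 h2 _).1 h1
  refine ⟨e⁻¹ * (y⁻¹ * w₁ * y) * e⁻¹⁻¹, h3, ?_⟩
  group

section part

include hF

theorem U_le_normalizer_Uk {k : ℕ} (hk : R.N ≤ k) :
    D.posUnipotent F ≤ Subgroup.normalizer (Uk D F k : Set (GL D.Idx F)) := by
  rw [hF.U_eq_Uk, Uk, rootClosure, Subgroup.closure_le]
  rintro g ⟨s, t, hs, hg⟩
  rw [SetLike.mem_coe, hF.c.eq_xG hg]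
  exact hF.xG_mem_normalizer_Uk hs.2 hs.1 hk t

/-- One elimination step. -/
theorem elim_gen {r₀ v m : ℕ} (hr₀N : R.N ≤ r₀) (hr₀ : r₀ < D.nroots) (hv : v < D.nroots) (hvN : R.N ≤ v)
    (hm : m < D.nroots)
    (hphi : R.lin D.rank hF.phiW m = R.lin D.rank hF.phiW r₀ + R.lin D.rank hF.phiW v)
    {Qa : ℕ → Prop} (hQa : ∀ s, Qa s → r₀ < s ∧ s < D.nroots) (hmQ : Qa m) {a c b : F} {w : GL D.Idx F}
    (hw1 : w ∈ rootClosure D F Qa) (hw2 : w ∈ Uk D F (m + 1))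
    (hnorm : hF.c.xG v a ∈ Subgroup.normalizer (rootClosure D F Qa : Set (GL D.Idx F)))
    (hsupp : ∀ τ' : ℕ → F, hF.ordW (r₀ + 1) τ' ∈ rootClosure D F Qa →
      ∀ s, r₀ < s → s < D.nroots → τ' s ≠ 0 → Qa s)
    (hz : hF.c.xG v a * hF.c.xG r₀ c * (hF.c.xG v a)⁻¹ = hF.c.xG r₀ c * (hF.c.xG m b * w))
    {τ : ℕ → F} (hτ : ∀ s, r₀ < s → s < D.nroots → τ s ≠ 0 → Qa s) :
    ∃ τ'' : ℕ → F, (∀ s, r₀ < s → s < D.nroots → τ'' s ≠ 0 → Qa s) ∧
      (∀ s, r₀ < s → s < m → τ'' s = τ s) ∧ τ'' m = τ m + b ∧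
      hF.c.xG v a * (hF.c.xG r₀ c * hF.ordW (r₀ + 1) τ) * (hF.c.xG v a)⁻¹ =
        hF.c.xG r₀ c * hF.ordW (r₀ + 1) τ'' := by
  have hr₀m : r₀ < m := (hQa m hmQ).1
  have hmN : R.N ≤ m := by omega
  have hkN : R.N ≤ r₀ + 1 := by omega
  have hKle : rootClosure D F Qa ≤ Uk D F (r₀ + 1) :=
    rootClosure_mono (fun s hs => ⟨(hQa s hs).1, (hQa s hs).2⟩)
  set y := hF.ordW (r₀ + 1) τ with hy
  have hyK : y ∈ rootClosure D F Qa :=
    ordW_mem_closure hF (fun r hr1 hr2 hr3 => hτ r (by omega) hr2 hr3)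
  have hxm : hF.c.xG m b ∈ rootClosure D F Qa := hF.xG_mem_rootClosure hmQ b
  have hgy := (Subgroup.mem_set_normalizer_iff.1 hnorm y).1 hyK
  set y' := hF.c.xG m b * w * (hF.c.xG v a * y * (hF.c.xG v a)⁻¹) with hy'
  have hy'K : y' ∈ rootClosure D F Qa := Subgroup.mul_mem _ (Subgroup.mul_mem _ hxm hw1) hgy
  obtain ⟨τ'', hτ''⟩ := hF.exists_ordW (D.nroots - (r₀ + 1)) (r₀ + 1) (by omega) hkN y' (hKle hy'K)
  have hy'eq : hF.ordW (r₀ + 1) τ'' ∈ rootClosure D F Qa := by rw [← hτ'']; exact hy'K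
  -- the coordinates
  have hU : y⁻¹ ∈ D.posUnipotent F := Uk_le_posU hF hkN (Subgroup.inv_mem _ (hKle hyK))
  have h1 := hF.comm_xG_mem_Uk (k := m) hmN hm hU b
  have h2 : y⁻¹ * hF.c.xG v a * y⁻¹⁻¹ * (hF.c.xG v a)⁻¹ ∈ Uk D F (m + 1) := by
    apply comm_high_U hF hkN hv hvN hm hmN _ a (Subgroup.inv_mem _ (hKle hyK))
    intro s hs1 hs2
    have := (hF.phi_lt_iff hr₀ hs2).2 (by omega : r₀ < s)
    omega
  have hnm := hF.xG_mem_normalizer_Uk hm hmN (k := m + 1) (by omega) b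
  have h3 := (Subgroup.mem_set_normalizer_iff.1 hnm _).1 h2
  have h2' := U_le_normalizer_Uk hF (F := F) (k := m + 1) (by omega) hU
  have h4' := (Subgroup.mem_set_normalizer_iff.1 h2' w).1 hw2
  have h5' := (Subgroup.mem_set_normalizer_iff.1 hnm _).1 h4'
  have hcoord : y⁻¹ * hF.ordW (r₀ + 1) τ'' * (hF.c.xG m b)⁻¹ ∈ Uk D F (m + 1) := by
    rw [← hτ'']
    have e : y⁻¹ * y' * (hF.c.xG m b)⁻¹ =
        (y⁻¹ * hF.c.xG m b * y⁻¹⁻¹ * (hF.c.xG m b)⁻¹) *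
        (hF.c.xG m b * (y⁻¹ * w * y⁻¹⁻¹) * (hF.c.xG m b)⁻¹) *
        (hF.c.xG m b * (y⁻¹ * hF.c.xG v a * y⁻¹⁻¹ * (hF.c.xG v a)⁻¹) * (hF.c.xG m b)⁻¹) := by
      rw [hy']
      group
    rw [e]
    exact Subgroup.mul_mem _ (Subgroup.mul_mem _ h1 h5') h3
  obtain ⟨h4, h5⟩ := coord_of_mul hF hkN (by omega) hm hcoord
  refine ⟨τ'', fun s hs1 hs2 hs3 => hsupp τ'' hy'eq s hs1 hs2 hs3, fun s hs1 hs2 => (h4 s hs1 hs2).symm, h5, ?_⟩
  rw [← hτ'', hy']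
  calc hF.c.xG v a * (hF.c.xG r₀ c * y) * (hF.c.xG v a)⁻¹
      = (hF.c.xG v a * hF.c.xG r₀ c * (hF.c.xG v a)⁻¹) * (hF.c.xG v a * y * (hF.c.xG v a)⁻¹) := by group
    _ = hF.c.xG r₀ c * (hF.c.xG m b * w * (hF.c.xG v a * y * (hF.c.xG v a)⁻¹)) := by
      rw [hz]
      group

/-- Killing a set of coordinates. -/
theorem kill_gen [CharP F 2] {r₀ : ℕ} {Z Qa K : ℕ → Prop} (hr₀N : R.N ≤ r₀) (hr₀ : r₀ < D.nroots) {c : F} (hc : c ≠ 0)
    (hQa : ClosedQ R D Qa) (hQa2 : ∀ s, Qa s → r₀ < s)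
    (hK : ∀ m, K m → Qa m ∧ ∃ v, Z v ∧ R.N ≤ v ∧ v < D.nroots ∧
      R.lin D.rank hF.phiW m = R.lin D.rank hF.phiW r₀ + R.lin D.rank hF.phiW v ∧
      (∀ a : F, hF.c.xG v a ∈ Subgroup.normalizer (rootClosure D F Qa : Set (GL D.Idx F))) ∧
      ∀ a : F, ∃ w ∈ rootClosure D F Qa, w ∈ Uk D F (m + 1) ∧
        hF.c.xG v a * hF.c.xG r₀ c * (hF.c.xG v a)⁻¹ = hF.c.xG r₀ c * (hF.c.xG m (a * c) * w)) :
    ∀ (n m : ℕ), m + n = D.nroots → ∀ τ : ℕ → F,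
      (∀ s, r₀ < s → s < D.nroots → τ s ≠ 0 → Qa s) →
      (∀ s, r₀ < s → s < m → K s → τ s = 0) →
      ∃ h ∈ rootClosure D F Z, ∃ τ' : ℕ → F,
        (∀ s, r₀ < s → s < D.nroots → τ' s ≠ 0 → Qa s) ∧
        (∀ s, r₀ < s → s < D.nroots → K s → τ' s = 0) ∧
        h * (hF.c.xG r₀ c * hF.ordW (r₀ + 1) τ) * h⁻¹ = hF.c.xG r₀ c * hF.ordW (r₀ + 1) τ' := by
  have hkN : R.N ≤ r₀ + 1 := by omega
  have hQn : ∀ s, Qa s → r₀ < s ∧ s < D.nroots := fun s hs => ⟨hQa2 s hs, (hQa.1 s hs).2⟩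
  have hsupp : ∀ τ' : ℕ → F, hF.ordW (r₀ + 1) τ' ∈ rootClosure D F Qa →
      ∀ s, r₀ < s → s < D.nroots → τ' s ≠ 0 → Qa s := by
    intro τ' hτ' s hs1 hs2 hs3
    exact support_closed hF hQa hkN (by omega) hτ' (by omega) hs2 hs3
  intro n
  induction n with
  | zero =>
    intro m hm τ h1 h2
    refine ⟨1, Subgroup.one_mem _, τ, h1, ?_, by group⟩
    intro s hs1 hs2 hs3
    exact h2 s hs1 (by omega) hs3
  | succ n ih =>
    intro m hm τ h1 h2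
    have hmn : m < D.nroots := by omega
    by_cases hcase : r₀ < m ∧ τ m ≠ 0 ∧ K m
    · obtain ⟨hr₀m, hτm, hKm⟩ := hcase
      obtain ⟨hmQ, v, hvZ, hvN, hvn, hphi, hnorm, hword⟩ := hK m hKm
      set a : F := τ m / c with ha
      have hb : a * c = τ m := by rw [ha]; field_simp
      obtain ⟨w, hw1, hw2, hconj⟩ := hword a
      rw [hb] at hconj
      obtain ⟨τ'', h5, h6, h7, h8⟩ := elim_gen hF hr₀N hr₀ hvn hvN hmn hphi hQn hmQ hw1 hw2 (hnorm a) hsupp hconj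
        (τ := τ) h1
      have h9 : τ'' m = 0 := by
        rw [h7]
        exact CharTwo.add_self_eq_zero _
      obtain ⟨h', hh', τ', hA, hB, hE⟩ := ih (m + 1) (by omega) τ'' h5
        (by
          intro s hs1 hs2 hs3
          rcases Nat.lt_or_ge s m with hlt' | hge
          · rw [h6 s hs1 hlt']
            exact h2 s hs1 hlt' hs3
          · have : s = m := by omega
            subst this
            exact h9)
      refine ⟨h' * hF.c.xG v a, Subgroup.mul_mem _ hh' (hF.xG_mem_rootClosure hvZ _), τ', hA, hB, ?_⟩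
      rw [← hE, ← h8]
      group
    · obtain ⟨h', hh', τ', hA, hB, hE⟩ := ih (m + 1) (by omega) τ h1 (by
          intro s hs1 hs2 hs3
          rcases Nat.lt_or_ge s m with hlt' | hge
          · exact h2 s hs1 hlt' hs3
          · have : s = m := by omega
            subst this
            by_contra hcon
            exact hcase ⟨hs1, hcon, hs3⟩)
      exact ⟨h', hh', τ', hA, hB, hE⟩

/-- The conjugate by `z` of an ordered product. -/
theorem force_aux [CharP F 2] {Q : ℕ → Prop} {z : GL D.Idx F} {s m : ℕ} {c : F} (hsn : s < D.nroots)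
    (hm : ∀ b : F, hF.c.xG m b ∈ Subgroup.normalizer (rootClosure D F Q : Set (GL D.Idx F)))
    (hz1 : ∀ q, Q q → q ≠ s → ∀ t : F, ∃ w ∈ rootClosure D F Q, z * hF.c.xG q t * z⁻¹ = hF.c.xG q t * w)
    (hz2 : ∀ t : F, ∃ w ∈ rootClosure D F Q, z * hF.c.xG s t * z⁻¹ = hF.c.xG s t * (hF.c.xG m (c * t) * w))
    {τ : ℕ → F} : ∀ (n k : ℕ), k + n = D.nroots → (∀ q, k ≤ q → q < D.nroots → τ q ≠ 0 → Q q) →
      ∃ w ∈ rootClosure D F Q, z * hF.ordW k τ * z⁻¹ =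
        hF.ordW k τ * (hF.c.xG m (if k ≤ s then c * τ s else 0) * w) := by
  intro n
  induction n with
  | zero =>
    intro k hk _
    refine ⟨1, Subgroup.one_mem _, ?_⟩
    have h1 : ¬ k ≤ s := by omega
    rw [hF.ordW_of_ge (by omega), if_neg h1, hF.c.xG_zero]
    group
  | succ n ih =>
    intro k hk hq
    have hkn : k < D.nroots := by omega
    obtain ⟨wp, hwp, he⟩ := ih (k + 1) (by omega) (fun q h1 h2 h3 => hq q (by omega) h2 h3)
    have hyp : hF.ordW (k + 1) τ ∈ rootClosure D F Q :=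
      ordW_mem_closure hF (fun r h1 h2 h3 => hq r (by omega) h2 h3)
    set yp := hF.ordW (k + 1) τ with hy
    rw [hF.ordW_succ hkn, ← hy]
    by_cases hks : k = s
    · subst hks
      rw [if_neg (by omega)] at he
      rw [if_pos le_rfl]
      rw [hF.c.xG_zero, one_mul] at he
      obtain ⟨w₁, hw₁, h1⟩ := hz2 (τ k)
      set e := hF.c.xG m (c * τ k) with hE
      have hA : w₁ * yp ∈ rootClosure D F Q := Subgroup.mul_mem _ hw₁ hyp
      have h2 : e⁻¹ * yp⁻¹ * e ∈ rootClosure D F Q := by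
        have h3 := (Subgroup.mem_set_normalizer_iff.1 (Subgroup.inv_mem _ (hm (c * τ k))) yp⁻¹).1 (Subgroup.inv_mem _ hyp)
        simpa using h3
      refine ⟨(e⁻¹ * yp⁻¹ * e) * (w₁ * yp) * wp, Subgroup.mul_mem _ (Subgroup.mul_mem _ h2 hA) hwp, ?_⟩
      calc z * (hF.c.xG k (τ k) * yp) * z⁻¹ = (z * hF.c.xG k (τ k) * z⁻¹) * (z * yp * z⁻¹) := by group
        _ = _ := by
          rw [h1, he]
          group
    · have hiff : (k + 1 ≤ s) ↔ k ≤ s := by omega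
      simp only [hiff] at he
      by_cases h0 : τ k = 0
      · rw [h0, hF.c.xG_zero, one_mul]
        exact ⟨wp, hwp, he⟩
      · obtain ⟨w₁, hw₁, h1⟩ := hz1 k (hq k le_rfl hkn h0) hks (τ k)
        set e := hF.c.xG m (if k ≤ s then c * τ s else 0) with hE
        obtain ⟨w', hw', h2⟩ := coset_move hyp (hm (if k ≤ s then c * τ s else 0)) hw₁
        rw [← hE] at h2
        refine ⟨w' * wp, Subgroup.mul_mem _ hw' hwp, ?_⟩
        calc z * (hF.c.xG k (τ k) * yp) * z⁻¹ = (z * hF.c.xG k (τ k) * z⁻¹) * (z * yp * z⁻¹) := by group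
          _ = hF.c.xG k (τ k) * (w₁ * yp * e) * wp := by
            rw [h1, he]
            group
          _ = _ := by
            rw [h2]
            group

/-- The forcing step. -/
theorem force_gen [CharP F 2] {Q : ℕ → Prop} {r₀ s m : ℕ} {c : F} (hQ : ClosedQ R D Q) (hmN : R.N ≤ m) (hmn : m < D.nroots)
    (hmQ : ¬ Q m) (hr₀ : r₀ < D.nroots) (hs : r₀ < s) (hsn : s < D.nroots)
    (hm : ∀ b : F, hF.c.xG m b ∈ Subgroup.normalizer (rootClosure D F Q : Set (GL D.Idx F)))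
    (hz1 : ∀ q, Q q → q ≠ s → ∀ t : F, ∃ w ∈ rootClosure D F Q,
      hF.c.xG r₀ c * hF.c.xG q t * (hF.c.xG r₀ c)⁻¹ = hF.c.xG q t * w)
    (hz2 : ∀ t : F, ∃ w ∈ rootClosure D F Q,
      hF.c.xG r₀ c * hF.c.xG s t * (hF.c.xG r₀ c)⁻¹ = hF.c.xG s t * (hF.c.xG m (c * t) * w))
    {τ : ℕ → F} (hτ : ∀ q, r₀ < q → q < D.nroots → τ q ≠ 0 → Q q)
    (h : (hF.c.xG r₀ c * hF.ordW (r₀ + 1) τ) * (hF.c.xG r₀ c * hF.ordW (r₀ + 1) τ) = 1) :
    c * τ s = 0 := by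
  obtain ⟨w, hw, he⟩ := force_aux hF hsn hm hz1 hz2 (τ := τ) (D.nroots - (r₀ + 1)) (r₀ + 1) (by omega)
    (fun q h1 h2 h3 => hτ q (by omega) h2 h3)
  rw [if_pos (by omega)] at he
  have hy : hF.ordW (r₀ + 1) τ ∈ rootClosure D F Q :=
    ordW_mem_closure hF (fun r h1 h2 h3 => hτ r (by omega) h2 h3)
  have hzz : hF.c.xG r₀ c * hF.c.xG r₀ c = 1 := by
    rw [hF.c.xG_add, CharTwo.add_self_eq_zero, hF.c.xG_zero]
  set y := hF.ordW (r₀ + 1) τ with hyd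
  set z := hF.c.xG r₀ c with hz
  have hzi : z⁻¹ = z := by
    rw [inv_eq_iff_mul_eq_one]
    exact hzz
  have h1 : z * y * z⁻¹ = y⁻¹ := by
    rw [hzi, eq_inv_iff_mul_eq_one]
    calc z * y * z * y = (z * y) * (z * y) := by group
      _ = 1 := h
  have h2 : hF.c.xG m (c * τ s) = y⁻¹ * y⁻¹ * w⁻¹ := by
    rw [h1] at he
    calc hF.c.xG m (c * τ s) = y⁻¹ * (y * (hF.c.xG m (c * τ s) * w)) * w⁻¹ := by group
      _ = y⁻¹ * y⁻¹ * w⁻¹ := by rw [← he]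
  have h3 : hF.c.xG m (c * τ s) ∈ rootClosure D F Q := by
    rw [h2]
    exact Subgroup.mul_mem _ (Subgroup.mul_mem _ (Subgroup.inv_mem _ hy) (Subgroup.inv_mem _ hy)) (Subgroup.inv_mem _ hw)
  exact xG_not_mem_closed hF hQ hmN hmn hmQ h3

end part

end Cfsg.Agent.Lib.ChevInv
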