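import Mathlib
import Cfsg.Agent.Lib.ChevInv.Gen2

/-!
# The normal form of involutions of `U`, driven by a finite check
-/

set_option autoImplicit false
set_option linter.unusedSectionVars false
set_option linter.unusedVariables false
set_option linter.unnecessarySimpa false

namespace Cfsg.Agent.Lib.ChevInv

open Cfsg Cfsg.Lie Matrix Cfsg.Agent.Lib.Chev Cfsg.Agent.Lib.Chev.Full Cfsg.Agent.Lib.Chev.Tri
open Cfsg.Agent.Lib.ChevAut.LongRoot Cfsg.Agent.Lib.ChevAut.RootCent Cfsg.Agent.Lib.ChevAut.ParabFit Equiv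

variable {T : Tabs} {X : Extra} {R : RootTab} {D : ChevalleyDatum} (hF : Full T X R D)
variable {F : Type*} [Field F]

theorem band_split' {a b : Bool} (h : (a && b) = true) : a = true ∧ b = true := by simpa using h
theorem bor_split' {a b : Bool} (h : (a || b) = true) : a = true ∨ b = true := by simpa using h

/-- A list of roots closed modulo two. -/
def closedB (D : ChevalleyDatum) (Q : List ℕ) : Bool :=
  Q.all fun a => Q.all fun b => a == b || (oddT D a b).all fun c => Q.contains c.1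

/-- The root `v` kills the coordinate `m` at `r₀`. -/
def vOK (D : ChevalleyDatum) (Agt : List ℕ) (r₀ v m : ℕ) : Bool :=
  (v != r₀) &&
  (match oddT D v r₀ with
    | [] => false
    | c :: rest => (c.1 == m) && (c.2.2.1 == 1) && (c.2.2.2 == 1) &&
        rest.all (fun e => Agt.contains e.1 && decide (m < e.1))) &&
  Agt.all (fun q => (q == v) || (oddT D v q).all (fun e => Agt.contains e.1))

/-- The coordinates which can be killed. -/
def killL (D : ChevalleyDatum) (Z Agt : List ℕ) (r₀ : ℕ) : List ℕ :=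
  Agt.filter (fun m => Z.any fun v => vOK D Agt r₀ v m)

/-- The coordinates which are forced to vanish. -/
def bL (D : ChevalleyDatum) (Agt Kl : List ℕ) (r₀ : ℕ) : List ℕ :=
  Agt.filter (fun q => !Kl.contains q && !(oddT D r₀ q).isEmpty)

/-- The remaining coordinates. -/
def a2L (D : ChevalleyDatum) (Agt Kl : List ℕ) (r₀ : ℕ) : List ℕ :=
  Agt.filter (fun q => !Kl.contains q && (oddT D r₀ q).isEmpty)

/-- The closed set used in the forcing step. -/
def forceQ (Agt Kl Bl A2 : List ℕ) (s m : ℕ) : List ℕ :=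
  Agt.filter (fun q => A2.contains q || (Bl.contains q && decide (s ≤ q)) || (Kl.contains q && decide (m < q)))

/-- The check for the forcing step. -/
def forceB (D : ChevalleyDatum) (Agt Kl Bl A2 : List ℕ) (r₀ s : ℕ) : Bool :=
  match oddT D r₀ s with
  | [] => false
  | c :: rest =>
    (c.2.2.1 == 1) && (c.2.2.2 == 1) && !((forceQ Agt Kl Bl A2 s c.1).contains c.1) &&
    closedB D (forceQ Agt Kl Bl A2 s c.1) &&
    rest.all (fun e => (forceQ Agt Kl Bl A2 s c.1).contains e.1) &&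
    (forceQ Agt Kl Bl A2 s c.1).all (fun q => (q == s) ||
      (oddT D r₀ q).all (fun e => (forceQ Agt Kl Bl A2 s c.1).contains e.1)) &&
    (forceQ Agt Kl Bl A2 s c.1).all (fun q =>
      (oddT D c.1 q).all (fun e => (forceQ Agt Kl Bl A2 s c.1).contains e.1))

/-- The check of one step. -/
def stepChk (D : ChevalleyDatum) (Z A : List ℕ) (r₀ : ℕ) : Bool :=
  closedB D (A.filter (fun q => r₀ < q)) &&
  (bL D (A.filter (fun q => r₀ < q)) (killL D Z (A.filter (fun q => r₀ < q)) r₀) r₀).all (fun s =>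
    forceB D (A.filter (fun q => r₀ < q)) (killL D Z (A.filter (fun q => r₀ < q)) r₀)
      (bL D (A.filter (fun q => r₀ < q)) (killL D Z (A.filter (fun q => r₀ < q)) r₀) r₀)
      (a2L D (A.filter (fun q => r₀ < q)) (killL D Z (A.filter (fun q => r₀ < q)) r₀) r₀) r₀ s)

/-- The check of a node of the tree. -/
def nodeB (D : ChevalleyDatum) (P : List ℕ → Bool) : ℕ → List ℕ → List ℕ → List ℕ → Bool
  | 0, path, _, A => P path && A.isEmpty
  | f + 1, path, Z, A => P path && A.all fun r₀ =>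
      stepChk D Z A r₀ && nodeB D P f (path ++ [r₀]) (Z.filter fun z => (oddT D r₀ z).isEmpty)
        (a2L D (A.filter (fun q => r₀ < q)) (killL D Z (A.filter (fun q => r₀ < q)) r₀) r₀)

section part

include hF

theorem closedQ_of_closedB {Q : List ℕ} (h1 : ∀ a ∈ Q, R.N ≤ a ∧ a < D.nroots) (h2 : closedB D Q = true) :
    ClosedQ R D (· ∈ Q) := by
  refine ⟨fun s hs => h1 s hs, ?_⟩
  intro r s hr hs hne c hc
  have h3 := List.all_eq_true.1 (List.all_eq_true.1 h2 r hr) s hs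
  rcases bor_split' h3 with h4 | h4
  · exact absurd (beq_iff_eq.1 h4) hne
  · exact List.contains_iff_mem.1 (List.all_eq_true.1 h4 c hc)

theorem closure_commute {Q : ℕ → Prop} {z g : GL D.Idx F} (h : ∀ s, Q s → ∀ t : F, z * hF.c.xG s t = hF.c.xG s t * z)
    (hg : g ∈ rootClosure D F Q) : z * g = g * z := by
  induction hg using Subgroup.closure_induction with
  | mem g hg =>
    obtain ⟨s, t, hs, hg⟩ := hg
    rw [hF.c.eq_xG hg]
    exact h s hs t
  | one => simp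
  | mul a b _ _ iha ihb =>
    calc z * (a * b) = (z * a) * b := by group
      _ = a * (z * b) := by rw [iha]; group
      _ = (a * b) * z := by rw [ihb]; group
  | inv a _ iha =>
    calc z * a⁻¹ = a⁻¹ * (a * z) * a⁻¹ := by group
      _ = a⁻¹ * (z * a) * a⁻¹ := by rw [iha]
      _ = a⁻¹ * z := by group

/-- The data of a killing step, from the table. -/
theorem kill_data [CharP F 2] {Z Agt : List ℕ} {r₀ m : ℕ} {c : F} (hr₀N : R.N ≤ r₀) (hr₀n : r₀ < D.nroots)
    (hZpos : ∀ a ∈ Z, R.N ≤ a ∧ a < D.nroots) (hAgtPos : ∀ a ∈ Agt, R.N ≤ a ∧ a < D.nroots)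
    (hm : m ∈ killL D Z Agt r₀) : m ∈ Agt ∧ ∃ v, v ∈ Z ∧ R.N ≤ v ∧ v < D.nroots ∧
      R.lin D.rank hF.phiW m = R.lin D.rank hF.phiW r₀ + R.lin D.rank hF.phiW v ∧
      (∀ a : F, hF.c.xG v a ∈ Subgroup.normalizer (rootClosure D F (· ∈ Agt) : Set (GL D.Idx F))) ∧
      ∀ a : F, ∃ w ∈ rootClosure D F (· ∈ Agt), w ∈ Uk D F (m + 1) ∧
        hF.c.xG v a * hF.c.xG r₀ c * (hF.c.xG v a)⁻¹ = hF.c.xG r₀ c * (hF.c.xG m (a * c) * w) := by
  obtain ⟨hmA, hany⟩ := List.mem_filter.1 hm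
  obtain ⟨v, hvZ, hv⟩ := List.any_eq_true.1 hany
  refine ⟨hmA, v, hvZ, (hZpos v hvZ).1, (hZpos v hvZ).2, ?_⟩
  obtain ⟨hvN, hvn⟩ := hZpos v hvZ
  unfold vOK at hv
  obtain ⟨h1, h4⟩ := band_split' hv
  obtain ⟨h1, h2⟩ := band_split' h1
  have hvr : r₀ ≠ v := by
    intro h
    have := bne_iff_ne.1 h1
    exact this h.symm
  have hnegv : ∀ s, R.N ≤ s → s ≠ D.neg v := fun s hs => neg_ne_of_pos hF hvn hvN hs
  have hnorm : ∀ a : F, hF.c.xG v a ∈ Subgroup.normalizer (rootClosure D F (· ∈ Agt) : Set (GL D.Idx F)) := by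
    intro a
    apply xG_mem_normalizer2 hF hvn
    · intro s hs
      exact ⟨(hAgtPos s hs).2, hnegv s (hAgtPos s hs).1⟩
    · intro s hs hsv e he
      have h5 := List.all_eq_true.1 h4 s hs
      rcases bor_split' h5 with h6 | h6
      · exact absurd (beq_iff_eq.1 h6) hsv
      · exact List.contains_iff_mem.1 (List.all_eq_true.1 h6 e he)
  generalize hodd : oddT D v r₀ = ol at h2
  cases ol with
  | nil => simp at h2
  | cons e rest =>
    simp only [Bool.and_eq_true, beq_iff_eq] at h2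
    obtain ⟨⟨⟨h5, h6⟩, h7⟩, h8⟩ := h2
    have hemem : e ∈ D.commTerms v r₀ := mem_oddT_commTerms (by rw [hodd]; exact List.mem_cons_self)
    have hspec := hF.commTerms_spec hvn hr₀n hvr (hnegv r₀ hr₀N) hemem
    rw [h5, h6, h7] at hspec
    refine ⟨?_, hnorm, ?_⟩
    · have h10 : ∀ j < D.rank, R.rcAt m j = (1 : ℤ) * R.rcAt v j + (1 : ℤ) * R.rcAt r₀ j := by
        intro j hj
        have h11 := hspec.2.2.2 j hj
        simpa using h11
      have := lin_comb (R := R) (D := D) hF.phiW (t := m) (r := v) (s := r₀) (A := 1) (B := 1) h10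
      rw [this]
      ring
    · intro a
      have hw : oddW D F v r₀ a c = (m, a * c) :: rest.map (fun e => (e.1, a ^ e.2.2.1 * c ^ e.2.2.2)) := by
        simp [oddW, hodd, h5, h6, h7]
      set W := rest.map (fun e => (e.1, a ^ e.2.2.1 * c ^ e.2.2.2)) with hWd
      have hcon : hF.c.xG v a * hF.c.xG r₀ c * (hF.c.xG v a)⁻¹ = hF.c.xG r₀ c * (hF.c.xG m (a * c) * hF.c.wordG W) := by
        rw [conj_odd hF hvn hr₀n hvr (hnegv r₀ hr₀N) a c, hw, Checks.wordG_cons]
      have hm1 : hF.c.wordG W ∈ rootClosure D F (· ∈ Agt) := by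
        apply hF.c.wordG_mem
        intro p hp
        obtain ⟨e', he', rfl⟩ := List.mem_map.1 hp
        have h9 := List.all_eq_true.1 h8 e' he'
        obtain ⟨h10, h11⟩ := band_split' h9
        exact hF.xG_mem_rootClosure (List.contains_iff_mem.1 h10) _
      have hm2 : hF.c.wordG W ∈ Uk D F (m + 1) := by
        apply hF.c.wordG_mem
        intro p hp
        obtain ⟨e', he', rfl⟩ := List.mem_map.1 hp
        have h9 := List.all_eq_true.1 h8 e' he'
        obtain ⟨h10, h11⟩ := band_split' h9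
        have h12 := of_decide_eq_true h11
        exact hF.xG_mem_rootClosure ⟨by simpa using h12, (hAgtPos _ (List.contains_iff_mem.1 h10)).2⟩ _
      exact ⟨_, hm1, hm2, hcon⟩

/-- The forcing step, from the table. -/
theorem force_data [CharP F 2] {Agt Kl Bl A2 : List ℕ} {r₀ s : ℕ} {c : F} (hr₀N : R.N ≤ r₀) (hr₀n : r₀ < D.nroots)
    (hAgtPos : ∀ a ∈ Agt, R.N ≤ a ∧ a < D.nroots) (hAgtGt : ∀ a ∈ Agt, r₀ < a) (hsAg : s ∈ Agt)
    (hf : forceB D Agt Kl Bl A2 r₀ s = true) {τ : ℕ → F}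
    (hact : ∀ q, r₀ < q → q < D.nroots → τ q ≠ 0 → q ∈ Agt ∧ (q ∈ A2 ∨ (q ∈ Bl ∧ s ≤ q)))
    (hinv : (hF.c.xG r₀ c * hF.ordW (r₀ + 1) τ) * (hF.c.xG r₀ c * hF.ordW (r₀ + 1) τ) = 1) :
    c * τ s = 0 := by
  have hsr : r₀ < s := hAgtGt s hsAg
  obtain ⟨hsN, hsn⟩ := hAgtPos s hsAg
  have hneg : ∀ s, R.N ≤ s → s ≠ D.neg r₀ := fun s hs => neg_ne_of_pos hF hr₀n hr₀N hs
  unfold forceB at hf
  generalize hodd : oddT D r₀ s = ol at hf
  cases ol with
  | nil => simp at hf
  | cons e rest =>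
    simp only [Bool.and_eq_true, beq_iff_eq] at hf
    obtain ⟨⟨⟨⟨⟨⟨h1, h2⟩, h3⟩, h4⟩, h5⟩, h6⟩, h7⟩ := hf
    set Q := forceQ Agt Kl Bl A2 s e.1 with hQd
    have hQsub : ∀ q ∈ Q, q ∈ Agt := fun q hq => (List.mem_filter.1 hq).1
    have hQpos : ∀ q ∈ Q, R.N ≤ q ∧ q < D.nroots := fun q hq => hAgtPos q (hQsub q hq)
    have hQcl : ClosedQ R D (· ∈ Q) := closedQ_of_closedB hF hQpos h4
    have hemem : e ∈ D.commTerms r₀ s := mem_oddT_commTerms (by rw [hodd]; exact List.mem_cons_self)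
    have hne : s ≠ r₀ := by omega
    have hpos := hF.commTerm_pos hr₀n hsn hne (hneg s hsN) hemem hr₀N hsN
    have hspec := hF.commTerms_spec hr₀n hsn hne (hneg s hsN) hemem
    have hmQ : e.1 ∉ Q := by
      intro hc'
      have h33 := List.contains_iff_mem.2 hc'
      rw [h33] at h3
      exact absurd h3 (by decide)
    have hnegm : ∀ q, R.N ≤ q → q ≠ D.neg e.1 := fun q hq => neg_ne_of_pos hF hspec.1 hpos.1 hq
    apply force_gen hF (Q := (· ∈ Q)) (m := e.1) hQcl hpos.1 hspec.1 hmQ hr₀n hsr hsn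
    · intro b
      apply xG_mem_normalizer2 hF hspec.1
      · intro q hq
        exact ⟨(hQpos q hq).2, hnegm q (hQpos q hq).1⟩
      · intro q hq hqm e' he'
        exact List.contains_iff_mem.1 (List.all_eq_true.1 (List.all_eq_true.1 h7 q hq) e' he')
    · intro q hq hqs t
      obtain ⟨hqN, hqn⟩ := hQpos q hq
      have hqr : q ≠ r₀ := by
        have := hAgtGt q (hQsub q hq)
        omega
      have hm1 : hF.c.wordG (oddW D F r₀ q c t) ∈ rootClosure D F (· ∈ Q) := by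
        apply hF.c.wordG_mem
        intro p hp
        obtain ⟨e', he', rfl⟩ := List.mem_map.1 hp
        have h8 := List.all_eq_true.1 h6 q hq
        rcases bor_split' h8 with h9 | h9
        · exact absurd (beq_iff_eq.1 h9) hqs
        · exact hF.xG_mem_rootClosure (List.contains_iff_mem.1 (List.all_eq_true.1 h9 e' he')) _
      exact ⟨_, hm1, conj_odd hF hr₀n hqn hqr (hneg q hqN) c t⟩
    · intro t
      have hw : oddW D F r₀ s c t = (e.1, c * t) :: rest.map (fun e => (e.1, c ^ e.2.2.1 * t ^ e.2.2.2)) := by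
        simp [oddW, hodd, h1, h2]
      set W := rest.map (fun e => (e.1, c ^ e.2.2.1 * t ^ e.2.2.2)) with hWd
      have hcon : hF.c.xG r₀ c * hF.c.xG s t * (hF.c.xG r₀ c)⁻¹ = hF.c.xG s t * (hF.c.xG e.1 (c * t) * hF.c.wordG W) := by
        rw [conj_odd hF hr₀n hsn hne (hneg s hsN) c t, hw, Checks.wordG_cons]
      have hm1 : hF.c.wordG W ∈ rootClosure D F (· ∈ Q) := by
        apply hF.c.wordG_mem
        intro p hp
        obtain ⟨e', he', rfl⟩ := List.mem_map.1 hp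
        exact hF.xG_mem_rootClosure (List.contains_iff_mem.1 (List.all_eq_true.1 h5 e' he')) _
      exact ⟨_, hm1, hcon⟩
    · intro q h8 h9 h10
      obtain ⟨hqA, hq⟩ := hact q h8 h9 h10
      refine List.mem_filter.2 ⟨hqA, ?_⟩
      show (A2.contains q || (Bl.contains q && decide (s ≤ q)) || (Kl.contains q && decide (e.1 < q))) = true
      rcases hq with hq | ⟨hq, hle⟩
      · rw [List.contains_iff_mem.2 hq]
        simp
      · rw [List.contains_iff_mem.2 hq]
        simp [hle]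
    · exact hinv

theorem step_sound [CharP F 2] {Z A : List ℕ} {r₀ : ℕ} (hr₀A : r₀ ∈ A) (hApos : ∀ a ∈ A, R.N ≤ a ∧ a < D.nroots)
    (hZpos : ∀ a ∈ Z, R.N ≤ a ∧ a < D.nroots) (hstep : stepChk D Z A r₀ = true) {c : F} (hc : c ≠ 0) {τ : ℕ → F}
    (hτ : ∀ s, r₀ < s → s < D.nroots → τ s ≠ 0 → s ∈ A)
    (hinv : (hF.c.xG r₀ c * hF.ordW (r₀ + 1) τ) * (hF.c.xG r₀ c * hF.ordW (r₀ + 1) τ) = 1) :
    ∃ h ∈ rootClosure D F (· ∈ Z), ∃ τ' : ℕ → F,
      (∀ s, r₀ < s → s < D.nroots → τ' s ≠ 0 →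
        s ∈ a2L D (A.filter (fun q => r₀ < q)) (killL D Z (A.filter (fun q => r₀ < q)) r₀) r₀) ∧
      h * (hF.c.xG r₀ c * hF.ordW (r₀ + 1) τ) * h⁻¹ = hF.c.xG r₀ c * hF.ordW (r₀ + 1) τ' := by
  obtain ⟨hr₀N, hr₀n⟩ := hApos r₀ hr₀A
  unfold stepChk at hstep
  obtain ⟨hcl, hfo⟩ := band_split' hstep
  set Agt := A.filter (fun q => r₀ < q) with hAgt
  set Kl := killL D Z Agt r₀ with hKl
  set Bl := bL D Agt Kl r₀ with hBl
  set A2 := a2L D Agt Kl r₀ with hA2
  have hAgtPos : ∀ a ∈ Agt, R.N ≤ a ∧ a < D.nroots := fun a ha => hApos a (List.mem_filter.1 ha).1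
  have hAgtGt : ∀ a ∈ Agt, r₀ < a := fun a ha => by
    simpa using (List.mem_filter.1 ha).2
  have hQa : ClosedQ R D (· ∈ Agt) := closedQ_of_closedB hF hAgtPos hcl
  have hneg : ∀ s, R.N ≤ s → s ≠ D.neg r₀ := fun s hs => neg_ne_of_pos hF hr₀n hr₀N hs
  have hK := fun m hm => kill_data hF (F := F) (c := c) hr₀N hr₀n hZpos hAgtPos (Z := Z) (m := m) hm
  have hτA : ∀ s, r₀ < s → s < D.nroots → τ s ≠ 0 → s ∈ Agt := fun s h1 h2 h3 =>
    List.mem_filter.2 ⟨hτ s h1 h2 h3, by simpa using h1⟩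
  obtain ⟨h₁, hh₁, τ₁, hA, hB, hE⟩ := kill_gen hF (Z := (· ∈ Z)) (Qa := (· ∈ Agt)) (K := (· ∈ Kl)) hr₀N hr₀n hc hQa hAgtGt hK
    (D.nroots - (r₀ + 1)) (r₀ + 1) (by omega) τ hτA (fun s h1 h2 => by omega)
  -- the involution
  have hinv' : (hF.c.xG r₀ c * hF.ordW (r₀ + 1) τ₁) * (hF.c.xG r₀ c * hF.ordW (r₀ + 1) τ₁) = 1 := by
    rw [← hE]
    calc h₁ * (hF.c.xG r₀ c * hF.ordW (r₀ + 1) τ) * h₁⁻¹ * (h₁ * (hF.c.xG r₀ c * hF.ordW (r₀ + 1) τ) * h₁⁻¹)
        = h₁ * ((hF.c.xG r₀ c * hF.ordW (r₀ + 1) τ) * (hF.c.xG r₀ c * hF.ordW (r₀ + 1) τ)) * h₁⁻¹ := by group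
      _ = 1 := by rw [hinv]; group
  -- the forcing
  have hforce : ∀ s, s ∈ Bl → τ₁ s = 0 := by
    intro s
    induction s using Nat.strong_induction_on with
    | _ s ih =>
      intro hsB
      have hf := List.all_eq_true.1 hfo s hsB
      obtain ⟨hsAg, -⟩ := List.mem_filter.1 hsB
      have hs0 : c * τ₁ s = 0 := by
        apply force_data hF hr₀N hr₀n hAgtPos hAgtGt hsAg hf _ hinv'
        intro q h8 h9 h10
        have hqA := hA q h8 h9 h10
        have hqK : q ∉ Kl := fun hqK => h10 (hB q h8 h9 hqK)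
        refine ⟨hqA, ?_⟩
        by_cases hem : (oddT D r₀ q).isEmpty = true
        · exact Or.inl (List.mem_filter.2 ⟨hqA, by simp [hqK, hem]⟩)
        · have hqB : q ∈ Bl := List.mem_filter.2 ⟨hqA, by simp [hqK, hem]⟩
          refine Or.inr ⟨hqB, ?_⟩
          by_contra hlt
          exact h10 (ih q (by omega) hqB)
      exact (mul_eq_zero.1 hs0).resolve_left hc
  refine ⟨h₁, hh₁, τ₁, ?_, hE⟩
  intro s h1 h2 h3
  have hsA := hA s h1 h2 h3
  have hsK : s ∉ Kl := fun h => h3 (hB s h1 h2 h)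
  refine List.mem_filter.2 ⟨hsA, ?_⟩
  by_cases hem : (oddT D r₀ s).isEmpty = true
  · simp [hsK, hem]
  · have hsB : s ∈ Bl := List.mem_filter.2 ⟨hsA, by simp [hsK, hem]⟩
    exact absurd (hforce s hsB) h3

end part

end Cfsg.Agent.Lib.ChevInv
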