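import Mathlib
import Cfsg.Agent.Lib.ChevInv.Gen3

/-!
# The tree of normal forms of involutions
-/

set_option autoImplicit false
set_option linter.unusedSectionVars false
set_option linter.unusedVariables false
set_option linter.unnecessarySimpa false

namespace Cfsg.Agent.Lib.ChevInv

open Cfsg Cfsg.Lie Matrix Cfsg.Agent.Lib.Chev Cfsg.Agent.Lib.Chev.Full Cfsg.Agent.Lib.Chev.Tri
open Cfsg.Agent.Lib.ChevAut.LongRoot Cfsg.Agent.Lib.ChevAut.RootCent Cfsg.Agent.Lib.ChevAut.ParabFit Equiv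

variable {T : Tabs} {X : Extra} {R : RootTab} {D : ChevalleyDatum} (hF : Full T X R D)
variable {F : Type*} [Field F]

/-- The list of positive roots. -/
def posL (R : RootTab) (D : ChevalleyDatum) : List ℕ := List.range' R.N (D.nroots - R.N)

section part

include hF

theorem ordW_eq_one {τ : ℕ → F} (h : ∀ s, R.N ≤ s → s < D.nroots → τ s = 0) : hF.ordW R.N τ = 1 := by
  have h1 : hF.ordW R.N τ = hF.ordW R.N (0 : ℕ → F) := hF.ordW_congr (fun r h2 h3 => h r h2 h3)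
  rw [h1, hF.ordW_zero]

theorem nodeB_sound [CharP F 2] {P : List ℕ → Bool} : ∀ (f : ℕ) (path Z A : List ℕ), nodeB D P f path Z A = true →
    (∀ a ∈ A, R.N ≤ a ∧ a < D.nroots) → (∀ a ∈ Z, R.N ≤ a ∧ a < D.nroots) →
    ∀ τ : ℕ → F, (∀ s, R.N ≤ s → s < D.nroots → τ s ≠ 0 → s ∈ A) →
    hF.ordW R.N τ * hF.ordW R.N τ = 1 →
    ∃ h ∈ rootClosure D F (· ∈ Z), ∃ L : List (ℕ × F), (∀ p ∈ L, p.2 ≠ 0) ∧ P (path ++ L.map Prod.fst) = true ∧
      h * hF.ordW R.N τ * h⁻¹ = hF.c.wordG L := by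
  intro f
  induction f with
  | zero =>
    intro path Z A h hA hZ τ hτ hinv
    simp only [nodeB, Bool.and_eq_true] at h
    obtain ⟨h1, h2⟩ := h
    refine ⟨1, Subgroup.one_mem _, [], by simp, by simpa using h1, ?_⟩
    have h3 : A = [] := by simpa using h2
    rw [ordW_eq_one hF (fun s h4 h5 => by
      by_contra h6
      have := hτ s h4 h5 h6
      rw [h3] at this
      simp at this), Checks.wordG_nil]
    group
  | succ f ih =>
    intro path Z A h hA hZ τ hτ hinv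
    simp only [nodeB, Bool.and_eq_true] at h
    obtain ⟨h1, h2⟩ := h
    by_cases hall : ∀ s, R.N ≤ s → s < D.nroots → τ s = 0
    · refine ⟨1, Subgroup.one_mem _, [], by simp, by simpa using h1, ?_⟩
      rw [ordW_eq_one hF hall, Checks.wordG_nil]
      group
    · classical
      have hex : ∃ s, R.N ≤ s ∧ s < D.nroots ∧ τ s ≠ 0 := by
        push Not at hall
        exact hall
      set r₀ := Nat.find hex with hr₀d
      obtain ⟨hr₀N, hr₀n, hc⟩ : R.N ≤ r₀ ∧ r₀ < D.nroots ∧ τ r₀ ≠ 0 := Nat.find_spec hex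
      have hmin : ∀ r, R.N ≤ r → r < r₀ → τ r = 0 := by
        intro r h3 h4
        by_contra h5
        exact Nat.find_min hex h4 ⟨h3, by omega, h5⟩
      have hr₀A : r₀ ∈ A := hτ r₀ hr₀N hr₀n hc
      have hg : hF.ordW R.N τ = hF.c.xG r₀ (τ r₀) * hF.ordW (r₀ + 1) τ := by
        rw [ordW_low hF (r₀ - R.N) R.N (by omega) hr₀n.le (fun r h3 h4 => hmin r h3 h4), hF.ordW_succ hr₀n]
      have hnode := List.all_eq_true.1 h2 r₀ hr₀A
      obtain ⟨hst, hch⟩ := band_split' hnode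
      rw [hg] at hinv ⊢
      set c := τ r₀ with hcd
      obtain ⟨h₁, hh₁, τ₁, hA', hE⟩ := step_sound hF hr₀A hA hZ hst hc
        (fun s h3 h4 h5 => hτ s (by omega) h4 h5) hinv
      set Agt := A.filter (fun q => r₀ < q) with hAgt
      set A2 := a2L D Agt (killL D Z Agt r₀) r₀ with hA2
      set Z2 := Z.filter fun z => (oddT D r₀ z).isEmpty with hZ2
      have hA2pos : ∀ a ∈ A2, R.N ≤ a ∧ a < D.nroots := fun a ha =>
        hA a (List.mem_filter.1 (List.mem_filter.1 ha).1).1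
      have hZ2pos : ∀ a ∈ Z2, R.N ≤ a ∧ a < D.nroots := fun a ha => hZ a (List.mem_filter.1 ha).1
      have hneg : ∀ s, R.N ≤ s → s ≠ D.neg r₀ := fun s hs => neg_ne_of_pos hF hr₀n hr₀N hs
      have hcomm : ∀ q, (oddT D r₀ q).isEmpty = true → R.N ≤ q → q < D.nroots → ∀ t : F,
          hF.c.xG r₀ c * hF.c.xG q t = hF.c.xG q t * hF.c.xG r₀ c := by
        intro q h3 h4 h5 t
        by_cases hq : q = r₀
        · subst hq
          rw [hF.c.xG_add, hF.c.xG_add, add_comm]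
        · exact comm_of_oddT hF hr₀n h5 hq (hneg q h4) (by simpa using h3) c t
      -- the second coordinates
      set τ₂ : ℕ → F := fun s => if r₀ < s then τ₁ s else 0 with hτ₂
      have hy : hF.ordW R.N τ₂ = hF.ordW (r₀ + 1) τ₁ := by
        have h3 : hF.ordW R.N τ₂ = hF.ordW (r₀ + 1) τ₂ :=
          ordW_low hF (r₀ + 1 - R.N) R.N (by omega) (by omega) (fun r h3 h4 => by
            have : ¬ r₀ < r := by omega
            simp [hτ₂, this])
        rw [h3]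
        apply hF.ordW_congr
        intro r h3 _
        have : r₀ < r := by omega
        simp [hτ₂, this]
      have hyA2 : hF.ordW (r₀ + 1) τ₁ ∈ rootClosure D F (· ∈ A2) :=
        ordW_mem_closure hF (fun r h3 h4 h5 => hA' r (by omega) h4 h5)
      have hA2e : ∀ s ∈ A2, (oddT D r₀ s).isEmpty = true := fun s hs => (band_split' (List.mem_filter.1 hs).2).2
      have hZ2e : ∀ s ∈ Z2, (oddT D r₀ s).isEmpty = true := fun s hs => (List.mem_filter.1 hs).2
      have hzy : hF.c.xG r₀ c * hF.ordW (r₀ + 1) τ₁ = hF.ordW (r₀ + 1) τ₁ * hF.c.xG r₀ c :=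
        closure_commute hF (Q := (· ∈ A2)) (fun s hs t => hcomm s (hA2e s hs) (hA2pos s hs).1 (hA2pos s hs).2 t) hyA2
      have hzz : hF.c.xG r₀ c * hF.c.xG r₀ c = 1 := by
        rw [hF.c.xG_add, CharTwo.add_self_eq_zero, hF.c.xG_zero]
      have hinv2 : (hF.c.xG r₀ c * hF.ordW (r₀ + 1) τ₁) * (hF.c.xG r₀ c * hF.ordW (r₀ + 1) τ₁) = 1 := by
        rw [← hE]
        calc h₁ * (hF.c.xG r₀ c * hF.ordW (r₀ + 1) τ) * h₁⁻¹ * (h₁ * (hF.c.xG r₀ c * hF.ordW (r₀ + 1) τ) * h₁⁻¹)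
            = h₁ * ((hF.c.xG r₀ c * hF.ordW (r₀ + 1) τ) * (hF.c.xG r₀ c * hF.ordW (r₀ + 1) τ)) * h₁⁻¹ := by group
          _ = 1 := by rw [hinv]; group
      have hyy : hF.ordW (r₀ + 1) τ₁ * hF.ordW (r₀ + 1) τ₁ = 1 := by
        have h3 : (hF.c.xG r₀ c * hF.ordW (r₀ + 1) τ₁) * (hF.c.xG r₀ c * hF.ordW (r₀ + 1) τ₁) =
            (hF.c.xG r₀ c * hF.c.xG r₀ c) * (hF.ordW (r₀ + 1) τ₁ * hF.ordW (r₀ + 1) τ₁) := by
          calc (hF.c.xG r₀ c * hF.ordW (r₀ + 1) τ₁) * (hF.c.xG r₀ c * hF.ordW (r₀ + 1) τ₁)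
              = hF.c.xG r₀ c * (hF.ordW (r₀ + 1) τ₁ * hF.c.xG r₀ c) * hF.ordW (r₀ + 1) τ₁ := by group
            _ = hF.c.xG r₀ c * (hF.c.xG r₀ c * hF.ordW (r₀ + 1) τ₁) * hF.ordW (r₀ + 1) τ₁ := by rw [hzy]
            _ = _ := by group
        rw [hinv2, hzz, one_mul] at h3
        exact h3.symm
      obtain ⟨h₂, hh₂, L, hL1, hL2, hE2⟩ := ih (path ++ [r₀]) Z2 A2 hch hA2pos hZ2pos τ₂ (by
          intro s h3 h4 h5
          by_cases h6 : r₀ < s
          · simp only [hτ₂, h6, if_true] at h5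
            exact hA' s h6 h4 h5
          · simp [hτ₂, h6] at h5) (by rw [hy]; exact hyy)
      rw [hy] at hE2
      have hzh₂ : hF.c.xG r₀ c * h₂ = h₂ * hF.c.xG r₀ c :=
        closure_commute hF (Q := (· ∈ Z2)) (fun s hs t => hcomm s (hZ2e s hs) (hZ2pos s hs).1 (hZ2pos s hs).2 t) hh₂
      refine ⟨h₂ * h₁, Subgroup.mul_mem _ (rootClosure_mono (fun s hs => (List.mem_filter.1 hs).1) hh₂) hh₁, (r₀, c) :: L, ?_, ?_, ?_⟩
      · intro p hp
        rcases List.mem_cons.1 hp with rfl | hp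
        · exact hc
        · exact hL1 p hp
      · simpa using hL2
      · rw [Checks.wordG_cons, ← hE2]
        calc h₂ * h₁ * (hF.c.xG r₀ c * hF.ordW (r₀ + 1) τ) * (h₂ * h₁)⁻¹
            = h₂ * (h₁ * (hF.c.xG r₀ c * hF.ordW (r₀ + 1) τ) * h₁⁻¹) * h₂⁻¹ := by group
          _ = (h₂ * hF.c.xG r₀ c) * (hF.ordW (r₀ + 1) τ₁ * h₂⁻¹) := by rw [hE]; group
          _ = _ := by rw [← hzh₂]; group

/-- Involutions of the group are conjugate to words given by the tree. -/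
theorem inv_to_word [Fintype F] [CharP F 2] {P : List ℕ → Bool} {f : ℕ}
    (h : nodeB D P f [] (posL R D) (posL R D) = true) {t : GL D.Idx F} (ht : t ∈ D.group F) (htt : t * t = 1) :
    ∃ g ∈ D.group F, ∃ L : List (ℕ × F), (∀ p ∈ L, p.2 ≠ 0) ∧ P (L.map Prod.fst) = true ∧ g * t * g⁻¹ = hF.c.wordG L := by
  have hUG : Subgroup.zpowers t ≤ D.group F := by
    rw [Subgroup.zpowers_le]
    exact ht
  have hU : IsPGroup 2 ↥(Subgroup.zpowers t) := by
    rintro ⟨g, hg⟩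
    obtain ⟨n, rfl⟩ := Subgroup.mem_zpowers_iff.1 hg
    refine ⟨1, ?_⟩
    apply Subtype.ext
    show (t ^ n) ^ (2 ^ 1) = 1
    rw [pow_one, ← zpow_natCast, ← _root_.zpow_mul, mul_comm, _root_.zpow_mul]
    have : t ^ (((2 : ℕ) : ℤ)) = 1 := by
      rw [zpow_natCast, pow_two, htt]
    rw [this, _root_.one_zpow]
  obtain ⟨g, hg, hgU⟩ := Cfsg.Agent.Lib.BorelTits50.exists_conj_U hF (p := 2) _ hUG hU
  have ht1 := hgU t (Subgroup.mem_zpowers t)
  have htt1 : (g⁻¹ * t * g) * (g⁻¹ * t * g) = 1 := by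
    calc (g⁻¹ * t * g) * (g⁻¹ * t * g) = g⁻¹ * (t * t) * g := by group
      _ = 1 := by rw [htt]; group
  rw [hF.U_eq_Uk] at ht1
  have hPos : ∀ a ∈ posL R D, R.N ≤ a ∧ a < D.nroots := by
    intro a ha
    have := List.mem_range'_1.1 ha
    omega
  have hN2 := hF.two
  obtain ⟨τ, hτ⟩ := hF.exists_ordW (D.nroots - R.N) R.N (by omega) le_rfl _ ht1
  rw [hτ] at htt1
  obtain ⟨h₁, hh₁, L, hL1, hL2, hL3⟩ := nodeB_sound hF f [] _ _ h hPos hPos τ (fun s h1 h2 _ =>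
    List.mem_range'_1.2 ⟨h1, by omega⟩) htt1
  have hKG : rootClosure D F (· ∈ posL R D) ≤ D.group F := rootClosure_le_group hF (fun r hr => (hPos r hr).2)
  refine ⟨h₁ * g⁻¹, Subgroup.mul_mem _ (hKG hh₁) (Subgroup.inv_mem _ hg), L, hL1, by simpa using hL2, ?_⟩
  rw [← hL3, ← hτ]
  group

end part

end Cfsg.Agent.Lib.ChevInv
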