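import Mathlib
import Cfsg.Agent.Lib.ChevInv.Gen4

/-!
# Resolving the leaves of the tree: Weyl conjugation, parametric moves, the torus
-/

set_option autoImplicit false
set_option linter.unusedSectionVars false
set_option linter.unusedVariables false
set_option linter.unnecessarySimpa false

namespace Cfsg.Agent.Lib.ChevInv

open Cfsg Cfsg.Lie Matrix Cfsg.Agent.Lib.Chev Cfsg.Agent.Lib.Chev.Full Cfsg.Agent.Lib.Chev.Tri
open Cfsg.Agent.Lib.ChevAut.LongRoot Cfsg.Agent.Lib.ChevAut.RootCent Cfsg.Agent.Lib.ChevAut.ParabFit Equiv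

variable {T : Tabs} {X : Extra} {R : RootTab} {D : ChevalleyDatum} (hF : Full T X R D)
variable {F : Type*} [Field F]

/-- Pairwise commuting modulo two, the roots being distinct from the negatives of each other. -/
def commB (D : ChevalleyDatum) (P : List ℕ) : Bool :=
  P.all fun a => decide (a < D.nroots) && P.all fun b => (a == b) || ((oddT D a b).isEmpty && (b != D.neg a))

/-- The conclusion. -/
def Concl (hF : Full T X R D) (F : Type*) [Field F] (Reps : List (List ℕ)) (g : GL D.Idx F) : Prop :=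
  ∃ h ∈ D.group F, ∃ N ∈ Reps, h * g * h⁻¹ = xL hF F N

/-- The statement to prove for a list of roots. -/
def ResP (hF : Full T X R D) (F : Type*) [Field F] (Reps : List (List ℕ)) (P : List ℕ) : Prop :=
  ∀ L : List (ℕ × F), L.map Prod.fst = P → (∀ p ∈ L, p.2 ≠ 0) → Concl hF F Reps (hF.c.wordG L)

theorem exists_perm_of_map {α β : Type*} (f : α → β) {l₁ l₂ : List β} (h : l₁.Perm l₂) :
    ∀ l : List α, l.map f = l₁ → ∃ l' : List α, l'.Perm l ∧ l'.map f = l₂ := by
  induction h with
  | nil =>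
    intro l hl
    exact ⟨l, List.Perm.refl _, hl⟩
  | @cons x l₁ l₂ _ ih =>
    intro l hl
    cases l with
    | nil => simp at hl
    | cons a l₀ =>
      simp only [List.map_cons, List.cons.injEq] at hl
      obtain ⟨l', h1, h2⟩ := ih l₀ hl.2
      exact ⟨a :: l', h1.cons a, by simp [h2, hl.1]⟩
  | @swap x y l₁ =>
    intro l hl
    cases l with
    | nil => simp at hl
    | cons a l₀ =>
      cases l₀ with
      | nil => simp at hl
      | cons b l₀ =>
        simp only [List.map_cons, List.cons.injEq] at hl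
        exact ⟨b :: a :: l₀, List.Perm.swap _ _ _, by simp [hl.1, hl.2.1, hl.2.2]⟩
  | trans _ _ ih1 ih2 =>
    intro l hl
    obtain ⟨l', h1, h2⟩ := ih1 l hl
    obtain ⟨l'', h3, h4⟩ := ih2 l' h2
    exact ⟨l'', h3.trans h1, h4⟩

theorem exists_root_char_two [Fintype F] [CharP F 2] {a b : F} (ha : a ≠ 0) (hb : b ≠ 0) {i : ℕ} (hi : i = 1 ∨ i = 2) (j : ℕ) :
    ∃ u : F, u ≠ 0 ∧ u ^ i * a ^ j = b := by
  have hA : a ^ j ≠ 0 := pow_ne_zero j ha
  rcases hi with rfl | rfl
  · refine ⟨b / a ^ j, div_ne_zero hb hA, ?_⟩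
    rw [pow_one]
    field_simp
  · obtain ⟨e, he⟩ := FiniteField.isSquare_of_char_two (ringChar.eq F 2) (b / a ^ j)
    have he0 : e ≠ 0 := by
      rintro rfl
      rw [mul_zero] at he
      exact (div_ne_zero hb hA) he
    refine ⟨e, he0, ?_⟩
    rw [pow_two, ← he]
    field_simp

section part

include hF

theorem wordG_eq_prod' (L : List (ℕ × F)) : hF.c.wordG L = (L.map fun p => hF.c.xG p.1 p.2).prod := by
  induction L with
  | nil => simp [Checks.wordG_nil]
  | cons p L ih => simp [Checks.wordG_cons, ih]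

/-- Commutation from the check. -/
theorem commute_of_commB [CharP F 2] {P : List ℕ} (hP : commB D P = true) {a b : ℕ} (ha : a ∈ P) (hb : b ∈ P) (s t : F) :
    hF.c.xG a s * hF.c.xG b t = hF.c.xG b t * hF.c.xG a s := by
  have h1 := List.all_eq_true.1 hP a ha
  obtain ⟨h2, h3⟩ := band_split' h1
  have h2' := of_decide_eq_true h2
  have h4 := List.all_eq_true.1 h3 b hb
  rcases bor_split' h4 with h5 | h5
  · have := beq_iff_eq.1 h5
    subst this
    rw [hF.c.xG_add, hF.c.xG_add, add_comm]
  · obtain ⟨h6, h7⟩ := band_split' h5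
    have h8 := List.all_eq_true.1 hP b hb
    have h9 := of_decide_eq_true (band_split' h8).1
    by_cases hab : b = a
    · subst hab
      rw [hF.c.xG_add, hF.c.xG_add, add_comm]
    · exact comm_of_oddT hF h2' h9 hab (bne_iff_ne.1 h7) (by simpa using h6) s t

theorem wordG_perm [CharP F 2] {P : List ℕ} (hP : commB D P = true) {L L' : List (ℕ × F)} (hL : L.map Prod.fst = P) (h : L'.Perm L) :
    hF.c.wordG L' = hF.c.wordG L := by
  rw [wordG_eq_prod' hF, wordG_eq_prod' hF]
  apply List.Perm.prod_eq'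
  · exact h.map _
  · apply List.pairwise_of_forall_mem_list
    intro a ha b hb
    obtain ⟨p, hp, rfl⟩ := List.mem_map.1 ha
    obtain ⟨q, hq, rfl⟩ := List.mem_map.1 hb
    have hp' : p ∈ L := h.mem_iff.1 hp
    have hq' : q ∈ L := h.mem_iff.1 hq
    have hp1 : p.1 ∈ P := by
      rw [← hL]
      exact List.mem_map.2 ⟨p, hp', rfl⟩
    have hq1 : q.1 ∈ P := by
      rw [← hL]
      exact List.mem_map.2 ⟨q, hq', rfl⟩
    exact commute_of_commB hF hP hp1 hq1 _ _

theorem resP_perm [CharP F 2] {Reps : List (List ℕ)} {P P' : List ℕ} (hP : commB D P = true) (h : P.Perm P') (hR : ResP hF F Reps P') :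
    ResP hF F Reps P := by
  intro L hL hne
  obtain ⟨L', h1, h2⟩ := exists_perm_of_map Prod.fst (h) L hL
  rw [← wordG_perm hF hP hL h1]
  exact hR L' h2 (fun p hp => hne p (h1.mem_iff.1 hp))

theorem concl_conj {Reps : List (List ℕ)} {g₀ g : GL D.Idx F} (hg : g ∈ D.group F) (h : Concl hF F Reps (g * g₀ * g⁻¹)) :
    Concl hF F Reps g₀ := by
  obtain ⟨k, hk, N, hN, he⟩ := h
  refine ⟨k * g, Subgroup.mul_mem _ hk hg, N, hN, ?_⟩
  rw [← he]
  group

/-- Conjugation of a word by a product of Weyl elements. -/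
theorem nW_conj_word [CharP F 2] {w : List ℕ} (hw : ∀ i ∈ w, i < D.rank) : ∀ L : List (ℕ × F), (∀ p ∈ L, p.1 < D.nroots) →
    nW hF F w * hF.c.wordG L * (nW hF F w)⁻¹ = hF.c.wordG (L.map fun p => (act X w p.1, p.2)) := by
  intro L
  induction L with
  | nil =>
    intro _
    simp [Checks.wordG_nil]
  | cons p L ih =>
    intro h
    rw [List.map_cons, Checks.wordG_cons, Checks.wordG_cons, ← ih (fun q hq => h q (List.mem_cons_of_mem _ hq)),
      ← nW_conj hF hw (h p List.mem_cons_self) p.2]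
    group

theorem resP_wm [CharP F 2] {Reps : List (List ℕ)} {P : List ℕ} {w : List ℕ} (hw : ∀ i ∈ w, i < D.rank) (hP : ∀ r ∈ P, r < D.nroots)
    (hR : ResP hF F Reps (P.map (act X w))) : ResP hF F Reps P := by
  intro L hL hne
  apply concl_conj hF (nW_mem_group hF hw)
  have hlt : ∀ p ∈ L, p.1 < D.nroots := fun p hp => hP p.1 (by rw [← hL]; exact List.mem_map.2 ⟨p, hp, rfl⟩)
  rw [nW_conj_word hF hw L hlt]
  apply hR
  · rw [← hL]
    simp [Function.comp_def]
  · intro p hp
    obtain ⟨q, hq, rfl⟩ := List.mem_map.1 hp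
    exact hne q hq

/-- The word commutes with an element commuting with its letters. -/
theorem wordG_commute {z : GL D.Idx F} : ∀ L : List (ℕ × F), (∀ p ∈ L, z * hF.c.xG p.1 p.2 = hF.c.xG p.1 p.2 * z) →
    z * hF.c.wordG L = hF.c.wordG L * z := by
  intro L
  induction L with
  | nil =>
    intro _
    simp [Checks.wordG_nil]
  | cons p L ih =>
    intro h
    rw [Checks.wordG_cons]
    calc z * (hF.c.xG p.1 p.2 * hF.c.wordG L) = (z * hF.c.xG p.1 p.2) * hF.c.wordG L := by group
      _ = hF.c.xG p.1 p.2 * (z * hF.c.wordG L) := by rw [h p List.mem_cons_self]; group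
      _ = _ := by rw [ih (fun q hq => h q (List.mem_cons_of_mem _ hq))]; group

/-- The shape of the terms of a move. -/
def mvFresh (D : ChevalleyDatum) (v src tgt : ℕ) : Option (ℕ × List (ℕ × ℤ × ℕ × ℕ)) :=
  match oddT D v src with
  | [e] => if e.1 = tgt then some (e.2.2.1, []) else none
  | [e, f] => if e.1 = tgt then some (e.2.2.1, [f]) else if f.1 = tgt then some (f.2.2.1, [e]) else none
  | _ => none

/-- A move. -/
theorem resP_mv [Fintype F] [CharP F 2] {Reps : List (List ℕ)} {v src tgt i : ℕ} {rest : List ℕ} {fr : List (ℕ × ℤ × ℕ × ℕ)}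
    (hsh : mvFresh D v src tgt = some (i, fr)) (hi : i = 1 ∨ i = 2) (hj : ∀ e ∈ oddT D v src, e.1 = tgt → e.2.2.2 = 1)
    (hv : v < D.nroots) (hsrc : src < D.nroots) (hsv : src ≠ v) (hsv' : src ≠ D.neg v)
    (hcomm : ∀ r ∈ tgt :: rest, r < D.nroots ∧ r ≠ v ∧ r ≠ D.neg v ∧ oddT D v r = [])
    (hP : commB D (tgt :: (fr.map (fun f => f.1) ++ rest)) = true)
    (hR : ResP hF F Reps (src :: (fr.map (fun f => f.1) ++ rest))) :
    ResP hF F Reps (src :: tgt :: rest) := by
  intro L hL hne
  cases L with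
  | nil => simp at hL
  | cons p₁ L =>
    cases L with
    | nil => simp at hL
    | cons p₂ L₁ =>
      obtain ⟨a, ha⟩ : ∃ a, p₁ = (src, a) := ⟨p₁.2, by
        simp only [List.map_cons, List.cons.injEq] at hL
        exact Prod.ext hL.1 rfl⟩
      obtain ⟨b, hb⟩ : ∃ b, p₂ = (tgt, b) := ⟨p₂.2, by
        simp only [List.map_cons, List.cons.injEq] at hL
        exact Prod.ext hL.2.1 rfl⟩
      subst ha hb
      have hL₁ : L₁.map Prod.fst = rest := by
        simp only [List.map_cons, List.cons.injEq] at hL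
        exact hL.2.2
      have ha0 : a ≠ 0 := hne (src, a) List.mem_cons_self
      have hb0 : b ≠ 0 := hne (tgt, b) (List.mem_cons_of_mem _ List.mem_cons_self)
      -- the parameter
      obtain ⟨u, hu0, hu⟩ := exists_root_char_two ha0 hb0 hi 1
      have hconj1 := conj_odd hF hv hsrc hsv hsv' u a
      have hcm : ∀ p ∈ (tgt, b) :: L₁, hF.c.xG v u * hF.c.xG p.1 p.2 = hF.c.xG p.1 p.2 * hF.c.xG v u := by
        intro p hp
        have hp1 : p.1 ∈ tgt :: rest := by
          have h0 : ((tgt, b) :: L₁).map Prod.fst = tgt :: rest := by simp [hL₁]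
          rw [← h0]
          exact List.mem_map.2 ⟨p, hp, rfl⟩
        obtain ⟨h1, h2, h3, h4⟩ := hcomm p.1 hp1
        exact comm_of_oddT hF hv h1 h2 h3 h4 u p.2
      have hcm2 := wordG_commute hF _ hcm
      have hbb : hF.c.xG tgt b * hF.c.xG tgt b = 1 := by
        rw [hF.c.xG_add, CharTwo.add_self_eq_zero, hF.c.xG_zero]
      set Fr := fr.map (fun f => (f.1, u ^ f.2.2.1 * a ^ f.2.2.2)) with hFr
      have hclaim : hF.c.wordG (oddW D F v src u a) * hF.c.wordG ((tgt, b) :: L₁) = hF.c.wordG (Fr ++ L₁) := by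
        unfold mvFresh at hsh
        unfold oddW
        generalize hodd : oddT D v src = ol at hsh hj
        match ol, hsh, hj, hodd with
        | [], hsh, _, _ => simp at hsh
        | [e], hsh, hj, hodd =>
          simp only at hsh
          split_ifs at hsh with h1
          simp only [Option.some.injEq, Prod.mk.injEq] at hsh
          obtain ⟨rfl, rfl⟩ := hsh
          have h2 := hj e List.mem_cons_self h1
          simp only [List.map_cons, List.map_nil, Checks.wordG_cons, Checks.wordG_nil, mul_one, hFr, List.nil_append, h1, h2]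
          rw [hu, ← mul_assoc, hbb, one_mul]
        | [e, f], hsh, hj, hodd =>
          simp only at hsh
          split_ifs at hsh with h1 h2
          · simp only [Option.some.injEq, Prod.mk.injEq] at hsh
            obtain ⟨rfl, rfl⟩ := hsh
            have h3 := hj e List.mem_cons_self h1
            simp only [List.map_cons, List.map_nil, Checks.wordG_cons, Checks.wordG_nil, mul_one, hFr, List.cons_append, List.nil_append, h1, h3]
            rw [hu]
            have h4 := commute_of_commB hF hP (a := tgt) (b := f.1) List.mem_cons_self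
              (by simp) b (u ^ f.2.2.1 * a ^ f.2.2.2)
            calc hF.c.xG tgt b * hF.c.xG f.1 (u ^ f.2.2.1 * a ^ f.2.2.2) * (hF.c.xG tgt b * hF.c.wordG L₁)
                = (hF.c.xG tgt b * hF.c.xG f.1 (u ^ f.2.2.1 * a ^ f.2.2.2)) * hF.c.xG tgt b * hF.c.wordG L₁ := by group
              _ = hF.c.xG f.1 (u ^ f.2.2.1 * a ^ f.2.2.2) * (hF.c.xG tgt b * hF.c.xG tgt b) * hF.c.wordG L₁ := by
                rw [h4]; group
              _ = _ := by rw [hbb]; group
          · simp only [Option.some.injEq, Prod.mk.injEq] at hsh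
            obtain ⟨rfl, rfl⟩ := hsh
            have h3 := hj f (List.mem_cons_of_mem _ List.mem_cons_self) h2
            simp only [List.map_cons, List.map_nil, Checks.wordG_cons, Checks.wordG_nil, mul_one, hFr, List.cons_append, List.nil_append, h2, h3]
            rw [hu]
            calc hF.c.xG e.1 (u ^ e.2.2.1 * a ^ e.2.2.2) * hF.c.xG tgt b * (hF.c.xG tgt b * hF.c.wordG L₁)
                = hF.c.xG e.1 (u ^ e.2.2.1 * a ^ e.2.2.2) * (hF.c.xG tgt b * hF.c.xG tgt b) * hF.c.wordG L₁ := by group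
              _ = _ := by rw [hbb]; group
        | _ :: _ :: _ :: _, hsh, _, _ => simp at hsh
      apply concl_conj hF (hF.c.xG_mem_group hv u)
      have he : hF.c.xG v u * hF.c.wordG ((src, a) :: (tgt, b) :: L₁) * (hF.c.xG v u)⁻¹ =
          hF.c.wordG ((src, a) :: (Fr ++ L₁)) := by
        rw [Checks.wordG_cons, Checks.wordG_cons (p := (src, a)), ← hclaim]
        simp only
        calc hF.c.xG v u * (hF.c.xG src a * hF.c.wordG ((tgt, b) :: L₁)) * (hF.c.xG v u)⁻¹
            = (hF.c.xG v u * hF.c.xG src a * (hF.c.xG v u)⁻¹) * (hF.c.xG v u * hF.c.wordG ((tgt, b) :: L₁) * (hF.c.xG v u)⁻¹) := by group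
          _ = hF.c.xG src a * hF.c.wordG (oddW D F v src u a) * hF.c.wordG ((tgt, b) :: L₁) := by
            rw [hconj1, hcm2]
            group
          _ = _ := by group
      rw [he]
      apply hR
      · simp [hFr, hL₁, Function.comp_def]
      · intro p hp
        rcases List.mem_cons.1 hp with rfl | hp
        · exact ha0
        · rcases List.mem_append.1 hp with hp | hp
          · obtain ⟨f, hf, rfl⟩ := List.mem_map.1 hp
            exact mul_ne_zero (pow_ne_zero _ hu0) (pow_ne_zero _ ha0)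
          · exact hne p (List.mem_cons_of_mem _ (List.mem_cons_of_mem _ hp))

theorem tor_mem_group (c : Fin D.rank → Fˣ) : tor R D c ∈ D.group F := by
  have h1 : c = ∏ i : Fin D.rank, Pi.mulSingle i (c i) := (Finset.univ_prod_mulSingle c).symm
  let K : Subgroup (Fin D.rank → Fˣ) := (D.group F).comap (torHom R D)
  have h2 : c ∈ K := by
    rw [h1]
    apply Subgroup.prod_mem
    intro i _
    show tor R D (Pi.mulSingle i (c i)) ∈ D.group F
    rw [← hF.hSimple_eq_tor]
    exact hF.c.hG_mem_group (hF.simple_lt i.2) _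
  exact h2

theorem fin1_conj {r j : ℕ} (hr : r < D.nroots) (hj : j < D.rank) (h1 : D.cartan j r = 1) {a : F} (ha : a ≠ 0) :
    ∃ h ∈ D.group F, h * hF.c.xG r a * h⁻¹ = hF.c.xG r 1 := by
  set e : Fˣ := Units.mk0 a⁻¹ (inv_ne_zero ha) with he
  set c : Fin D.rank → Fˣ := Pi.mulSingle ⟨j, hj⟩ e with hc
  refine ⟨tor R D c, tor_mem_group hF c, ?_⟩
  rw [hF.tor_conj_xG c hr]
  have h2 : chiT D c r = e := by
    unfold chiT
    rw [Finset.prod_eq_single (⟨j, hj⟩ : Fin D.rank)]
    · simp [hc, h1]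
    · intro i _ hi
      simp [hc, Pi.mulSingle_eq_of_ne hi]
    · simp
  rw [h2]
  congr 1
  simp [he, ha]

theorem fin2_conj {r s j₁ j₂ : ℕ} (hr : r < D.nroots) (hs : s < D.nroots) (hj₁ : j₁ < D.rank) (hj₂ : j₂ < D.rank) (hne : j₁ ≠ j₂)
    (h1 : D.cartan j₁ r = 1) (h2 : D.cartan j₂ r = 0) (h3 : D.cartan j₁ s = 0) (h4 : D.cartan j₂ s = 1) {a b : F} (ha : a ≠ 0) (hb : b ≠ 0) :
    ∃ h ∈ D.group F, h * (hF.c.xG r a * hF.c.xG s b) * h⁻¹ = hF.c.xG r 1 * hF.c.xG s 1 := by
  set e : Fˣ := Units.mk0 a⁻¹ (inv_ne_zero ha) with he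
  set f : Fˣ := Units.mk0 b⁻¹ (inv_ne_zero hb) with hf
  have hne' : (⟨j₁, hj₁⟩ : Fin D.rank) ≠ ⟨j₂, hj₂⟩ := fun h => hne (Fin.mk.inj_iff.1 h)
  set c : Fin D.rank → Fˣ := Pi.mulSingle ⟨j₁, hj₁⟩ e * Pi.mulSingle ⟨j₂, hj₂⟩ f with hc
  have hc1 : c ⟨j₁, hj₁⟩ = e := by
    simp [hc, Pi.mulSingle_eq_of_ne hne']
  have hc2 : c ⟨j₂, hj₂⟩ = f := by
    simp [hc, Pi.mulSingle_eq_of_ne hne'.symm]
  have hc3 : ∀ i, i ≠ ⟨j₁, hj₁⟩ → i ≠ ⟨j₂, hj₂⟩ → c i = 1 := by
    intro i h5 h6
    simp [hc, Pi.mulSingle_eq_of_ne h5, Pi.mulSingle_eq_of_ne h6]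
  have hchi : ∀ t, chiT D c t = e ^ D.cartan j₁ t * f ^ D.cartan j₂ t := by
    intro t
    unfold chiT
    rw [Finset.prod_eq_mul (⟨j₁, hj₁⟩ : Fin D.rank) ⟨j₂, hj₂⟩ hne']
    · rw [hc1, hc2]
    · intro i _ hi
      rw [hc3 i hi.1 hi.2, _root_.one_zpow]
    · simp
    · simp
  refine ⟨tor R D c, tor_mem_group hF c, ?_⟩
  have e1 : tor R D c * (hF.c.xG r a * hF.c.xG s b) * (tor R D c)⁻¹ =
      (tor R D c * hF.c.xG r a * (tor R D c)⁻¹) * (tor R D c * hF.c.xG s b * (tor R D c)⁻¹) := by group
  rw [e1, hF.tor_conj_xG c hr, hF.tor_conj_xG c hs, hchi, hchi, h1, h2, h3, h4]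
  simp [he, hf, ha, hb]

end part

/-- Certificates for resolving a list of roots. -/
inductive RCert where
  | wm (w : List ℕ) (P' : List ℕ)
  | mv (v src tgt : ℕ) (rest : List ℕ)
  | fin0
  | fin1 (j : ℕ) (w : List ℕ)
  | fin2 (j₁ j₂ : ℕ) (w : List ℕ)

/-- The check of a certificate. -/
noncomputable def rcOK (X : Extra) (D : ChevalleyDatum) (Reps : List (List ℕ)) (St : List ℕ) (later : List (List ℕ × RCert)) : RCert → Bool
  | .wm w P' => w.all (fun i => decide (i < D.rank)) && St.all (fun r => decide (r < D.nroots)) &&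
      (St.map (act X w)).isPerm P' && commB D (St.map (act X w)) && later.any (fun e => e.1 == P')
  | .mv v src tgt rest => St.isPerm (src :: tgt :: rest) && commB D St &&
      (match mvFresh D v src tgt with
       | none => false
       | some (i, fr) => ((i == 1) || (i == 2)) && (oddT D v src).all (fun e => (e.1 != tgt) || (e.2.2.2 == 1)) &&
          decide (v < D.nroots) && decide (src < D.nroots) && (src != v) && (src != D.neg v) &&
          (tgt :: rest).all (fun r => decide (r < D.nroots) && (r != v) && (r != D.neg v) && (oddT D v r).isEmpty) &&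
          commB D (tgt :: (fr.map (fun f => f.1) ++ rest)) && commB D (src :: (fr.map (fun f => f.1) ++ rest)) &&
          later.any (fun e => e.1.isPerm (src :: (fr.map (fun f => f.1) ++ rest))))
  | .fin0 => St.isEmpty && Reps.contains []
  | .fin1 j w => (match St with
      | [r] => decide (r < D.nroots) && decide (j < D.rank) && (D.cartan j r == 1)
      | _ => false) && w.all (fun i => decide (i < D.rank)) && Reps.contains (St.map (act X w))
  | .fin2 j₁ j₂ w => (match St with
      | [r, s] => decide (r < D.nroots) && decide (s < D.nroots) && decide (j₁ < D.rank) && decide (j₂ < D.rank) && (j₁ != j₂) &&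
          (D.cartan j₁ r == 1) && (D.cartan j₂ r == 0) && (D.cartan j₁ s == 0) && (D.cartan j₂ s == 1)
      | _ => false) && w.all (fun i => decide (i < D.rank)) && Reps.contains (St.map (act X w))

/-- The check of a table. -/
noncomputable def rcTable (X : Extra) (D : ChevalleyDatum) (Reps : List (List ℕ)) : List (List ℕ × RCert) → Bool
  | [] => true
  | e :: later => rcOK X D Reps e.1 later e.2 && rcTable X D Reps later

section sound

include hF

theorem concl_of_xL {Reps : List (List ℕ)} {St : List ℕ} {w : List ℕ} (hw : ∀ i ∈ w, i < D.rank) (hSt : ∀ r ∈ St, r < D.nroots)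
    [CharP F 2] (hRep : (St.map (act X w)) ∈ Reps) : Concl hF F Reps (xL hF F St) :=
  ⟨nW hF F w, nW_mem_group hF hw, _, hRep, nW_conj_xL hF hw hSt⟩

theorem rcOK_sound [Fintype F] [CharP F 2] {Reps : List (List ℕ)} {St : List ℕ} {later : List (List ℕ × RCert)} {c : RCert}
    (h : rcOK X D Reps St later c = true) (hl : ∀ e ∈ later, ResP hF F Reps e.1) : ResP hF F Reps St := by
  cases c with
  | wm w P' =>
    simp only [rcOK, Bool.and_eq_true, List.all_eq_true, decide_eq_true_eq, List.any_eq_true, beq_iff_eq] at h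
    obtain ⟨⟨⟨⟨h1, h2⟩, h3⟩, h4⟩, e, he, h5⟩ := h
    apply resP_wm hF h1 h2
    apply resP_perm hF h4 (List.isPerm_iff.1 h3)
    rw [← h5]
    exact hl e he
  | mv v src tgt rest =>
    simp only [rcOK, Bool.and_eq_true] at h
    obtain ⟨⟨h1, h2⟩, h3⟩ := h
    apply resP_perm hF h2 (List.isPerm_iff.1 h1)
    generalize hsh : mvFresh D v src tgt = o at h3
    cases o with
    | none => simp at h3
    | some q =>
      obtain ⟨i, fr⟩ := q
      simp only [Bool.and_eq_true, Bool.or_eq_true, beq_iff_eq, List.all_eq_true, decide_eq_true_eq, bne_iff_ne, ne_eq,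
        List.any_eq_true] at h3
      obtain ⟨⟨⟨⟨⟨⟨⟨⟨⟨hi, hj⟩, hv⟩, hs⟩, hsv⟩, hsv'⟩, hcm⟩, hP⟩, hP2⟩, e, he, hK⟩ := h3
      refine resP_mv hF hsh hi ?_ hv hs hsv hsv' ?_ hP ?_
      · intro e' he' h5
        rcases hj e' he' with h6 | h6
        · exact absurd h5 h6
        · exact h6
      · intro r hr
        obtain ⟨⟨⟨h5, h6⟩, h7⟩, h8⟩ := hcm r hr
        exact ⟨h5, h6, h7, by simpa using h8⟩
      · apply resP_perm hF hP2 (List.isPerm_iff.1 hK).symm
        exact hl e he
  | fin0 =>
    simp only [rcOK, Bool.and_eq_true] at h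
    obtain ⟨h1, h2⟩ := h
    have h3 : St = [] := by simpa using h1
    subst h3
    intro L hL hne
    have h4 : L = [] := by simpa using hL
    subst h4
    exact ⟨1, Subgroup.one_mem _, [], List.contains_iff_mem.1 h2, by simp [Checks.wordG_nil, xL_nil hF]⟩
  | fin1 j w =>
    simp only [rcOK, Bool.and_eq_true, List.all_eq_true, decide_eq_true_eq] at h
    obtain ⟨⟨h1, h2⟩, h3⟩ := h
    match St, h1, h3 with
    | [r], h1, h3 =>
      simp only [Bool.and_eq_true, decide_eq_true_eq, beq_iff_eq] at h1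
      obtain ⟨⟨h4, h5⟩, h6⟩ := h1
      intro L hL hne
      match L, hL, hne with
      | [p], hL, hne =>
        simp only [List.map_cons, List.map_nil, List.cons.injEq, and_true] at hL
        subst hL
        obtain ⟨k, hk, hk2⟩ := fin1_conj hF h4 h5 h6 (hne p List.mem_cons_self)
        have hw := concl_of_xL hF (F := F) (St := [p.1]) h2 (by simpa using h4) (List.contains_iff_mem.1 h3)
        have h7 : hF.c.wordG [p] = hF.c.xG p.1 p.2 := by
          simp [Checks.wordG_cons, Checks.wordG_nil]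
        rw [h7]
        apply concl_conj hF hk
        rw [hk2]
        simpa [xL_cons hF, xL_nil hF] using hw
  | fin2 j₁ j₂ w =>
    simp only [rcOK, Bool.and_eq_true, List.all_eq_true, decide_eq_true_eq] at h
    obtain ⟨⟨h1, h2⟩, h3⟩ := h
    match St, h1, h3 with
    | [r, s], h1, h3 =>
      simp only [Bool.and_eq_true, decide_eq_true_eq, beq_iff_eq, bne_iff_ne, ne_eq] at h1
      obtain ⟨⟨⟨⟨⟨⟨⟨⟨h4, h5⟩, h6⟩, h7⟩, h8⟩, h9⟩, h10⟩, h11⟩, h12⟩ := h1
      intro L hL hne
      match L, hL, hne with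
      | [p, q], hL, hne =>
        simp only [List.map_cons, List.map_nil, List.cons.injEq, and_true] at hL
        obtain ⟨rfl, rfl⟩ := hL
        obtain ⟨k, hk, hk2⟩ := fin2_conj hF h4 h5 h6 h7 h8 h9 h10 h11 h12 (hne p List.mem_cons_self)
          (hne q (List.mem_cons_of_mem _ List.mem_cons_self))
        have hw := concl_of_xL hF (F := F) (St := [p.1, q.1]) h2 (by simp [h4, h5]) (List.contains_iff_mem.1 h3)
        have h13 : hF.c.wordG [p, q] = hF.c.xG p.1 p.2 * hF.c.xG q.1 q.2 := by
          simp [Checks.wordG_cons, Checks.wordG_nil]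
        rw [h13]
        apply concl_conj hF hk
        rw [hk2]
        simpa [xL_cons hF, xL_nil hF] using hw

theorem rcTable_sound [Fintype F] [CharP F 2] {Reps : List (List ℕ)} : ∀ {Tb : List (List ℕ × RCert)}, rcTable X D Reps Tb = true →
    ∀ e ∈ Tb, ResP hF F Reps e.1 := by
  intro Tb
  induction Tb with
  | nil =>
    intro _ e he
    simp at he
  | cons e₀ later ih =>
    intro h e he
    simp only [rcTable, Bool.and_eq_true] at h
    rcases List.mem_cons.1 he with rfl | he
    · exact rcOK_sound hF h.1 (ih h.2)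
    · exact ih h.2 e he

/-- The classification of involutions, from two finite checks. -/
theorem classify_gen [Fintype F] [CharP F 2] {Reps : List (List ℕ)} {f : ℕ} {Tb : List (List ℕ × RCert)}
    (hT : rcTable X D Reps Tb = true)
    (hN : nodeB D (fun path => Tb.any (fun e => e.1 == path)) f [] (posL R D) (posL R D) = true)
    {t : GL D.Idx F} (ht : t ∈ D.group F) (htt : t * t = 1) :
    ∃ h ∈ D.group F, ∃ N ∈ Reps, h * t * h⁻¹ = xL hF F N := by
  obtain ⟨g, hg, L, hL, hP, he⟩ := inv_to_word hF hN ht htt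
  obtain ⟨e, heT, hpath⟩ := List.any_eq_true.1 hP
  have h1 := rcTable_sound hF (F := F) hT e heT
  have h2 : e.1 = L.map Prod.fst := beq_iff_eq.1 hpath
  rw [h2] at h1
  obtain ⟨k, hk, N, hN', hE⟩ := h1 L rfl hL
  refine ⟨k * g, Subgroup.mul_mem _ hk hg, N, hN', ?_⟩
  rw [← hE, ← he]
  group

end sound

end Cfsg.Agent.Lib.ChevInv
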