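import Mathlib
import Cfsg.Agent.Lib.ChevInv.Coll

/-!
# From compiled tables to the simply laced facts
-/

set_option autoImplicit false
set_option linter.unusedSectionVars false
set_option linter.unusedVariables false
set_option linter.unnecessarySimpa false

namespace Cfsg.Agent.Lib.ChevInv

open Cfsg Cfsg.Lie Matrix Cfsg.Agent.Lib.Chev Cfsg.Agent.Lib.Chev.Full Cfsg.Agent.Lib.Chev.Tri
open Cfsg.Agent.Lib.ChevAut.LongRoot Cfsg.Agent.Lib.ChevAut.RootCent Cfsg.Agent.Lib.ChevAut.ParabFit Equiv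

variable {T : Tabs} {X : Extra} {R : RootTab} {D : ChevalleyDatum} (hF : Full T X R D)

/-- Check for the shape of the commutator of a pair. -/
def oneB (D : ChevalleyDatum) (r s : ℕ) : Bool :=
  match D.commTerms r s with
  | [(k, c, 1, 1)] =>
    (c == 1 || c == -1) &&
      match D.chainCoeff r s k with
      | [(1, c')] => c' == 1 || c' == -1
      | _ => false
  | _ => false

theorem oneB_spec {D : ChevalleyDatum} {r s : ℕ} (h : oneB D r s = true) :
    ∃ k c c', D.commTerms r s = [(k, c, 1, 1)] ∧ (c = 1 ∨ c = -1) ∧ D.chainCoeff r s k = [(1, c')] ∧ (c' = 1 ∨ c' = -1) := by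
  unfold oneB at h
  split at h
  · rename_i k c h1
    rw [Bool.and_eq_true] at h
    obtain ⟨h2, h3⟩ := h
    split at h3
    · rename_i c' h4
      refine ⟨k, c, c', h1, ?_, h4, ?_⟩
      · simpa using h2
      · simpa using h3
    · simp at h3
  · simp at h

/-- The compiled form of the facts. -/
structure SLc (X : Extra) (R : RootTab) (D : ChevalleyDatum) : Prop where
  coroot : ∀ r < D.nroots, ∀ i < D.rank, (D.coroot.getD r #[]).getD i 0 = R.rcAt r i
  self : ∀ r < D.nroots, X.chiOf r r = 2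
  symm : ∀ r < D.nroots, ∀ s < D.nroots, X.chiOf r s = X.chiOf s r
  range : ∀ r < D.nroots, ∀ s < D.nroots, s ≠ r → s ≠ D.neg r → X.chiOf r s = -1 ∨ X.chiOf r s = 0 ∨ X.chiOf r s = 1
  one : ∀ r < D.nroots, ∀ s < D.nroots, X.chiOf r s = -1 → oneB D r s = true

include hF

theorem chi_eq_om (hc : ∀ r < D.nroots, ∀ i < D.rank, (D.coroot.getD r #[]).getD i 0 = R.rcAt r i)
    {r s : ℕ} (hr : r < D.nroots) (hs : s < D.nroots) : X.chiOf r s = om R D s r := by
  have h0 := allBelow_spec _ _ (allBelow_spec _ _ hF.r.chi_lin r (by rw [hF.nroots_eq]; exact hr))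
      s (by rw [hF.nroots_eq]; exact hs)
  have h1 := (intIsZero_iff _).1 h0
  have h2 : X.chiOf r s = sumZ T.rank (fun i => (D.coroot.getD r #[]).getD i 0 *
      X.chiOf (D.simple i) s) := by
    have : X.chiOf r s - sumZ T.rank (fun i => Int.mul ((D.coroot.getD r #[]).getD i 0)
      (X.chiOf (D.simple i) s)) = 0 := h1
    exact sub_eq_zero.1 this
  rw [h2, hF.rank_eq, sumZ_eq]
  unfold om RootTab.lin
  apply Finset.sum_congr rfl
  intro i hi
  have hi' := Finset.mem_range.1 hi
  rw [hc r hr i hi', hF.c.chiS hi' hs, mul_comm]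

theorem SL_of (h : SLc X R D) : SL R D := by
  have e : ∀ r < D.nroots, ∀ s < D.nroots, om R D r s = X.chiOf s r := fun r hr s hs =>
    (chi_eq_om hF h.coroot hs hr).symm
  refine ⟨?_, ?_, ?_, h.coroot, ?_⟩
  · intro r hr
    rw [e r hr r hr, h.self r hr]
  · intro r hr s hs h1 h2
    rw [e r hr s hs, h.symm s hs r hr]
    exact h.range r hr s hs h1 h2
  · intro r hr s hs
    rw [e r hr s hs, e s hs r hr, h.symm s hs r hr]
  · intro r hr s hs h1
    rw [e r hr s hs, h.symm s hs r hr] at h1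
    exact oneB_spec (h.one r hr s hs h1)

end Cfsg.Agent.Lib.ChevInv
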