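import Mathlib
import Cfsg.Agent.Lib.ChevInv.Tab

/-!
# Matrices over the prime field of characteristic two, as lists of bit masks
-/

set_option autoImplicit false
set_option linter.unusedSectionVars false
set_option linter.unusedVariables false
set_option linter.unnecessarySimpa false

namespace Cfsg.Agent.Lib.ChevInv

open Cfsg Cfsg.Lie Matrix Cfsg.Agent.Lib.Chev Cfsg.Agent.Lib.Chev.Full

section bits

variable {F : Type*} [Field F]

/-- A bit, as an element of the field. -/
def bitF (F : Type*) [Field F] (m i : ℕ) : F := if m.testBit i then 1 else 0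

/-- The sum of the columns selected by the bits of `c`. -/
def combo : List ℕ → ℕ → ℕ
  | [], _ => 0
  | a :: A, c => Nat.xor (if c % 2 = 1 then a else 0) (combo A (c / 2))

theorem bitF_zero (i : ℕ) : bitF F 0 i = 0 := by
  simp [bitF]

theorem bitF_xor [CharP F 2] (a b i : ℕ) : bitF F (Nat.xor a b) i = bitF F a i + bitF F b i := by
  have h : Nat.xor a b = a ^^^ b := rfl
  unfold bitF
  rw [h, Nat.testBit_xor]
  cases a.testBit i <;> cases b.testBit i <;> simp [CharTwo.add_self_eq_zero]

theorem bitF_combo [CharP F 2] (A : List ℕ) : ∀ (c i : ℕ), bitF F (combo A c) i =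
    ∑ k ∈ Finset.range A.length, bitF F c k * bitF F (A.getD k 0) i := by
  induction A with
  | nil =>
    intro c i
    simp [combo, bitF_zero]
  | cons a A ih =>
    intro c i
    rw [List.length_cons, Finset.sum_range_succ', combo, bitF_xor, ih]
    rw [add_comm]
    congr 1
    · apply Finset.sum_congr rfl
      intro k _
      congr 1
      unfold bitF
      have : (c / 2).testBit k = c.testBit (k + 1) := by
        rw [Nat.testBit_succ]
      rw [this]
    · simp only [List.getD_cons_zero]
      unfold bitF
      by_cases h : c % 2 = 1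
      · have : c.testBit 0 = true := by
          rw [Nat.testBit_zero]
          simpa using h
        simp [h, this]
      · have h' : c % 2 = 0 := by omega
        have : c.testBit 0 = false := by
          rw [Nat.testBit_zero]
          simp [h']
        simp [h', this]

/-- The matrix with the given columns. -/
def bm (F : Type*) [Field F] {α β : Type*} (fa : α → ℕ) (fb : β → ℕ) (A : List ℕ) : Matrix α β F :=
  Matrix.of fun a b => bitF F (A.getD (fb b) 0) (fa a)

theorem combo_zero (A : List ℕ) : combo A 0 = 0 := by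
  induction A with
  | nil => rfl
  | cons a A ih =>
    simp [combo, ih]

theorem getD_map_combo (A B : List ℕ) (i : ℕ) : (B.map (combo A)).getD i 0 = combo A (B.getD i 0) := by
  by_cases h : i < B.length
  · simp [List.getD_eq_getElem, h]
  · have h' : B.length ≤ i := by omega
    rw [List.getD_eq_default _ _ (by simpa using h'), List.getD_eq_default _ _ h', combo_zero]

/-- The product of matrices given by columns. -/
theorem bm_mul [CharP F 2] {α β γ : Type*} [Fintype γ] (fa : α → ℕ) (fb : β → ℕ) (fg : γ → ℕ) (A B : List ℕ)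
    (hg : ∀ φ : ℕ → F, ∑ g, φ (fg g) = ∑ k ∈ Finset.range A.length, φ k) :
    bm F fa fg A * bm F fg fb B = bm F fa fb (B.map (combo A)) := by
  ext a b
  rw [Matrix.mul_apply]
  simp only [bm, Matrix.of_apply]
  rw [getD_map_combo, bitF_combo, ← hg (fun k => bitF F (B.getD (fb b) 0) k * bitF F (A.getD k 0) (fa a))]
  apply Finset.sum_congr rfl
  intro g _
  rw [mul_comm]

/-- Sums over `Fin r`. -/
theorem sum_fin_val (r : ℕ) (φ : ℕ → F) : ∑ g : Fin r, φ g = ∑ k ∈ Finset.range r, φ k :=
  (Finset.sum_range φ).symm

/-- The identity columns. -/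
def idC (d : ℕ) : List ℕ := (List.range d).map (fun i => 2 ^ i)

theorem bm_idC {α : Type*} [Fintype α] [DecidableEq α] (fa : α → ℕ) (d : ℕ) (hd : ∀ a, fa a < d)
    (hinj : Function.Injective fa) : bm F fa fa (idC d) = (1 : Matrix α α F) := by
  ext a b
  simp only [bm, Matrix.of_apply, idC]
  have h1 : ((List.range d).map (fun i => 2 ^ i)).getD (fa b) 0 = 2 ^ fa b := by
    simp [List.getD_eq_getElem, hd b]
  rw [h1]
  unfold bitF
  rw [Nat.testBit_two_pow]
  by_cases h : a = b
  · subst h
    simp
  · have h2 : fa b ≠ fa a := fun e => h (hinj e.symm)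
    simp [h, h2, Matrix.one_apply_ne]

/-- Rank from a certificate. -/
theorem rank_of_cert {α : Type*} [Fintype α] [DecidableEq α] {r : ℕ}
    (M : Matrix α α F) (B : Matrix α (Fin r) F) (C : Matrix (Fin r) α F) (P : Matrix (Fin r) α F)
    (Q : Matrix α (Fin r) F) (h1 : M = B * C) (h2 : B = M * Q) (h3 : P * B = 1) : M.rank = r := by
  apply le_antisymm
  · rw [h1]
    refine (Matrix.rank_mul_le_right B C).trans ?_
    simpa using Matrix.rank_le_card_height C
  · have h4 : (P * B).rank ≤ B.rank := Matrix.rank_mul_le_right P B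
    rw [h3, Matrix.rank_one] at h4
    simp only [Fintype.card_fin] at h4
    refine h4.trans ?_
    rw [h2]
    exact Matrix.rank_mul_le_left M Q

/-- The rank of `t - 1` is invariant under conjugation. -/
theorem rank_conj {α : Type*} [Fintype α] [DecidableEq α] (t h : GL α F) :
    (((h * t * h⁻¹ : GL α F) : Matrix α α F) - 1).rank = ((t : Matrix α α F) - 1).rank := by
  have e : ((h * t * h⁻¹ : GL α F) : Matrix α α F) - 1 =
      (h : Matrix α α F) * ((t : Matrix α α F) - 1) * ((h⁻¹ : GL α F) : Matrix α α F) := by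
    have h1 : (h : Matrix α α F) * ((h⁻¹ : GL α F) : Matrix α α F) = 1 := by
      rw [← Units.val_mul, mul_inv_cancel, Units.val_one]
    rw [mul_sub, sub_mul, mul_one, h1]
    simp only [Units.val_mul]
  rw [e, Matrix.rank_mul_eq_left_of_isUnit_det _ _ (by
    exact (Matrix.isUnit_iff_isUnit_det _).1 (h⁻¹).isUnit), Matrix.rank_mul_eq_right_of_isUnit_det _ _ (by
    exact (Matrix.isUnit_iff_isUnit_det _).1 h.isUnit)]

end bits

section xbridge

variable {T : Tabs} {X : Extra} {R : RootTab} {D : ChevalleyDatum} (hF : Full T X R D)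
variable {F : Type*} [Field F]

/-- The mask of a list of extra terms. -/
noncomputable def exMask : List (ℕ × ℤ × ℕ) → ℕ
  | [] => 0
  | e :: L => Nat.xor (if e.2.1 % 2 == 1 then 2 ^ e.1 else 0) (exMask L)

/-- A column of `x_s(1)`. -/
noncomputable def colM (T : Tabs) (s c : ℕ) : ℕ := Nat.xor (2 ^ c) (exMask (T.exOf s c))

/-- The columns of `x_s(1)`. -/
noncomputable def colsX (T : Tabs) (s : ℕ) : List ℕ := (List.range T.dim).map (colM T s)

/-- The columns of a product of root elements. -/
noncomputable def prodM (T : Tabs) : List ℕ → List ℕ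
  | [] => idC T.dim
  | r :: L => (prodM T L).map (combo (colsX T r))

/-- The columns of `M - 1`. -/
def minusOne (d : ℕ) (A : List ℕ) : List ℕ := (List.range d).map (fun j => Nat.xor (A.getD j 0) (2 ^ j))

theorem sum_flat (φ : ℕ → F) : ∑ g : D.Idx, φ (flat D g) = ∑ k ∈ Finset.range (D.rank + D.nroots), φ k := by
  rw [Fintype.sum_sum_type, Finset.sum_range_add, Finset.sum_range, Finset.sum_range]
  rfl

theorem bitF_exMask [CharP F 2] (L : List (ℕ × ℤ × ℕ)) (row : D.Idx) :
    bitF F (exMask L) (flat D row) = evalEx D L (1 : F) row := by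
  induction L with
  | nil =>
    simp [exMask, evalEx, bitF_zero]
  | cons e L ih =>
    have h1 : evalEx D (e :: L) (1 : F) row = ((e.2.1 : ℤ) : F) * (if flat D row = e.1 then 1 else 0) + evalEx D L (1 : F) row := by
      simp [evalEx, bv]
    rw [h1, exMask, bitF_xor, ih, int_cast_char_two (F := F) e.2.1]
    congr 1
    by_cases h2 : (e.2.1 % 2 == 1) = true
    · simp only [h2, if_true, one_mul]
      unfold bitF
      rw [Nat.testBit_two_pow]
      by_cases h3 : flat D row = e.1
      · simp [h3]
      · have : e.1 ≠ flat D row := fun h => h3 h.symm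
        simp [h3, this]
    · have h3 : (e.2.1 % 2 == 1) = false := by simpa using h2
      simp only [h3, Bool.false_eq_true, if_false, zero_mul]
      exact bitF_zero (F := F) _

include hF

theorem x_eq_bm [CharP F 2] (s : ℕ) : D.x F s 1 = bm F (flat D) (flat D) (colsX T s) := by
  ext row col
  rw [hF.c.x_entry]
  simp only [bm, Matrix.of_apply, colsX]
  have hlt : flat D col < T.dim := by
    rw [hF.dim_eq]
    exact flat_lt D col
  have h1 : ((List.range T.dim).map (colM T s)).getD (flat D col) 0 = colM T s (flat D col) := by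
    simp [List.getD_eq_getElem, hlt]
  rw [h1, colM, bitF_xor, bitF_exMask]
  congr 1
  unfold bitF
  rw [Nat.testBit_two_pow]
  by_cases h : row = col
  · subst h
    simp
  · have h2 : flat D col ≠ flat D row := fun e => h (flat_injective D e.symm)
    simp [h, h2]

theorem prodM_length (L : List ℕ) : (prodM T L).length = T.dim := by
  induction L with
  | nil => simp [prodM, idC]
  | cons r L ih => simp [prodM, ih]

theorem xL_eq_bm [CharP F 2] (L : List ℕ) :
    ((xL hF F L : GL D.Idx F) : Matrix D.Idx D.Idx F) = bm F (flat D) (flat D) (prodM T L) := by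
  induction L with
  | nil =>
    rw [xL_nil hF, Units.val_one, prodM, hF.dim_eq, bm_idC]
    · exact fun a => flat_lt D a
    · exact flat_injective D
  | cons r L ih =>
    rw [xL_cons hF, Units.val_mul, ih, Checks.coe_xG, x_eq_bm hF, bm_mul, prodM]
    intro φ
    rw [sum_flat]
    simp [colsX, hF.dim_eq]

theorem minusOne_eq [CharP F 2] (A : List ℕ) :
    bm F (flat D) (flat D) (minusOne T.dim A) = bm F (flat D) (flat D) A - 1 := by
  ext row col
  have hlt : flat D col < T.dim := by
    rw [hF.dim_eq]
    exact flat_lt D col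
  simp only [bm, Matrix.of_apply, minusOne, Matrix.sub_apply]
  have h1 : ((List.range T.dim).map (fun j => Nat.xor (A.getD j 0) (2 ^ j))).getD (flat D col) 0 =
      Nat.xor (A.getD (flat D col) 0) (2 ^ flat D col) := by
    simp [List.getD_eq_getElem, hlt]
  rw [h1, bitF_xor, sub_eq_add_neg, CharTwo.neg_eq]
  congr 1
  unfold bitF
  rw [Nat.testBit_two_pow]
  by_cases h : row = col
  · subst h
    simp
  · have h2 : flat D col ≠ flat D row := fun e => h (flat_injective D e.symm)
    simp [h, h2, Matrix.one_apply_ne]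

/-- The rank of `t - 1`, for a product of root elements. -/
theorem rank_xL [CharP F 2] {L : List ℕ} {r : ℕ} {A Bm Cm Pm Qm : List ℕ}
    (hA : A = minusOne T.dim (prodM T L)) (hAl : A.length = T.dim) (hBl : Bm.length = r) (hPl : Pm.length = T.dim)
    (h1 : A = Cm.map (combo Bm)) (h2 : Bm = Qm.map (combo A)) (h3 : idC r = Bm.map (combo Pm)) :
    (((xL hF F L : GL D.Idx F) : Matrix D.Idx D.Idx F) - 1).rank = r := by
  have hM : ((xL hF F L : GL D.Idx F) : Matrix D.Idx D.Idx F) - 1 = bm F (flat D) (flat D) A := by
    rw [hA, minusOne_eq hF, xL_eq_bm hF]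
  rw [hM]
  refine rank_of_cert _ (bm F (flat D) Fin.val Bm) (bm F Fin.val (flat D) Cm) (bm F Fin.val (flat D) Pm)
    (bm F (flat D) Fin.val Qm) ?_ ?_ ?_
  · rw [bm_mul, ← h1]
    intro φ
    rw [hBl, sum_fin_val]
  · rw [bm_mul, ← h2]
    intro φ
    rw [sum_flat, hAl, hF.dim_eq]
  · rw [bm_mul, ← h3, bm_idC]
    · exact fun a => a.2
    · exact Fin.val_injective
    · intro φ
      rw [sum_flat, hPl, hF.dim_eq]

end xbridge

end Cfsg.Agent.Lib.ChevInv
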