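import Mathlib
import Cfsg.Agent.Lib.ChevInv.Mask

/-!
# Involution classes from tables
-/

set_option autoImplicit false
set_option linter.unusedSectionVars false
set_option linter.unusedVariables false
set_option linter.unnecessarySimpa false

namespace Cfsg.Agent.Lib.ChevInv

open Cfsg Cfsg.Lie Matrix Cfsg.Agent.Lib.Chev Cfsg.Agent.Lib.Chev.Full Cfsg.Agent.Lib.Chev.Tri
open Cfsg.Agent.Lib.ChevAut.LongRoot Cfsg.Agent.Lib.ChevAut.RootCent Cfsg.Agent.Lib.ChevAut.ParabFit Equiv

variable {T : Tabs} {X : Extra} {R : RootTab} {D : ChevalleyDatum} (hF : Full T X R D)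
variable {F : Type*} [Field F]

/-- Certificates for the entries of the tower. -/
inductive ICert
  | wm (w : List ℕ) (N : List ℕ)
  | red (w : List ℕ) (L' : List ℕ)

/-- Orthogonality of a list, with compiled tables. -/
noncomputable def orthB (X : Extra) (D : ChevalleyDatum) : List ℕ → Bool
  | [] => true
  | r :: L => decide (r < D.nroots) && L.all (fun s => X.chiOf s r == 0) && orthB X D L

/-- Check of a certificate. -/
noncomputable def certB (X : Extra) (D : ChevalleyDatum) (N₀ f : ℕ) (Reps : List (List ℕ)) (St : List ℕ) : ICert → Bool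
  | .wm w N => Reps.contains N && w.all (fun i => decide (i < D.rank)) && (St.map (act X w)).isPerm N
  | .red w L' => orthB X D L' && decide (L'.length < St.length) && w.all (fun r => decide (r < D.nroots)) &&
      (match collL D N₀ f L' with
       | some l => collL D N₀ f (w ++ St ++ w.reverse) == some l
       | none => false)

/-- Check of the table. -/
noncomputable def tableB (X : Extra) (D : ChevalleyDatum) (N₀ f : ℕ) (Reps : List (List ℕ)) (Tb : List (List ℕ × ICert)) : Bool :=
  Tb.all (fun e => orthB X D e.1 && certB X D N₀ f Reps e.1 e.2)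

/-- Orthogonal to a list, with compiled tables. -/
noncomputable def perpB (X : Extra) (St : List ℕ) (s : ℕ) : Bool := St.all (fun o => X.chiOf s o == 0)

/-- Dominance, with compiled tables. -/
noncomputable def domB (X : Extra) (D : ChevalleyDatum) (St : List ℕ) (s : ℕ) : Bool :=
  (List.range D.rank).all (fun i => !(St.all (fun o => X.chiOf (D.simple i) o == 0)) || decide (0 ≤ X.chiOf (D.simple i) s))

/-- The tower check. -/
noncomputable def treeB (X : Extra) (D : ChevalleyDatum) (Pb : List ℕ → Bool) : ℕ → List ℕ → Bool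
  | 0, St => Pb St && (List.range D.nroots).all (fun s => !(perpB X St s))
  | f + 1, St => Pb St && (List.range D.nroots).all (fun s => !(perpB X St s && domB X D St s) || treeB X D Pb f (St ++ [s]))

/-- The table membership predicate. -/
def inTable (Tb : List (List ℕ × ICert)) (St : List ℕ) : Bool := Tb.any (fun e => St.isPerm e.1)

section sound

include hF

theorem orthB_spec (hSL : SL R D) (hc : ∀ r < D.nroots, ∀ i < D.rank, (D.coroot.getD r #[]).getD i 0 = R.rcAt r i) :
    ∀ {L : List ℕ}, orthB X D L = true → OrthL R D L := by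
  intro L
  induction L with
  | nil =>
    intro _
    exact ⟨by simp, List.Pairwise.nil⟩
  | cons r L ih =>
    intro h
    simp only [orthB, Bool.and_eq_true, decide_eq_true_eq, List.all_eq_true, beq_iff_eq] at h
    obtain ⟨⟨h1, h2⟩, h3⟩ := h
    obtain ⟨h4, h5⟩ := ih h3
    refine ⟨?_, List.pairwise_cons.2 ⟨?_, h5⟩⟩
    · intro s hs
      rcases List.mem_cons.1 hs with rfl | hs
      · exact h1
      · exact h4 s hs
    · intro s hs
      rw [← chi_eq_om hF hc (h4 s hs) h1]
      exact h2 s hs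

theorem resolved_of_certB [CharP F 2] (hSL : SL R D)
    (hc : ∀ r < D.nroots, ∀ i < D.rank, (D.coroot.getD r #[]).getD i 0 = R.rcAt r i)
    {f : ℕ} {Reps : List (List ℕ)} {St : List ℕ} {c : ICert} (h : certB X D R.N f Reps St c = true) :
    Resolved hF F Reps St := by
  cases c with
  | wm w N =>
    simp only [certB, Bool.and_eq_true, List.contains_iff_mem, List.all_eq_true, decide_eq_true_eq, List.isPerm_iff] at h
    exact Or.inl ⟨N, h.1.1, w, h.1.2, h.2⟩
  | red w L' =>
    simp only [certB, Bool.and_eq_true, List.all_eq_true, decide_eq_true_eq] at h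
    obtain ⟨⟨⟨h1, h2⟩, h3⟩, h4⟩ := h
    split at h4
    · rename_i l hl
      have h5 : collL D R.N f (w ++ St ++ w.reverse) = some l := by simpa using h4
      exact Or.inr ⟨L', orthB_spec hF hSL hc h1, h2, conj_of_coll hF f h3 h5 hl⟩
    · simp at h4

/-- Soundness of the tower check. -/
theorem treeB_sound (hc : ∀ r < D.nroots, ∀ i < D.rank, (D.coroot.getD r #[]).getD i 0 = R.rcAt r i)
    {Pb : List ℕ → Bool} {P : List ℕ → Prop} (hP : ∀ St, Pb St = true → P St) :
    ∀ (f : ℕ) (St : List ℕ), (∀ o ∈ St, o < D.nroots) → treeB X D Pb f St = true → TreeOK R D P f St := by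
  have hperp : ∀ {St s}, (∀ o ∈ St, o < D.nroots) → PP R D St s → perpB X St s = true := by
    intro St s hSt hs
    simp only [perpB, List.all_eq_true, beq_iff_eq]
    intro o ho
    rw [chi_eq_om hF hc hs.1 (hSt o ho)]
    exact hs.2 o ho
  intro f
  induction f with
  | zero =>
    intro St hSt h
    simp only [treeB, Bool.and_eq_true, List.all_eq_true, List.mem_range, Bool.not_eq_true'] at h
    refine ⟨hP _ h.1, fun s hs => ?_⟩
    have h1 := h.2 s hs.1
    rw [hperp hSt hs] at h1
    simp at h1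
  | succ f ih =>
    intro St hSt h
    simp only [treeB, Bool.and_eq_true, List.all_eq_true, List.mem_range] at h
    refine ⟨hP _ h.1, fun s hs hd => ?_⟩
    have h1 := h.2 s hs.1
    have h2 : domB X D St s = true := by
      simp only [domB, List.all_eq_true, List.mem_range]
      intro i hi
      by_cases h3 : St.all (fun o => X.chiOf (D.simple i) o == 0) = true
      · have h4 : JJ D St i := by
          refine ⟨hi, fun o ho => ?_⟩
          rw [← hF.c.chiS hi (hSt o ho)]
          simpa using (List.all_eq_true.1 h3) o ho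
        have h5 := hd i h4
        rw [← hF.c.chiS hi hs.1] at h5
        simp [h5]
      · simp [h3]
    rw [hperp hSt hs, h2] at h1
    simp only [Bool.and_self, Bool.not_true, Bool.false_or] at h1
    apply ih _ _ h1
    intro o ho
    rcases List.mem_append.1 ho with ho | ho
    · exact hSt o ho
    · rw [List.mem_singleton] at ho
      rw [ho]
      exact hs.1

/-- The classification of involutions from the table checks. -/
theorem classify_tables [Fintype F] [CharP F 2] (hSL : SL R D)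
    {f f' : ℕ} {Reps : List (List ℕ)} {Tb : List (List ℕ × ICert)}
    (hTb : tableB X D R.N f' Reps Tb = true) (hTree : treeB X D (inTable Tb) f [] = true)
    {t : GL D.Idx F} (ht : t ∈ D.group F) (htt : t * t = 1) :
    ∃ h ∈ D.group F, ∃ N ∈ Reps, h * t * h⁻¹ = xL hF F N := by
  have hP : ∀ St, inTable Tb St = true → ∃ St₀, St.Perm St₀ ∧ OrthL R D St₀ ∧ Resolved hF F Reps St₀ := by
    intro St h
    simp only [inTable, List.any_eq_true, List.isPerm_iff] at h
    obtain ⟨e, he, h1⟩ := h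
    have h2 := (List.all_eq_true.1 hTb) e he
    rw [Bool.and_eq_true] at h2
    exact ⟨e.1, h1, orthB_spec hF hSL hSL.coroot h2.1, resolved_of_certB hF hSL hSL.coroot h2.2⟩
  exact classify_inv hF hSL (treeB_sound hF hSL.coroot hP f [] (by simp) hTree) ht htt

end sound

section final

/-- The conclusion about the classes of involutions. -/
def FinalShape (hF : Full T X R D) (F : Type*) [Field F] (RR : List (List ℕ × ℕ)) : Prop :=
    (∀ y : GL D.Idx F, (y : Matrix D.Idx D.Idx F) ∈ RR.map (fun p => ((xL hF F p.1 : GL D.Idx F) : Matrix D.Idx D.Idx F)) →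
      y ∈ D.group F ∧ orderOf y = 2) ∧
    (∀ g ∈ D.group F, orderOf g = 2 → ∃ y ∈ D.group F,
      (y : Matrix D.Idx D.Idx F) ∈ RR.map (fun p => ((xL hF F p.1 : GL D.Idx F) : Matrix D.Idx D.Idx F)) ∧ ∃ h ∈ D.group F, h * g * h⁻¹ = y) ∧
    (∀ y₁ ∈ D.group F, ∀ y₂ ∈ D.group F,
      (y₁ : Matrix D.Idx D.Idx F) ∈ RR.map (fun p => ((xL hF F p.1 : GL D.Idx F) : Matrix D.Idx D.Idx F)) →
      (y₂ : Matrix D.Idx D.Idx F) ∈ RR.map (fun p => ((xL hF F p.1 : GL D.Idx F) : Matrix D.Idx D.Idx F)) →
      (∃ h ∈ D.group F, h * y₁ * h⁻¹ = y₂) → (y₁ : Matrix D.Idx D.Idx F) = y₂)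

include hF

theorem coe_xL (L : List ℕ) : ((xL hF F L : GL D.Idx F) : Matrix D.Idx D.Idx F) = (L.map fun r => D.x F r 1).prod := by
  rw [xL, Checks.coe_wordG]
  simp [ChevalleyDatum.wordMat, Function.comp_def]

/-- The final statement shape. -/
theorem final_shape [Fintype F] [CharP F 2] (hSL : SL R D) {RR : List (List ℕ × ℕ)}
    (hcl : ∀ t ∈ D.group F, t * t = 1 → ∃ h ∈ D.group F, ∃ N, (N = [] ∨ N ∈ RR.map Prod.fst) ∧ h * t * h⁻¹ = xL hF F N)
    (hO : ∀ p ∈ RR, OrthL R D p.1)
    (hrk : ∀ p ∈ RR, ((((xL hF F p.1 : GL D.Idx F) : Matrix D.Idx D.Idx F)) - 1).rank = p.2)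
    (hnd : (RR.map Prod.snd).Nodup) (hpos : ∀ p ∈ RR, p.2 ≠ 0) : FinalShape hF F RR := by
  unfold FinalShape
  have hne : ∀ p ∈ RR, xL hF F p.1 ≠ (1 : GL D.Idx F) := by
    intro p hp h
    have h1 := hrk p hp
    rw [h] at h1
    simp only [Units.val_one, sub_self, Matrix.rank_zero] at h1
    exact hpos p hp h1.symm
  have hmem : ∀ (y : GL D.Idx F), (y : Matrix D.Idx D.Idx F) ∈ RR.map (fun p => ((xL hF F p.1 : GL D.Idx F) : Matrix D.Idx D.Idx F)) →
      ∃ p ∈ RR, y = xL hF F p.1 := by
    intro y hy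
    obtain ⟨p, hp, h⟩ := List.mem_map.1 hy
    exact ⟨p, hp, Units.ext h.symm⟩
  refine ⟨?_, ?_, ?_⟩
  · intro y hy
    obtain ⟨p, hp, rfl⟩ := hmem y hy
    refine ⟨xL_mem_group hF (hO p hp).1, ?_⟩
    exact orderOf_eq_prime (by rw [pow_two]; exact xL_sq hF hSL (hO p hp)) (hne p hp)
  · intro g hg hord
    have hgg : g * g = 1 := by
      rw [← pow_two, ← hord]
      exact pow_orderOf_eq_one g
    obtain ⟨h, hh, N, hN, hE⟩ := hcl g hg hgg
    rcases hN with rfl | hN
    · exfalso
      have h1 : g = 1 := by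
        have h2 : h * g * h⁻¹ = 1 := hE
        have h3 : g = h⁻¹ * (h * g * h⁻¹) * h := by group
        rw [h3, h2]
        group
      rw [h1, orderOf_one] at hord
      omega
    · obtain ⟨p, hp, rfl⟩ := List.mem_map.1 hN
      refine ⟨xL hF F p.1, xL_mem_group hF (hO p hp).1, List.mem_map.2 ⟨p, hp, rfl⟩, h, hh, hE⟩
  · intro y₁ _ y₂ _ h1 h2 ⟨h, _, hE⟩
    obtain ⟨p, hp, rfl⟩ := hmem y₁ h1
    obtain ⟨q, hq, rfl⟩ := hmem y₂ h2
    have h3 := Cfsg.Agent.Lib.ChevInv.rank_conj (xL hF F p.1) h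
    rw [hE, hrk q hq, hrk p hp] at h3
    have h4 : p = q := List.inj_on_of_nodup_map hnd hp hq h3.symm
    rw [h4]

open Classical in
/-- The number of classes of involutions. -/
theorem ncard_classes [Fintype F] [CharP F 2] {RR : List (List ℕ × ℕ)} (hS : FinalShape hF F RR)
    (hrk : ∀ p ∈ RR, ((((xL hF F p.1 : GL D.Idx F) : Matrix D.Idx D.Idx F)) - 1).rank = p.2)
    (hnd : (RR.map Prod.snd).Nodup) :
    (ConjClasses.mk '' {g : ↥(D.group F) | orderOf g = 2}).ncard = RR.length := by
  obtain ⟨h1, h2, -⟩ := hS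
  have hmemM : ∀ p ∈ RR, ((xL hF F p.1 : GL D.Idx F) : Matrix D.Idx D.Idx F) ∈
      RR.map (fun p => ((xL hF F p.1 : GL D.Idx F) : Matrix D.Idx D.Idx F)) :=
    fun p hp => List.mem_map.2 ⟨p, hp, rfl⟩
  let φ : List ℕ × ℕ → ConjClasses ↥(D.group F) := fun p =>
    if h : xL hF F p.1 ∈ D.group F then ConjClasses.mk ⟨xL hF F p.1, h⟩ else 1
  have hφ : ∀ p ∈ RR, ∃ h : xL hF F p.1 ∈ D.group F, φ p = ConjClasses.mk ⟨xL hF F p.1, h⟩ := by
    intro p hp
    have h3 := (h1 _ (hmemM p hp)).1
    exact ⟨h3, by simp only [φ, dif_pos h3]⟩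
  have hset : ConjClasses.mk '' {g : ↥(D.group F) | orderOf g = 2} = φ '' (↑RR.toFinset : Set (List ℕ × ℕ)) := by
    ext c
    constructor
    · rintro ⟨g, hg, rfl⟩
      have hg2 : orderOf (g : GL D.Idx F) = 2 := by
        rw [Subgroup.orderOf_coe]
        exact hg
      obtain ⟨y, hy, hyM, h, hh, hE⟩ := h2 g.1 g.2 hg2
      obtain ⟨p, hp, hp2⟩ := List.mem_map.1 hyM
      have hy2 : y = xL hF F p.1 := Units.ext hp2.symm
      obtain ⟨h3, h4⟩ := hφ p hp
      refine ⟨p, by simpa using hp, ?_⟩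
      rw [h4]
      apply ConjClasses.mk_eq_mk_iff_isConj.2
      rw [isConj_iff]
      refine ⟨⟨h⁻¹, Subgroup.inv_mem _ hh⟩, Subtype.ext ?_⟩
      simp only [Subgroup.coe_mul, Subgroup.coe_inv]
      rw [← hy2, ← hE]
      group
    · rintro ⟨p, hp, rfl⟩
      have hp' : p ∈ RR := by simpa using hp
      obtain ⟨h3, h4⟩ := hφ p hp'
      refine ⟨⟨xL hF F p.1, h3⟩, ?_, h4.symm⟩
      show orderOf (⟨xL hF F p.1, h3⟩ : ↥(D.group F)) = 2
      rw [← Subgroup.orderOf_coe]
      exact (h1 _ (hmemM p hp')).2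
  have hinj : Set.InjOn φ (↑RR.toFinset : Set (List ℕ × ℕ)) := by
    intro p hp q hq hpq
    have hp' : p ∈ RR := by simpa using hp
    have hq' : q ∈ RR := by simpa using hq
    obtain ⟨h3, h4⟩ := hφ p hp'
    obtain ⟨h5, h6⟩ := hφ q hq'
    rw [h4, h6] at hpq
    have h7 := ConjClasses.mk_eq_mk_iff_isConj.1 hpq
    rw [isConj_iff] at h7
    obtain ⟨c, hc⟩ := h7
    have h8 : (c : GL D.Idx F) * xL hF F p.1 * (c : GL D.Idx F)⁻¹ = xL hF F q.1 := by
      have := congrArg Subtype.val hc
      simpa using this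
    have h9 := Cfsg.Agent.Lib.ChevInv.rank_conj (xL hF F p.1) (c : GL D.Idx F)
    rw [h8, hrk q hq', hrk p hp'] at h9
    exact List.inj_on_of_nodup_map hnd hp' hq' h9.symm
  rw [hset, Set.ncard_image_of_injOn hinj, Set.ncard_coe_finset, List.toFinset_card_of_nodup]
  exact List.Nodup.of_map _ hnd

end final

end Cfsg.Agent.Lib.ChevInv
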