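import Mathlib
import Cfsg.Agent.Lib.ChevInv.Gen5
import Cfsg.Agent.Lib.ChevInv.Main

/-!
# Long root elements are not conjugate to short root elements; the final form
-/

set_option autoImplicit false
set_option linter.unusedSectionVars false
set_option linter.unusedVariables false
set_option linter.unnecessarySimpa false

namespace Cfsg.Agent.Lib.ChevInv

open Cfsg Cfsg.Lie Matrix Cfsg.Agent.Lib.Chev Cfsg.Agent.Lib.Chev.Full Cfsg.Agent.Lib.Chev.Tri
open Cfsg.Agent.Lib.ChevAut.LongRoot Cfsg.Agent.Lib.ChevAut.RootCent Cfsg.Agent.Lib.ChevAut.ParabFit Equiv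

variable {T : Tabs} {X : Extra} {R : RootTab} {D : ChevalleyDatum} (hF : Full T X R D)
variable {F : Type*} [Field F]

section part

include hF

/-- A conjugate under the Borel subgroup of a root element which is a root element has at least the height. -/
theorem borel_conj_phi {b : GL D.Idx F} (hb : b ∈ D.borelSubgroup F) {r r' : ℕ} (hr : r < D.nroots) (hr' : r' < D.nroots)
    (hpos : R.N ≤ r) {η t : F} (hη : η ≠ 0) (h : hF.c.xG r' η = b * hF.c.xG r t * b⁻¹) :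
    R.lin D.rank hF.phiW r ≤ R.lin D.rank hF.phiW r' := by
  by_contra hcon
  obtain ⟨ℓ, d, M, hd, hℓ⟩ := Full.exists_lev R D hF.phiW
  have hlin := hF.phi_pos hr hpos
  obtain ⟨k, hk⟩ : ∃ k : ℕ, (k : ℤ) = R.lin D.rank hF.phiW r := ⟨(R.lin D.rank hF.phiW r).toNat, by omega⟩
  have h1 : D.x F r t - 1 ∈ J ℓ k := x_sub_one_mem hF hℓ hr hpos t (by omega)
  have hb1 : (b : Matrix D.Idx D.Idx F) ∈ J ℓ 0 := borel_le_Tri' hF hℓ hb
  have hb2 : ((b⁻¹ : GL D.Idx F) : Matrix D.Idx D.Idx F) ∈ J ℓ 0 :=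
    (borel_le_Tri' hF hℓ (Subgroup.inv_mem _ hb))
  have h2 : (b : Matrix D.Idx D.Idx F) * (D.x F r t - 1) * ((b⁻¹ : GL D.Idx F) : Matrix D.Idx D.Idx F) ∈ J ℓ (0 + k + 0) :=
    J_mul (J_mul hb1 h1) hb2
  have h3 : (b : Matrix D.Idx D.Idx F) * (D.x F r t - 1) * ((b⁻¹ : GL D.Idx F) : Matrix D.Idx D.Idx F) =
      D.x F r' η - 1 := by
    have h4 := congrArg (fun g : GL D.Idx F => (g : Matrix D.Idx D.Idx F)) h
    simp only [Checks.coe_xG, Units.val_mul] at h4
    rw [h4, mul_sub, sub_mul, mul_one]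
    congr 1
    show (b : Matrix D.Idx D.Idx F) * ((b⁻¹ : GL D.Idx F) : Matrix D.Idx D.Idx F) = 1
    rw [← Units.val_mul, mul_inv_cancel, Units.val_one]
  rw [h3] at h2
  apply hη
  apply eq_zero_of_coroot hF hr'
  intro i
  have h5 := h2 (Sum.inl i) (Sum.inr ⟨D.neg r', hF.neg_lt hr'⟩) (by
    have := lev_neg hF hℓ hr' i
    omega)
  rw [Matrix.sub_apply, Matrix.one_apply_ne (by simp), sub_zero, hF.x_entry_coroot hr'] at h5
  exact h5

/-- The image of a root under the action of a monomial element stays in a class of roots stable under reflections. -/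
theorem rho_mem_of_stable {L : ℕ → Prop} (hL : ∀ i < D.rank, ∀ r < D.nroots, L r → L (X.wf i r))
    (n : ↥(D.monomialSubgroup F)) {r : ℕ} (hr : r < D.nroots) (h0 : L r) : L (hF.rhoN F n ⟨r, hr⟩ : Fin D.nroots) := by
  have h1 := hF.rhoN_mem_Wk n
  have h2 : ∀ ρ ∈ hF.Wk Set.univ, ∀ s : Fin D.nroots, (L s ↔ L (ρ s : Fin D.nroots)) := by
    intro ρ hρ
    induction hρ using Subgroup.closure_induction with
    | mem σ hσ =>
      obtain ⟨j, hj, -, rfl⟩ := hσ
      intro s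
      constructor
      · intro h
        exact hL j hj s s.2 h
      · intro h
        have h3 := hL j hj _ (hF.wPerm hj s).2 h
        have h4 : X.wf j ((hF.wPerm hj s : Fin D.nroots) : ℕ) = s := hF.wf_wf hj s.2
        rwa [h4] at h3
    | one =>
      intro s
      rfl
    | mul a b _ _ iha ihb =>
      intro s
      rw [Perm.mul_apply]
      exact (ihb s).trans (iha _)
    | inv a _ iha =>
      intro s
      have h3 := iha (a⁻¹ s)
      have h4 : a (a⁻¹ s) = s := by simp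
      rw [h4] at h3
      exact h3.symm
  exact (h2 _ h1 ⟨r, hr⟩).1 h0

/-- The highest root element is not conjugate to a short one. -/
theorem no_conj_top {L : ℕ → Prop} (hL : ∀ i < D.rank, ∀ r < D.nroots, L r → L (X.wf i r)) {top s : ℕ} (htop : top < D.nroots)
    (hmax : ∀ s < D.nroots, s ≤ top) (hpos : R.N ≤ top) (hs : s < D.nroots) (hsN : R.N ≤ s) (hLt : L top) (hLs : ¬ L s)
    {g : GL D.Idx F} (hg : g ∈ D.group F) {a : F} (ha : a ≠ 0) (he : g * hF.c.xG top 1 * g⁻¹ = hF.c.xG s a) : False := by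
  obtain ⟨n, hn, hg'⟩ := Cfsg.Agent.Lib.BNPair.exists_mem_dc (P := hF.bnPair F) (⟨g, hg⟩ : ↥(D.group F))
  obtain ⟨b, hb, b', hb', e⟩ := Cfsg.Agent.Lib.BNPair.mem_dc.1 hg'
  have hb1 : b.1 ∈ D.borelSubgroup F := Subgroup.mem_subgroupOf.1 hb
  have hb2 : b'.1 ∈ D.borelSubgroup F := Subgroup.mem_subgroupOf.1 hb'
  have hn1 : n.1 ∈ D.monomialSubgroup F := Subgroup.mem_subgroupOf.1 hn
  have e' : g = b.1 * n.1 * b'.1 := congrArg Subtype.val e
  have hnorm := borel_le_normalizer_top (F := F) hF htop hmax hpos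
  have htX : hF.c.xG top (1 : F) ∈ D.rootSubgroup F top := hF.c.xG_mem_rootSubgroup _ _
  obtain ⟨c, hc⟩ := hF.c.mem_rootSubgroup_iff.1 ((Subgroup.mem_set_normalizer_iff.1 (hnorm hb2) _).1 htX)
  have hc0 : c ≠ 0 := by
    rintro rfl
    have h1 : b'.1 * hF.c.xG top (1 : F) * b'.1⁻¹ = 1 := by rw [hc]; simp
    have h2 : hF.c.xG top (1 : F) = 1 := by
      have h3 : hF.c.xG top (1 : F) = b'.1⁻¹ * (b'.1 * hF.c.xG top (1 : F) * b'.1⁻¹) * b'.1 := by group
      rw [h3, h1]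
      group
    exact Cfsg.Agent.Lib.ChevAut.xG_ne_one hF htop (one_ne_zero (α := F)) h2
  set nn : ↥(D.monomialSubgroup F) := ⟨n.1, hn1⟩ with hnn
  obtain ⟨u, hu⟩ := hF.rhoN_spec_apply nn ⟨top, htop⟩
  set r' : Fin D.nroots := hF.rhoN F nn ⟨top, htop⟩ with hr'
  have hLr : L r' := rho_mem_of_stable hF hL nn htop hLt
  have hu1 : hF.c.xG r' ((u : F) * c) = b.1⁻¹ * hF.c.xG s a * (b.1⁻¹)⁻¹ := by
    rw [← hu, ← hc, ← he, e']
    show n.1 * (b'.1 * hF.c.xG top 1 * b'.1⁻¹) * n.1⁻¹ = _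
    group
  have hd0 : (u : F) * c ≠ 0 := mul_ne_zero (Units.ne_zero u) hc0
  have hphi := borel_conj_phi hF (Subgroup.inv_mem _ hb1) hs r'.2 hsN hd0 hu1
  have hr's : s ≤ r' := by
    by_contra hlt
    have := (hF.phi_lt_iff r'.2 hs).2 (by omega : (r' : ℕ) < s)
    omega
  have hne : (r' : ℕ) ≠ s := by
    intro h
    rw [← h] at hLs
    exact hLs hLr
  have hlt : s < r' := by omega
  -- the coordinate at `s`
  obtain ⟨v, hv, h, hh, hvh⟩ := (hF.mem_borel_iff).1 (Subgroup.inv_mem _ hb1)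
  obtain ⟨c0, rfl⟩ := (hF.mem_diagonal_iff).1 hh
  rw [hvh] at hu1
  have h5 : hF.c.xG r' ((u : F) * c) = v * hF.c.xG s (((chiT D c0 s : Fˣ) : F) * a) * v⁻¹ := by
    rw [hu1, ← hF.tor_conj_xG c0 hs a]
    group
  set χ : F := ((chiT D c0 s : Fˣ) : F) * a with hχ
  have hχ0 : χ ≠ 0 := mul_ne_zero (Units.ne_zero _) ha
  have h6 := hF.comm_xG_mem_Uk hsN hs hv χ
  rw [← h5] at h6
  have h7 : hF.c.xG r' ((u : F) * c) ∈ Uk D F (s + 1) := hF.xG_mem_rootClosure ⟨by omega, r'.2⟩ _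
  have h8 : (hF.c.xG s χ)⁻¹ ∈ Uk D F (s + 1) := by
    have h9 := Subgroup.mul_mem _ (Subgroup.inv_mem _ h7) h6
    simpa [mul_assoc] using h9
  rw [hF.c.xG_inv] at h8
  have h10 := hF.xG_not_mem hsN hs h8
  exact hχ0 (by simpa using h10)

/-- The final form from a finite list of representatives. -/
theorem final_gen [Fintype F] [CharP F 2] {RR : List (List ℕ × ℕ)}
    (hcl : ∀ t ∈ D.group F, t * t = 1 → ∃ h ∈ D.group F, ∃ N, (N = [] ∨ N ∈ RR.map Prod.fst) ∧ h * t * h⁻¹ = xL hF F N)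
    (hlt : ∀ p ∈ RR, ∀ r ∈ p.1, r < D.nroots) (hsq : ∀ p ∈ RR, xL hF F p.1 * xL hF F p.1 = 1)
    (hne : ∀ p ∈ RR, xL hF F p.1 ≠ (1 : GL D.Idx F))
    (hnc : ∀ p ∈ RR, ∀ q ∈ RR, ∀ h ∈ D.group F, h * xL hF F p.1 * h⁻¹ = xL hF F q.1 → p = q) : FinalShape hF F RR := by
  unfold FinalShape
  have hmem : ∀ (y : GL D.Idx F), (y : Matrix D.Idx D.Idx F) ∈ RR.map (fun p => ((xL hF F p.1 : GL D.Idx F) : Matrix D.Idx D.Idx F)) →
      ∃ p ∈ RR, y = xL hF F p.1 := by
    intro y hy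
    obtain ⟨p, hp, h⟩ := List.mem_map.1 hy
    exact ⟨p, hp, Units.ext h.symm⟩
  refine ⟨?_, ?_, ?_⟩
  · intro y hy
    obtain ⟨p, hp, rfl⟩ := hmem y hy
    refine ⟨xL_mem_group hF (hlt p hp), ?_⟩
    exact orderOf_eq_prime (by rw [pow_two]; exact hsq p hp) (hne p hp)
  · intro g hg hord
    have hgg : g * g = 1 := by
      rw [← pow_two, ← hord]
      exact pow_orderOf_eq_one g
    obtain ⟨h, hh, N, hN, hE⟩ := hcl g hg hgg
    rcases hN with rfl | hN
    · exfalso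
      have h1 : g = 1 := by
        have h2 : h * g * h⁻¹ = 1 := hE
        have h3 : g = h⁻¹ * (h * g * h⁻¹) * h := by group
        rw [h3, h2]
        group
      rw [h1, orderOf_one] at hord
      omega
    · obtain ⟨p, hp, rfl⟩ := List.mem_map.1 hN
      refine ⟨xL hF F p.1, xL_mem_group hF (hlt p hp), List.mem_map.2 ⟨p, hp, rfl⟩, h, hh, hE⟩
  · intro y₁ _ y₂ _ h1 h2 ⟨h, hh, hE⟩
    obtain ⟨p, hp, rfl⟩ := hmem y₁ h1
    obtain ⟨q, hq, rfl⟩ := hmem y₂ h2
    rw [hnc p hp q hq h hh hE]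

/-- Commuting words square to one. -/
theorem xL_sq_of_commB [CharP F 2] {P : List ℕ} (hP : commB D P = true) : xL hF F P * xL hF F P = 1 := by
  induction P with
  | nil => simp [xL_nil hF]
  | cons a P ih =>
    have h0 : commB D P = true := by
      unfold commB at hP ⊢
      apply List.all_eq_true.2
      intro x hx
      have h1 := List.all_eq_true.1 hP x (List.mem_cons_of_mem _ hx)
      obtain ⟨h2, h3⟩ := band_split' h1
      refine Bool.and_eq_true _ _ ▸ ⟨h2, ?_⟩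
      apply List.all_eq_true.2
      intro y hy
      exact List.all_eq_true.1 h3 y (List.mem_cons_of_mem _ hy)
    have h1 := ih h0
    have hcm : hF.c.xG a (1 : F) * xL hF F P = xL hF F P * hF.c.xG a (1 : F) := by
      rw [xL]
      apply wordG_commute hF
      intro p hp
      obtain ⟨r, hr, rfl⟩ := List.mem_map.1 hp
      exact commute_of_commB hF hP List.mem_cons_self (List.mem_cons_of_mem _ hr) _ _
    have hzz : hF.c.xG a (1 : F) * hF.c.xG a (1 : F) = 1 := by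
      rw [hF.c.xG_add, CharTwo.add_self_eq_zero, hF.c.xG_zero]
    rw [xL_cons hF]
    calc hF.c.xG a (1 : F) * xL hF F P * (hF.c.xG a (1 : F) * xL hF F P)
        = hF.c.xG a (1 : F) * (xL hF F P * hF.c.xG a (1 : F)) * xL hF F P := by group
      _ = hF.c.xG a (1 : F) * (hF.c.xG a (1 : F) * xL hF F P) * xL hF F P := by rw [hcm]
      _ = (hF.c.xG a (1 : F) * hF.c.xG a (1 : F)) * (xL hF F P * xL hF F P) := by group
      _ = 1 := by rw [hzz, h1, one_mul]

end part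

end Cfsg.Agent.Lib.ChevInv
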