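import Mathlib
import Cfsg.Agent.Lib.ChevInv.Gen6

/-!
# Centralisers of involutions: gradings by arbitrary functionals on the roots
-/

set_option autoImplicit false
set_option linter.unusedSectionVars false
set_option linter.unusedVariables false
set_option linter.unnecessarySimpa false

namespace Cfsg.Agent.Lib.ChevInv.CentG

open Cfsg Cfsg.Lie Matrix Cfsg.Agent.Lib.Chev Cfsg.Agent.Lib.Chev.Full Cfsg.Agent.Lib.Chev.Tri
open Cfsg.Agent.Lib.ChevAut.LongRoot Cfsg.Agent.Lib.ChevAut.RootCent Cfsg.Agent.Lib.ChevAut.ParabFit Equiv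
open Cfsg.Agent.Lib.ChevInv

/-- Elements of a closure acting trivially on a coset. -/
theorem closure_coset {G : Type*} [Group G] {S : Set G} {K : Subgroup G} {x : G}
    (hn : ∀ g ∈ Subgroup.closure S, g ∈ Subgroup.normalizer (K : Set G))
    (hgen : ∀ g ∈ S, ∃ w ∈ K, g * x * g⁻¹ = x * w) :
    ∀ y ∈ Subgroup.closure S, ∃ w ∈ K, y * x * y⁻¹ = x * w := by
  intro y hy
  induction hy using Subgroup.closure_induction with
  | mem g hg => exact hgen g hg
  | one => exact ⟨1, K.one_mem, by simp⟩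
  | mul a b ha hb iha ihb =>
    obtain ⟨w₁, hw₁, h₁⟩ := iha
    obtain ⟨w₂, hw₂, h₂⟩ := ihb
    have h3 := (Subgroup.mem_set_normalizer_iff.1 (hn a ha) w₂).1 hw₂
    refine ⟨w₁ * (a * w₂ * a⁻¹), K.mul_mem hw₁ h3, ?_⟩
    calc a * b * x * (a * b)⁻¹ = a * (b * x * b⁻¹) * a⁻¹ := by group
      _ = (a * x * a⁻¹) * (a * w₂ * a⁻¹) := by rw [h₂]; group
      _ = _ := by rw [h₁]; group
  | inv a ha iha =>
    obtain ⟨w, hw, h⟩ := iha
    have h3 := (Subgroup.mem_set_normalizer_iff.1 (Subgroup.inv_mem _ (hn a ha)) w).1 hw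
    refine ⟨(a⁻¹ * w * a⁻¹⁻¹)⁻¹, K.inv_mem h3, ?_⟩
    have e : x = (a⁻¹ * x * a) * (a⁻¹ * w * a) := by
      calc x = a⁻¹ * (a * x * a⁻¹) * a := by group
        _ = a⁻¹ * (x * w) * a := by rw [h]
        _ = _ := by group
    simp only [inv_inv]
    rw [eq_mul_inv_iff_mul_eq]
    exact e.symm

variable {T : Tabs} {X : Extra} {R : RootTab} {D : ChevalleyDatum} (hF : Full T X R D)
variable {F : Type*} [Field F]

section part

include hF

theorem lin_wf' (a : ℕ → ℤ) {j r : ℕ} (hj : j < D.rank) (hr : r < D.nroots) :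
    R.lin D.rank a (X.wf j r) = R.lin D.rank a r - D.cartan j r * a j := by
  unfold RootTab.lin
  have h1 : ∀ i ∈ Finset.range D.rank, a i * R.rcAt (X.wf j r) i =
      a i * R.rcAt r i - (if i = j then D.cartan j r * a j else 0) := by
    intro i hi
    rw [hF.wf_rc hj hr (Finset.mem_range.1 hi)]
    by_cases hij : i = j
    · subst hij
      simp only [if_true]
      ring
    · simp only [hij, if_false]
      ring
  rw [Finset.sum_congr rfl h1, Finset.sum_sub_distrib]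
  congr 1
  rw [Finset.sum_ite_eq' (Finset.range D.rank) j, if_pos (Finset.mem_range.2 hj)]

theorem cartan_self {j : ℕ} (hj : j < D.rank) : D.cartan j (D.simple j) = 2 := by
  have h1 := hF.wf_rc hj (hF.simple_lt hj) hj
  rw [hF.wf_simple hj, hF.rc_neg (hF.simple_lt hj) hj, hF.simple_rc hj hj, if_pos rfl, if_pos rfl] at h1
  omega

/-- The functional transported along a reflection. -/
theorem lin_reflect (a : ℕ → ℤ) {j : ℕ} (hj : j < D.rank) :
    ∃ a' : ℕ → ℤ, ∀ r < D.nroots, R.lin D.rank a' (X.wf j r) = R.lin D.rank a r := by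
  refine ⟨fun i => a i - D.cartan j (D.simple i) * a j, ?_⟩
  intro r hr
  rw [lin_wf' hF _ hj hr, cartan_self hF hj]
  have h2 : R.lin D.rank (fun i => a i - D.cartan j (D.simple i) * a j) r =
      R.lin D.rank a r - a j * D.cartan j r := by
    rw [hF.r.cartan_lin j hj r hr, sumZ_eq]
    unfold RootTab.lin
    rw [Finset.mul_sum, ← Finset.sum_sub_distrib]
    apply Finset.sum_congr rfl
    intro i _
    ring
  rw [h2]
  ring

/-- Transporting a functional along an element of the Weyl group. -/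
theorem exists_lin_transport {σ : Perm (Fin D.nroots)} (hσ : σ ∈ hF.Wk Set.univ) (b : ℕ → ℤ) :
    ∃ a : ℕ → ℤ, ∀ s : Fin D.nroots, R.lin D.rank a ((σ s : Fin D.nroots) : ℕ) = R.lin D.rank b s := by
  refine hF.Wk_induction_left (J := Set.univ) (p := fun σ => ∃ a : ℕ → ℤ, ∀ s : Fin D.nroots,
    R.lin D.rank a ((σ s : Fin D.nroots) : ℕ) = R.lin D.rank b s) ?_ ?_ σ hσ
  · exact ⟨b, fun s => rfl⟩
  · rintro σ j hj - ⟨a, ha⟩
    obtain ⟨a', ha'⟩ := lin_reflect hF a hj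
    refine ⟨a', fun s => ?_⟩
    rw [Perm.mul_apply, hF.wPerm_apply]
    rw [ha' _ (σ s).2, ha]

section Grad

variable {a : ℕ → ℤ} {ℓ : D.Idx → ℕ} {d : ℕ} {M : ℤ} (hd : ∀ b, ℓ b < d) (hℓ : ∀ b, (ℓ b : ℤ) = gr R D a b + M)

include hℓ

theorem x_sub_mem {s : ℕ} (hs : s < D.nroots) (h0 : 0 < R.lin D.rank a s) (t : F) {m : ℕ}
    (hm : (m : ℤ) ≤ R.lin D.rank a s) : D.x F s t - 1 ∈ J ℓ m := by
  intro i j hij
  by_cases hne : i = j
  · subst hne
    simp [Matrix.sub_apply, hF.x_entry_self hs t i]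
  · rw [Matrix.sub_apply, Matrix.one_apply_ne hne, sub_zero]
    by_contra h0'
    obtain ⟨c, hc, h1⟩ := hF.x_entry_ne hs hne h0'
    have h2 := hF.gr_add a h1
    have h5 : (1 : ℤ) ≤ c := by exact_mod_cast hc
    have h6 : R.lin D.rank a s ≤ (c : ℤ) * R.lin D.rank a s := by nlinarith
    have h7 := hℓ i
    have h8 := hℓ j
    omega

theorem x_mem_J0 {s : ℕ} (hs : s < D.nroots) (h0 : 0 < R.lin D.rank a s) (t : F) : D.x F s t ∈ J ℓ 0 := by
  have h1 : D.x F s t - 1 ∈ J ℓ 0 := x_sub_mem hF hℓ hs h0 t (by simpa using h0.le)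
  have h2 := J_add h1 (J_one_mem_zero (ℓ := ℓ) (F := F))
  simpa using h2

theorem lev_neg' {r : ℕ} (hr : r < D.nroots) (i : Fin D.rank) :
    (ℓ (Sum.inl i) : ℤ) = ℓ (Sum.inr ⟨D.neg r, hF.neg_lt hr⟩) + R.lin D.rank a r := by
  have h7 := hℓ (Sum.inl i)
  have h8 := hℓ (Sum.inr ⟨D.neg r, hF.neg_lt hr⟩)
  rw [gr_inl] at h7
  rw [gr_inr] at h8
  have h9 : R.lin D.rank a (D.neg r) = - R.lin D.rank a r := hF.lin_neg _ hr
  simp only at h8
  rw [h9] at h8
  omega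

include hd in
/-- A root closure with large levels lies in a unitriangular group. -/
theorem closure_le_UT {Q : ℕ → Prop} {k : ℕ} (hQ : ∀ s, Q s → s < D.nroots ∧ ((k : ℤ) + 1) ≤ R.lin D.rank a s) :
    rootClosure D F Q ≤ UT (F := F) ℓ k d hd := by
  unfold rootClosure
  rw [Subgroup.closure_le]
  rintro g ⟨s, t, hs, hg⟩
  rw [SetLike.mem_coe, mem_UT, hg]
  obtain ⟨h1, h2⟩ := hQ s hs
  exact x_sub_mem hF hℓ h1 (by omega) t (by push_cast; omega)

include hd in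
/-- Vanishing of the entry at the coroot row. -/
theorem entry_zero {m : GL D.Idx F} {k : ℕ} (hm : m ∈ UT (F := F) ℓ k d hd) {r : ℕ} (hr : r < D.nroots)
    (hlt : R.lin D.rank a r < (k : ℤ) + 1) (i : Fin D.rank) :
    (m : Matrix D.Idx D.Idx F) (Sum.inl i) (Sum.inr ⟨D.neg r, hF.neg_lt hr⟩) = 0 := by
  have h1 := mem_UT.1 hm
  have h2 := h1 (Sum.inl i) (Sum.inr ⟨D.neg r, hF.neg_lt hr⟩) (by
    have := lev_neg' hF hℓ hr i
    omega)
  rw [Matrix.sub_apply, Matrix.one_apply_ne (by simp), sub_zero] at h2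
  exact h2

include hd in
/-- Nonvanishing of an entry at the coroot row. -/
theorem entry_ne {r : ℕ} (hr : r < D.nroots) (h0 : 0 < R.lin D.rank a r) {α : F} (hα : α ≠ 0) {k : ℕ}
    (hlt : R.lin D.rank a r < (k : ℤ) + 1) {m : GL D.Idx F} (hm : m ∈ UT (F := F) ℓ k d hd) :
    ∃ i : Fin D.rank, ((hF.c.xG r α * m : GL D.Idx F) : Matrix D.Idx D.Idx F) (Sum.inl i)
      (Sum.inr ⟨D.neg r, hF.neg_lt hr⟩) ≠ 0 := by
  by_contra hcon
  push Not at hcon
  apply hα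
  apply eq_zero_of_coroot hF hr
  intro i
  have h1 := hcon i
  have h2 : ((hF.c.xG r α * m : GL D.Idx F) : Matrix D.Idx D.Idx F) =
      D.x F r α + D.x F r α * ((m : Matrix D.Idx D.Idx F) - 1) := by
    rw [Units.val_mul, Checks.coe_xG, mul_sub, mul_one]
    abel
  rw [h2, Matrix.add_apply] at h1
  have h3 : D.x F r α * ((m : Matrix D.Idx D.Idx F) - 1) ∈ J ℓ (0 + (k + 1)) :=
    J_mul (x_mem_J0 hF hℓ hr h0 α) (mem_UT.1 hm)
  have h4 := h3 (Sum.inl i) (Sum.inr ⟨D.neg r, hF.neg_lt hr⟩) (by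
    have := lev_neg' hF hℓ hr i
    omega)
  rw [h4, add_zero, hF.x_entry_coroot hr] at h1
  exact h1

end Grad

/-- The conjugate under a monomial element of a root element times an element of a closure of
roots of larger level cannot lie in the closure of a set with larger levels than its root. -/
theorem level_main {A : List ℕ} {r₀ : ℕ} (hr₀ : r₀ < D.nroots) (hAn : ∀ s ∈ A, s < D.nroots)
    (nn : ↥(D.monomialSubgroup F)) {c : F} (hc : c ≠ 0) {w : GL D.Idx F}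
    (hw : w ∈ rootClosure D F (fun s => s ∈ A ∧ s ≠ r₀))
    (hy : nn.1 * (hF.c.xG r₀ c * w) * nn.1⁻¹ ∈ rootClosure D F (fun s => s ∈ A))
    {f : ℕ → ℤ} {k : ℕ} (hf : ∀ s ∈ A, (k : ℤ) + 1 ≤ R.lin D.rank f s)
    {b : ℕ → ℤ} (hb0 : 0 < R.lin D.rank b r₀) (hb : ∀ s ∈ A, s ≠ r₀ → R.lin D.rank b r₀ < R.lin D.rank b s) :
    (k : ℤ) + 1 ≤ R.lin D.rank f (hF.rhoN F nn ⟨r₀, hr₀⟩ : Fin D.nroots) := by
  by_contra hcon
  push Not at hcon
  set ρ := hF.rhoN F nn with hρ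
  obtain ⟨a, ha⟩ := exists_lin_transport hF (hF.rhoN_mem_Wk nn) b
  obtain ⟨ℓ, d, M, hd, hℓ⟩ := Full.exists_lev R D a
  obtain ⟨ℓf, df, Mf, hdf, hℓf⟩ := Full.exists_lev R D f
  set r' : Fin D.nroots := ρ ⟨r₀, hr₀⟩ with hr'
  have ha0 : R.lin D.rank a r' = R.lin D.rank b r₀ := ha ⟨r₀, hr₀⟩
  obtain ⟨kb, hkb⟩ : ∃ kb : ℕ, (kb : ℤ) = R.lin D.rank b r₀ := ⟨(R.lin D.rank b r₀).toNat, by omega⟩
  -- the conjugate of `w`
  have hw' : nn.1 * w * nn.1⁻¹ ∈ UT (F := F) ℓ kb d hd := by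
    have hle : rootClosure D F (fun s => s ∈ A ∧ s ≠ r₀) ≤
        (UT (F := F) ℓ kb d hd).comap (MulAut.conj nn.1).toMonoidHom := by
      unfold rootClosure
      rw [Subgroup.closure_le]
      rintro g ⟨s, t, ⟨hs, hsr⟩, hg⟩
      rw [SetLike.mem_coe, Subgroup.mem_comap, hF.c.eq_xG hg]
      show nn.1 * hF.c.xG s t * nn.1⁻¹ ∈ _
      obtain ⟨u, hu⟩ := hF.rhoN_spec_apply nn ⟨s, hAn s hs⟩
      rw [hu t]
      have h1 : R.lin D.rank a ((ρ ⟨s, hAn s hs⟩ : Fin D.nroots) : ℕ) = R.lin D.rank b s := ha ⟨s, hAn s hs⟩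
      have h2 := hb s hs hsr
      rw [mem_UT, Checks.coe_xG]
      apply x_sub_mem hF hℓ (ρ ⟨s, hAn s hs⟩).2
      · show 0 < R.lin D.rank a ((ρ ⟨s, hAn s hs⟩ : Fin D.nroots) : ℕ)
        rw [h1]
        omega
      · show ((kb + 1 : ℕ) : ℤ) ≤ R.lin D.rank a ((ρ ⟨s, hAn s hs⟩ : Fin D.nroots) : ℕ)
        rw [h1]
        push_cast
        omega
    exact hle hw
  obtain ⟨u, hu⟩ := hF.rhoN_spec_apply nn ⟨r₀, hr₀⟩
  have he : nn.1 * (hF.c.xG r₀ c * w) * nn.1⁻¹ = hF.c.xG r' ((u : F) * c) * (nn.1 * w * nn.1⁻¹) := by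
    rw [← hu c]
    group
  obtain ⟨i, hi⟩ := entry_ne hF hd hℓ r'.2 (by rw [ha0]; exact hb0) (mul_ne_zero (Units.ne_zero u) hc)
    (k := kb) (by rw [ha0]; omega) hw'
  rw [← he] at hi
  apply hi
  have h2 : rootClosure D F (fun s => s ∈ A) ≤ UT (F := F) ℓf k df hdf :=
    closure_le_UT hF hdf hℓf (fun s hs => ⟨hAn s hs, hf s hs⟩)
  exact entry_zero hF hdf hℓf (h2 hy) r'.2 hcon i

end part

end Cfsg.Agent.Lib.ChevInv.CentG
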