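import Mathlib
import Cfsg.Agent.Lib.ChevInv.CentG3
import Cfsg.Agent.Lib.Chev.RelF4
import Cfsg.Agent.Lib.Chev.RootF4

/-!
# Tables for centralisers of involutions in type F4
-/

set_option autoImplicit false
set_option maxRecDepth 100000

namespace Cfsg.Agent.Lib.ChevInv.CentG.TabF4a

open Cfsg Cfsg.Lie Matrix Cfsg.Agent.Lib.Chev Cfsg.Agent.Lib.ChevInv Cfsg.Agent.Lib.ChevInv.CentG
open Cfsg.Agent.Lib.Chev.TabF4 Cfsg.Agent.Lib.Chev.RootF4T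

theorem hF : Full T X R chevF4 := ⟨RelF4.checks, RootF4.checks⟩

def Va : List ℕ := [47, 44]
def Aa : List ℕ := [44, 47]
def Ja : List ℕ := [1, 2]
def KLa : List (ℕ × ℕ × ℕ) := []
def Fna : List (List ℤ × ℕ) := [([1, 1, 0, 0], 4), ([1, (-1), 0, 2], 0)]
def Bna : List (ℕ × List ℤ) := [(47, [2, 0, (-1), 0]), (44, [0, 0, 0, 1])]
def duala : List (ℕ × List (ℕ × ℤ)) := [(0, [(44, 1)]), (3, [(47, 1)])]
def OmBa : List (List (List ℕ × List ℕ)) := [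
  [],
  [],
  [],
  [([32, 14], [3, 37, 24, 25]), ([32, 13], [3, 35, 24, 30]), ([32, 14], [3, 38, 23, 26]), ([31, 14], [3, 37, 26, 22]), ([32, 13], [3, 36, 23, 31]), ([31, 12], [3, 34, 26, 30]), ([31, 14], [3, 39, 21, 24]), ([26, 13], [3, 35, 31, 17]), ([30, 14], [3, 38, 25, 21]), ([31, 12], [3, 36, 21, 32]), ([26, 10], [3, 33, 31, 25]), ([30, 11], [3, 34, 25, 31]), ([26, 13], [3, 40, 16, 24]), ([30, 14], [3, 39, 22, 23]), ([24, 12], [3, 34, 32, 17]), ([25, 13], [3, 36, 30, 16]), ([26, 10], [3, 38, 16, 32]), ([30, 11], [3, 35, 22, 32]), ([24, 10], [3, 33, 32, 22]), ([25, 9], [3, 33, 30, 26]), ([24, 12], [3, 40, 15, 26]), ([25, 13], [3, 40, 17, 23]), ([23, 11], [3, 34, 32, 16]), ([22, 12], [3, 36, 30, 15]), ([24, 10], [3, 39, 15, 31]), ([25, 9], [3, 37, 17, 32]), ([23, 9], [3, 33, 32, 21]), ([22, 8], [3, 33, 30, 24]), ([23, 11], [3, 40, 15, 25]), ([22, 12],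 [3, 40, 17, 21]), ([21, 11], [3, 35, 31, 15]), ([17, 10], [3, 38, 25, 15]), ([23, 9], [3, 39, 15, 30]), ([22, 8], [3, 37, 17, 31]), ([21, 8], [3, 33, 31, 23]), ([17, 7], [3, 34, 25, 24]), ([21, 11], [3, 40, 16, 22]), ([17, 10], [3, 39, 22, 16]), ([16, 9], [3, 37, 26, 15]), ([21, 8], [3, 38, 16, 30]), ([17, 7], [3, 35, 22, 26]), ([16, 7], [3, 34, 26, 23]), ([16, 9], [3, 39, 21, 17]), ([15, 8], [3, 37, 24, 16]), ([16, 7], [3, 36, 21, 25]), ([15, 7], [3, 35, 24, 21]), ([15, 8], [3, 38, 23, 17]), ([15, 7], [3, 36, 23, 22])],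
  [],
  [],
  [],
  [([43, 33], [7, 37, 24, 25]), ([43, 20], [7, 28, 24, 41]), ([43, 33], [7, 38, 23, 26]), ([42, 33], [7, 37, 26, 22]), ([43, 20], [7, 29, 23, 42]), ([42, 19], [7, 27, 26, 41]), ([42, 33], [7, 39, 21, 24]), ([41, 33], [7, 38, 25, 21]), ([26, 20], [7, 28, 42, 6]), ([42, 19], [7, 29, 21, 43]), ([41, 18], [7, 27, 25, 42]), ([41, 33], [7, 39, 22, 23]), ([24, 19], [7, 27, 43, 6]), ([25, 20], [7, 29, 41, 5]), ([26, 20], [7, 44, 5, 24]), ([41, 18], [7, 28, 22, 43]), ([23, 18], [7, 27, 43, 5]), ([22, 19], [7, 29, 41, 4]), ([24, 19], [7, 44, 4, 26]), ([25, 20], [7, 44, 6, 23]), ([26, 10], [7, 14, 42, 25]), ([21, 18], [7, 28, 42, 4]), ([23, 18], [7, 44, 4, 25]), ([22, 19], [7, 44, 6, 21]), ([24, 10], [7, 14, 43, 22]), ([25, 9], [7, 14, 41, 26]), ([26, 10], [7, 38, 5, 43]), ([21, 18], [7, 44, 5, 22]), ([23, 9], [7, 14, 43, 21]), ([22, 8], [7, 14,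 41, 24]), ([24, 10], [7, 39, 4, 42]), ([25, 9], [7, 37, 6, 43]), ([6, 10], [7, 38, 25, 4]), ([21, 8], [7, 14, 42, 23]), ([23, 9], [7, 39, 4, 41]), ([22, 8], [7, 37, 6, 42]), ([6, 3], [7, 27, 25, 24]), ([6, 10], [7, 39, 22, 5]), ([5, 9], [7, 37, 26, 4]), ([21, 8], [7, 38, 5, 41]), ([6, 3], [7, 28, 22, 26]), ([5, 3], [7, 27, 26, 23]), ([5, 9], [7, 39, 21, 6]), ([4, 8], [7, 37, 24, 5]), ([5, 3], [7, 29, 21, 25]), ([4, 3], [7, 28, 24, 21]), ([4, 8], [7, 38, 23, 6]), ([4, 3], [7, 29, 23, 22])],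
  [([45, 34], [8, 35, 24, 30]), ([45, 27], [8, 28, 24, 41]), ([45, 34], [8, 36, 23, 31]), ([42, 34], [8, 35, 31, 17]), ([45, 27], [8, 29, 23, 42]), ([31, 27], [8, 28, 42, 6]), ([41, 34], [8, 36, 30, 16]), ([42, 34], [8, 40, 16, 24]), ([30, 27], [8, 29, 41, 5]), ([31, 27], [8, 44, 5, 24]), ([41, 34], [8, 40, 17, 23]), ([42, 19], [8, 20, 31, 41]), ([30, 27], [8, 44, 6, 23]), ([31, 12], [8, 13, 42, 30]), ([41, 18], [8, 20, 30, 42]), ([24, 19], [8, 20, 45, 6]), ([42, 19], [8, 29, 16, 45]), ([30, 11], [8, 13, 41, 31]), ([24, 12], [8, 13, 45, 17]), ([23, 18], [8, 20, 45, 5]), ([31, 12], [8, 36, 5, 45]), ([41, 18], [8, 28, 17, 45]), ([17, 19], [8, 29, 41, 2]), ([24, 19], [8, 44, 2, 31]), ([23, 11], [8, 13, 45, 16]), ([30, 11], [8, 35, 6, 45]), ([16, 18], [8, 28, 42, 2]), ([6, 12], [8, 36, 30, 2]), ([24, 12], [8, 40, 2, 42]), ([23, 18], [8, 44, 2, 30]), ([17, 19],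 [8, 44, 6, 16]), ([5, 11], [8, 35, 31, 2]), ([23, 11], [8, 40, 2, 41]), ([16, 18], [8, 44, 5, 17]), ([6, 12], [8, 40, 17, 5]), ([17, 7], [8, 13, 41, 24]), ([5, 11], [8, 40, 16, 6]), ([16, 7], [8, 13, 42, 23]), ([6, 3], [8, 20, 30, 24]), ([17, 7], [8, 35, 6, 42]), ([5, 3], [8, 20, 31, 23]), ([16, 7], [8, 36, 5, 41]), ([6, 3], [8, 28, 17, 31]), ([2, 7], [8, 35, 24, 5]), ([5, 3], [8, 29, 16, 30]), ([2, 3], [8, 28, 24, 16]), ([2, 7], [8, 36, 23, 6]), ([2, 3], [8, 29, 23, 17])],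
  [([46, 35], [9, 34, 26, 30]), ([46, 28], [9, 27, 26, 41]), ([46, 35], [9, 36, 21, 32]), ([43, 35], [9, 34, 32, 17]), ([46, 28], [9, 29, 21, 43]), ([32, 28], [9, 27, 43, 6]), ([41, 35], [9, 36, 30, 15]), ([43, 35], [9, 40, 15, 26]), ([30, 28], [9, 29, 41, 4]), ([32, 28], [9, 44, 4, 26]), ([41, 35], [9, 40, 17, 21]), ([43, 20], [9, 19, 32, 41]), ([30, 28], [9, 44, 6, 21]), ([32, 13], [9, 12, 43, 30]), ([26, 20], [9, 19, 46, 6]), ([43, 20], [9, 29, 15, 46]), ([26, 13], [9, 12, 46, 17]), ([32, 13], [9, 36, 4, 46]), ([17, 20], [9, 29, 41, 1]), ([26, 20], [9, 44, 1, 32]), ([41, 18], [9, 19, 30, 43]), ([6, 13], [9, 36, 30, 1]), ([26, 13], [9, 40, 1, 43]), ([17, 20], [9, 44, 6, 15]), ([30, 11], [9, 12, 41, 32]), ([21, 18], [9, 19, 46, 4]), ([41, 18], [9, 27, 17, 46]), ([6, 13], [9, 40, 17, 4]), ([21, 11], [9, 12, 46, 15]), ([30, 11], [9, 34, 6, 46]), ([15, 18],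 [9, 27, 43, 1]), ([21, 18], [9, 44, 1, 30]), ([4, 11], [9, 34, 32, 1]), ([21, 11], [9, 40, 1, 41]), ([15, 18], [9, 44, 4, 17]), ([17, 7], [9, 12, 41, 26]), ([4, 11], [9, 40, 15, 6]), ([6, 3], [9, 19, 30, 26]), ([15, 7], [9, 12, 43, 21]), ([17, 7], [9, 34, 6, 43]), ([4, 3], [9, 19, 32, 21]), ([6, 3], [9, 27, 17, 32]), ([15, 7], [9, 36, 4, 41]), ([1, 7], [9, 34, 26, 4]), ([4, 3], [9, 29, 15, 30]), ([1, 3], [9, 27, 26, 15]), ([1, 7], [9, 36, 21, 6]), ([1, 3], [9, 29, 21, 17])],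
  [([47, 36], [10, 34, 25, 31]), ([47, 29], [10, 27, 25, 42]), ([47, 36], [10, 35, 22, 32]), ([43, 36], [10, 34, 32, 16]), ([47, 29], [10, 28, 22, 43]), ([32, 29], [10, 27, 43, 5]), ([42, 36], [10, 35, 31, 15]), ([43, 36], [10, 40, 15, 25]), ([31, 29], [10, 28, 42, 4]), ([32, 29], [10, 44, 4, 25]), ([42, 36], [10, 40, 16, 22]), ([31, 29], [10, 44, 5, 22]), ([43, 20], [10, 18, 32, 42]), ([32, 13], [10, 11, 43, 31]), ([42, 19], [10, 18, 31, 43]), ([25, 20], [10, 18, 47, 5]), ([43, 20], [10, 28, 15, 47]), ([31, 12], [10, 11, 42, 32]), ([25, 13], [10, 11, 47, 16]), ([22, 19], [10, 18, 47, 4]), ([32, 13], [10, 35, 4, 47]), ([42, 19], [10, 27, 16, 47]), ([16, 20], [10, 28, 42, 0]), ([25, 20], [10, 44, 0, 32]), ([22, 12], [10, 11, 47, 15]), ([31, 12], [10, 34, 5, 47]), ([5, 13], [10, 35, 31, 0]), ([15, 19], [10, 27, 43, 0]), ([25, 13], [10, 40, 0, 43]), ([22,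 19], [10, 44, 0, 31]), ([16, 20], [10, 44, 5, 15]), ([4, 12], [10, 34, 32, 0]), ([22, 12], [10, 40, 0, 42]), ([5, 13], [10, 40, 16, 4]), ([15, 19], [10, 44, 4, 16]), ([4, 12], [10, 40, 15, 5]), ([16, 7], [10, 11, 42, 25]), ([5, 3], [10, 18, 31, 25]), ([15, 7], [10, 11, 43, 22]), ([16, 7], [10, 34, 5, 43]), ([4, 3], [10, 18, 32, 22]), ([5, 3], [10, 27, 16, 32]), ([15, 7], [10, 35, 4, 42]), ([0, 7], [10, 34, 25, 4]), ([4, 3], [10, 28, 15, 31]), ([0, 3], [10, 27, 25, 15]), ([0, 7], [10, 35, 22, 5]), ([0, 3], [10, 28, 22, 16])],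
  [([46, 37], [11, 33, 31, 25]), ([45, 37], [11, 33, 32, 22]), ([46, 37], [11, 38, 16, 32]), ([45, 37], [11, 39, 15, 31]), ([41, 37], [11, 38, 25, 15]), ([46, 28], [11, 20, 31, 41]), ([41, 37], [11, 39, 22, 16]), ([45, 27], [11, 19, 32, 41]), ([32, 28], [11, 20, 45, 6]), ([46, 28], [11, 29, 16, 45]), ([32, 14], [11, 10, 45, 25]), ([31, 27], [11, 19, 46, 6]), ([45, 27], [11, 29, 15, 46]), ([25, 28], [11, 29, 41, 2]), ([32, 28], [11, 44, 2, 31]), ([31, 14], [11, 10, 46, 22]), ([22, 27], [11, 29, 41, 1]), ([32, 14], [11, 38, 2, 46]), ([31, 27], [11, 44, 1, 32]), ([25, 28], [11, 44, 6, 16]), ([31, 14], [11, 39, 1, 45]), ([22, 27], [11, 44, 6, 15]), ([6, 14], [11, 38, 25, 1]), ([6, 14], [11, 39, 22, 2]), ([41, 18], [11, 19, 25, 45]), ([41, 18], [11, 20, 22, 46]), ([25, 9], [11, 10, 41, 32]), ([16, 18], [11, 19, 46, 2]), ([22, 8], [11, 10, 41, 31]), ([16, 9],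 [11, 10, 46, 15]), ([15, 18], [11, 20, 45, 1]), ([25, 9], [11, 33, 6, 46]), ([16, 18], [11, 44, 1, 25]), ([15, 8], [11, 10, 45, 16]), ([22, 8], [11, 33, 6, 45]), ([2, 9], [11, 33, 32, 1]), ([16, 9], [11, 39, 1, 41]), ([15, 18], [11, 44, 2, 22]), ([1, 8], [11, 33, 31, 2]), ([15, 8], [11, 38, 2, 41]), ([2, 9], [11, 39, 15, 6]), ([6, 3], [11, 19, 25, 31]), ([1, 8], [11, 38, 16, 6]), ([6, 3], [11, 20, 22, 32]), ([2, 3], [11, 19, 32, 16]), ([1, 3], [11, 20, 31, 15]), ([2, 3], [11, 29, 15, 25]), ([1, 3], [11, 29, 16, 22])],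
  [([47, 38], [12, 33, 30, 26]), ([45, 38], [12, 33, 32, 21]), ([47, 38], [12, 37, 17, 32]), ([45, 38], [12, 39, 15, 30]), ([42, 38], [12, 37, 26, 15]), ([47, 29], [12, 20, 30, 42]), ([42, 38], [12, 39, 21, 17]), ([32, 29], [12, 20, 45, 5]), ([47, 29], [12, 28, 17, 45]), ([26, 29], [12, 28, 42, 2]), ([32, 29], [12, 44, 2, 30]), ([45, 27], [12, 18, 32, 42]), ([26, 29], [12, 44, 5, 17]), ([32, 14], [12, 9, 45, 26]), ([30, 27], [12, 18, 47, 5]), ([45, 27], [12, 28, 15, 47]), ([30, 14], [12, 9, 47, 21]), ([21, 27], [12, 28, 42, 0]), ([32, 14], [12, 37, 2, 47]), ([30, 27], [12, 44, 0, 32]), ([42, 19], [12, 18, 26, 45]), ([30, 14], [12, 39, 0, 45]), ([21, 27], [12, 44, 5, 15]), ([5, 14], [12, 37, 26, 0]), ([42, 19], [12, 20, 21, 47]), ([26, 10], [12, 9, 42, 32]), ([17, 19], [12, 18, 47, 2]), ([5, 14], [12, 39, 21, 2]), ([17, 10], [12, 9, 47, 15]), ([15, 19],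 [12, 20, 45, 0]), ([26, 10], [12, 33, 5, 47]), ([17, 19], [12, 44, 0, 26]), ([2, 10], [12, 33, 32, 0]), ([17, 10], [12, 39, 0, 42]), ([15, 19], [12, 44, 2, 21]), ([21, 8], [12, 9, 42, 30]), ([2, 10], [12, 39, 15, 5]), ([15, 8], [12, 9, 45, 17]), ([21, 8], [12, 33, 5, 45]), ([0, 8], [12, 33, 30, 2]), ([15, 8], [12, 37, 2, 42]), ([5, 3], [12, 18, 26, 30]), ([0, 8], [12, 37, 17, 5]), ([5, 3], [12, 20, 21, 32]), ([2, 3], [12, 18, 32, 17]), ([0, 3], [12, 20, 30, 15]), ([2, 3], [12, 28, 15, 26]), ([0, 3], [12, 28, 17, 21])],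
  [([47, 39], [13, 33, 30, 24]), ([46, 39], [13, 33, 31, 23]), ([47, 39], [13, 37, 17, 31]), ([46, 39], [13, 38, 16, 30]), ([43, 39], [13, 37, 24, 16]), ([43, 39], [13, 38, 23, 17]), ([47, 29], [13, 19, 30, 43]), ([46, 28], [13, 18, 31, 43]), ([31, 29], [13, 19, 46, 4]), ([47, 29], [13, 27, 17, 46]), ([30, 28], [13, 18, 47, 4]), ([46, 28], [13, 27, 16, 47]), ([24, 29], [13, 27, 43, 1]), ([31, 29], [13, 44, 1, 30]), ([23, 28], [13, 27, 43, 0]), ([30, 28], [13, 44, 0, 31]), ([24, 29], [13, 44, 4, 17]), ([43, 20], [13, 18, 24, 46]), ([31, 14], [13, 8, 46, 24]), ([23, 28], [13, 44, 4, 16]), ([43, 20], [13, 19, 23, 47]), ([30, 14], [13, 8, 47, 23]), ([17, 20], [13, 18, 47, 1]), ([31, 14], [13, 37, 1, 47]), ([16, 20], [13, 19, 46, 0]), ([30, 14], [13, 38, 0, 46]), ([17, 20], [13, 44, 0, 24]), ([4, 14], [13, 37, 24, 0]), ([24, 10], [13, 8, 43, 31]), ([16, 20],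 [13, 44, 1, 23]), ([4, 14], [13, 38, 23, 1]), ([23, 9], [13, 8, 43, 30]), ([17, 10], [13, 8, 47, 16]), ([24, 10], [13, 33, 4, 47]), ([16, 9], [13, 8, 46, 17]), ([23, 9], [13, 33, 4, 46]), ([1, 10], [13, 33, 31, 0]), ([17, 10], [13, 38, 0, 43]), ([0, 9], [13, 33, 30, 1]), ([16, 9], [13, 37, 1, 43]), ([1, 10], [13, 38, 16, 4]), ([0, 9], [13, 37, 17, 4]), ([4, 3], [13, 18, 24, 30]), ([4, 3], [13, 19, 23, 31]), ([1, 3], [13, 18, 31, 17]), ([0, 3], [13, 19, 30, 16]), ([1, 3], [13, 27, 16, 24]), ([0, 3], [13, 27, 17, 23])],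
  [([47, 40], [14, 34, 25, 24]), ([47, 40], [14, 35, 22, 26]), ([46, 40], [14, 34, 26, 23]), ([46, 40], [14, 36, 21, 25]), ([45, 40], [14, 35, 24, 21]), ([45, 40], [14, 36, 23, 22]), ([47, 29], [14, 19, 25, 45]), ([47, 29], [14, 20, 22, 46]), ([46, 28], [14, 18, 26, 45]), ([26, 29], [14, 19, 46, 2]), ([46, 28], [14, 20, 21, 47]), ([45, 27], [14, 18, 24, 46]), ([24, 29], [14, 20, 45, 1]), ([25, 28], [14, 18, 47, 2]), ([26, 29], [14, 44, 1, 25]), ([45, 27], [14, 19, 23, 47]), ([23, 28], [14, 20, 45, 0]), ([22, 27], [14, 18, 47, 1]), ([24, 29], [14, 44, 2, 22]), ([25, 28], [14, 44, 0, 26]), ([26, 13], [14, 7, 46, 24]), ([21, 27], [14, 19, 46, 0]), ([23, 28], [14, 44, 2, 21]), ([22, 27], [14, 44, 0, 24]), ([24, 12], [14, 7, 45, 26]), ([25, 13], [14, 7, 47, 23]), ([26, 13], [14, 35, 1, 47]), ([21, 27], [14, 44, 1, 23]), ([23, 11], [14, 7, 45, 25]), ([22, 12],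 [14, 7, 47, 21]), ([24, 12], [14, 34, 2, 47]), ([25, 13], [14, 36, 0, 46]), ([2, 13], [14, 35, 24, 0]), ([21, 11], [14, 7, 46, 22]), ([23, 11], [14, 34, 2, 46]), ([22, 12], [14, 36, 0, 45]), ([2, 13], [14, 36, 23, 1]), ([1, 12], [14, 34, 26, 0]), ([21, 11], [14, 35, 1, 45]), ([1, 12], [14, 36, 21, 2]), ([0, 11], [14, 34, 25, 1]), ([0, 11], [14, 35, 22, 2]), ([2, 3], [14, 18, 24, 25]), ([2, 3], [14, 19, 23, 26]), ([1, 3], [14, 18, 26, 22]), ([1, 3], [14, 20, 21, 24]), ([0, 3], [14, 19, 25, 21]), ([0, 3], [14, 20, 22, 23])],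
  [],
  [],
  [],
  [([46, 37], [18, 14, 42, 25]), ([46, 35], [18, 13, 42, 30]), ([45, 37], [18, 14, 43, 22]), ([46, 37], [18, 38, 5, 43]), ([45, 34], [18, 12, 43, 30]), ([43, 35], [18, 13, 45, 17]), ([46, 35], [18, 36, 5, 45]), ([45, 37], [18, 39, 4, 42]), ([30, 37], [18, 38, 25, 4]), ([43, 33], [18, 10, 45, 25]), ([42, 34], [18, 12, 46, 17]), ([45, 34], [18, 36, 4, 46]), ([43, 35], [18, 40, 2, 42]), ([30, 37], [18, 39, 22, 5]), ([25, 35], [18, 36, 30, 2]), ([42, 33], [18, 10, 46, 22]), ([43, 33], [18, 38, 2, 46]), ([42, 34], [18, 40, 1, 43]), ([25, 35], [18, 40, 17, 5]), ([22, 34], [18, 36, 30, 1]), ([42, 33], [18, 39, 1, 45]), ([22, 34], [18, 40, 17, 4]), ([17, 33], [18, 38, 25, 1]), ([17, 33], [18, 39, 22, 2]), ([30, 11], [18, 12, 25, 45]), ([30, 11], [18, 13, 22, 46]), ([25, 9], [18, 10, 30, 43]), ([5, 11], [18, 12, 46, 2]), ([25, 9], [18, 14, 17,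 46]), ([22, 8], [18, 10, 30, 42]), ([5, 9], [18, 10, 46, 4]), ([4, 11], [18, 13, 45, 1]), ([5, 11], [18, 40, 1, 25]), ([22, 8], [18, 14, 17, 45]), ([17, 7], [18, 12, 25, 42]), ([4, 8], [18, 10, 45, 5]), ([2, 9], [18, 14, 43, 1]), ([5, 9], [18, 39, 1, 30]), ([4, 11], [18, 40, 2, 22]), ([17, 7], [18, 13, 22, 43]), ([2, 7], [18, 12, 43, 5]), ([1, 8], [18, 14, 42, 2]), ([4, 8], [18, 38, 2, 30]), ([2, 9], [18, 39, 4, 17]), ([1, 7], [18, 13, 42, 4]), ([2, 7], [18, 36, 4, 25]), ([1, 8], [18, 38, 5, 17]), ([1, 7], [18, 36, 5, 22])],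
  [([47, 38], [19, 14, 41, 26]), ([47, 36], [19, 13, 41, 31]), ([45, 38], [19, 14, 43, 21]), ([47, 38], [19, 37, 6, 43]), ([43, 36], [19, 13, 45, 16]), ([47, 36], [19, 35, 6, 45]), ([45, 38], [19, 39, 4, 41]), ([31, 38], [19, 37, 26, 4]), ([43, 36], [19, 40, 2, 41]), ([31, 38], [19, 39, 21, 6]), ([26, 36], [19, 35, 31, 2]), ([45, 34], [19, 11, 43, 31]), ([26, 36], [19, 40, 16, 6]), ([43, 33], [19, 9, 45, 26]), ([41, 34], [19, 11, 47, 16]), ([45, 34], [19, 35, 4, 47]), ([41, 33], [19, 9, 47, 21]), ([43, 33], [19, 37, 2, 47]), ([41, 34], [19, 40, 0, 43]), ([21, 34], [19, 35, 31, 0]), ([41, 33], [19, 39, 0, 45]), ([21, 34], [19, 40, 16, 4]), ([16, 33], [19, 37, 26, 0]), ([16, 33], [19, 39, 21, 2]), ([31, 12], [19, 11, 26, 45]), ([31, 12], [19, 13, 21, 47]), ([26, 10], [19, 9, 31, 43]), ([6, 12], [19, 11, 47, 2]), ([26, 10], [19, 14, 16, 47]), ([6, 10], [19,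 9, 47, 4]), ([4, 12], [19, 13, 45, 0]), ([6, 12], [19, 40, 0, 26]), ([2, 10], [19, 14, 43, 0]), ([6, 10], [19, 39, 0, 31]), ([4, 12], [19, 40, 2, 21]), ([21, 8], [19, 9, 31, 41]), ([2, 10], [19, 39, 4, 16]), ([21, 8], [19, 14, 16, 45]), ([16, 7], [19, 11, 26, 41]), ([4, 8], [19, 9, 45, 6]), ([16, 7], [19, 13, 21, 43]), ([2, 7], [19, 11, 43, 6]), ([0, 8], [19, 14, 41, 2]), ([4, 8], [19, 37, 2, 31]), ([0, 7], [19, 13, 41, 4]), ([2, 7], [19, 35, 4, 26]), ([0, 8], [19, 37, 6, 16]), ([0, 7], [19, 35, 6, 21])],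
  [([47, 39], [20, 14, 41, 24]), ([46, 39], [20, 14, 42, 23]), ([47, 39], [20, 37, 6, 42]), ([46, 39], [20, 38, 5, 41]), ([32, 39], [20, 37, 24, 5]), ([47, 36], [20, 12, 41, 32]), ([32, 39], [20, 38, 23, 6]), ([46, 35], [20, 11, 42, 32]), ([42, 36], [20, 12, 46, 15]), ([47, 36], [20, 34, 6, 46]), ([41, 35], [20, 11, 47, 15]), ([46, 35], [20, 34, 5, 47]), ([42, 36], [20, 40, 1, 41]), ([24, 36], [20, 34, 32, 1]), ([41, 35], [20, 40, 0, 42]), ([24, 36], [20, 40, 15, 6]), ([23, 35], [20, 34, 32, 0]), ([42, 33], [20, 8, 46, 24]), ([23, 35], [20, 40, 15, 5]), ([41, 33], [20, 8, 47, 23]), ([42, 33], [20, 37, 1, 47]), ([32, 13], [20, 11, 24, 46]), ([41, 33], [20, 38, 0, 46]), ([15, 33], [20, 37, 24, 0]), ([32, 13], [20, 12, 23, 47]), ([6, 13], [20, 11, 47, 1]), ([15, 33], [20, 38, 23, 1]), ([5, 13], [20, 12, 46, 0]), ([6, 13], [20, 40, 0, 24]), ([24, 10], [20,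 8, 32, 42]), ([5, 13], [20, 40, 1, 23]), ([24, 10], [20, 14, 15, 47]), ([23, 9], [20, 8, 32, 41]), ([6, 10], [20, 8, 47, 5]), ([23, 9], [20, 14, 15, 46]), ([5, 9], [20, 8, 46, 6]), ([1, 10], [20, 14, 42, 0]), ([6, 10], [20, 38, 0, 32]), ([0, 9], [20, 14, 41, 1]), ([5, 9], [20, 37, 1, 32]), ([1, 10], [20, 38, 5, 15]), ([15, 7], [20, 11, 24, 41]), ([0, 9], [20, 37, 6, 15]), ([15, 7], [20, 12, 23, 42]), ([1, 7], [20, 11, 42, 6]), ([0, 7], [20, 12, 41, 5]), ([1, 7], [20, 34, 5, 24]), ([0, 7], [20, 34, 6, 23])],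
  [],
  [],
  [],
  [],
  [],
  [],
  [([47, 40], [27, 13, 41, 24]), ([46, 40], [27, 13, 42, 23]), ([47, 40], [27, 35, 6, 42]), ([46, 40], [27, 36, 5, 41]), ([32, 40], [27, 35, 24, 5]), ([47, 38], [27, 10, 41, 32]), ([32, 40], [27, 36, 23, 6]), ([46, 37], [27, 9, 42, 32]), ([42, 38], [27, 10, 46, 15]), ([47, 38], [27, 33, 6, 46]), ([41, 37], [27, 9, 47, 15]), ([46, 37], [27, 33, 5, 47]), ([42, 38], [27, 39, 1, 41]), ([24, 38], [27, 33, 32, 1]), ([41, 37], [27, 39, 0, 42]), ([24, 38], [27, 39, 15, 6]), ([23, 37], [27, 33, 32, 0]), ([42, 34], [27, 7, 46, 24]), ([23, 37], [27, 39, 15, 5]), ([41, 34], [27, 7, 47, 23]), ([42, 34], [27, 35, 1, 47]), ([32, 14], [27, 9, 24, 46]), ([41, 34], [27, 36, 0, 46]), ([15, 34], [27, 35, 24, 0]), ([32, 14], [27, 10, 23, 47]), ([6, 14], [27, 9, 47, 1]), ([15, 34], [27, 36, 23, 1]), ([5, 14], [27, 10, 46, 0]), ([6, 14], [27,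 39, 0, 24]), ([24, 12], [27, 7, 32, 42]), ([5, 14], [27, 39, 1, 23]), ([24, 12], [27, 13, 15, 47]), ([23, 11], [27, 7, 32, 41]), ([6, 12], [27, 7, 47, 5]), ([23, 11], [27, 13, 15, 46]), ([5, 11], [27, 7, 46, 6]), ([1, 12], [27, 13, 42, 0]), ([6, 12], [27, 36, 0, 32]), ([0, 11], [27, 13, 41, 1]), ([5, 11], [27, 35, 1, 32]), ([1, 12], [27, 36, 5, 15]), ([15, 8], [27, 9, 24, 41]), ([0, 11], [27, 35, 6, 15]), ([15, 8], [27, 10, 23, 42]), ([1, 8], [27, 9, 42, 6]), ([0, 8], [27, 10, 41, 5]), ([1, 8], [27, 33, 5, 24]), ([0, 8], [27, 33, 6, 23])],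
  [([47, 40], [28, 12, 41, 26]), ([47, 39], [28, 10, 41, 31]), ([45, 40], [28, 12, 43, 21]), ([47, 40], [28, 34, 6, 43]), ([43, 39], [28, 10, 45, 16]), ([47, 39], [28, 33, 6, 45]), ([45, 40], [28, 36, 4, 41]), ([31, 40], [28, 34, 26, 4]), ([43, 39], [28, 38, 2, 41]), ([31, 40], [28, 36, 21, 6]), ([26, 39], [28, 33, 31, 2]), ([45, 37], [28, 8, 43, 31]), ([26, 39], [28, 38, 16, 6]), ([43, 35], [28, 7, 45, 26]), ([41, 37], [28, 8, 47, 16]), ([45, 37], [28, 33, 4, 47]), ([41, 35], [28, 7, 47, 21]), ([43, 35], [28, 34, 2, 47]), ([41, 37], [28, 38, 0, 43]), ([21, 37], [28, 33, 31, 0]), ([41, 35], [28, 36, 0, 45]), ([21, 37], [28, 38, 16, 4]), ([16, 35], [28, 34, 26, 0]), ([16, 35], [28, 36, 21, 2]), ([31, 14], [28, 8, 26, 45]), ([31, 14], [28, 10, 21, 47]), ([26, 13], [28, 7, 31, 43]), ([6, 14], [28, 8, 47, 2]), ([26, 13], [28, 12, 16, 47]), ([6, 13], [28, 7,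 47, 4]), ([4, 14], [28, 10, 45, 0]), ([6, 14], [28, 38, 0, 26]), ([2, 13], [28, 12, 43, 0]), ([6, 13], [28, 36, 0, 31]), ([4, 14], [28, 38, 2, 21]), ([21, 11], [28, 7, 31, 41]), ([2, 13], [28, 36, 4, 16]), ([21, 11], [28, 12, 16, 45]), ([16, 9], [28, 8, 26, 41]), ([4, 11], [28, 7, 45, 6]), ([16, 9], [28, 10, 21, 43]), ([2, 9], [28, 8, 43, 6]), ([0, 11], [28, 12, 41, 2]), ([4, 11], [28, 34, 2, 31]), ([0, 9], [28, 10, 41, 4]), ([2, 9], [28, 33, 4, 26]), ([0, 11], [28, 34, 6, 16]), ([0, 9], [28, 33, 6, 21])],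
  [([46, 40], [29, 11, 42, 25]), ([46, 39], [29, 9, 42, 30]), ([45, 40], [29, 11, 43, 22]), ([46, 40], [29, 34, 5, 43]), ([45, 38], [29, 8, 43, 30]), ([43, 39], [29, 9, 45, 17]), ([46, 39], [29, 33, 5, 45]), ([45, 40], [29, 35, 4, 42]), ([30, 40], [29, 34, 25, 4]), ([43, 36], [29, 7, 45, 25]), ([42, 38], [29, 8, 46, 17]), ([45, 38], [29, 33, 4, 46]), ([43, 39], [29, 37, 2, 42]), ([30, 40], [29, 35, 22, 5]), ([25, 39], [29, 33, 30, 2]), ([42, 36], [29, 7, 46, 22]), ([43, 36], [29, 34, 2, 46]), ([42, 38], [29, 37, 1, 43]), ([25, 39], [29, 37, 17, 5]), ([22, 38], [29, 33, 30, 1]), ([42, 36], [29, 35, 1, 45]), ([22, 38], [29, 37, 17, 4]), ([17, 36], [29, 34, 25, 1]), ([17, 36], [29, 35, 22, 2]), ([30, 14], [29, 8, 25, 45]), ([30, 14], [29, 9, 22, 46]), ([25, 13], [29, 7, 30, 43]), ([5, 14], [29, 8, 46, 2]), ([25, 13], [29, 11, 17, 46]), ([22, 12], [29, 7, 30,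 42]), ([5, 13], [29, 7, 46, 4]), ([4, 14], [29, 9, 45, 1]), ([5, 14], [29, 37, 1, 25]), ([22, 12], [29, 11, 17, 45]), ([17, 10], [29, 8, 25, 42]), ([4, 12], [29, 7, 45, 5]), ([2, 13], [29, 11, 43, 1]), ([5, 13], [29, 35, 1, 30]), ([4, 14], [29, 37, 2, 22]), ([17, 10], [29, 9, 22, 43]), ([2, 10], [29, 8, 43, 5]), ([1, 12], [29, 11, 42, 2]), ([4, 12], [29, 34, 2, 30]), ([2, 13], [29, 35, 4, 17]), ([1, 10], [29, 9, 42, 4]), ([2, 10], [29, 33, 4, 25]), ([1, 12], [29, 34, 5, 17]), ([1, 10], [29, 33, 5, 22])],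
  [],
  [],
  [],
  [([47, 44], [33, 27, 25, 24]), ([47, 44], [33, 28, 22, 26]), ([46, 44], [33, 27, 26, 23]), ([46, 44], [33, 29, 21, 25]), ([45, 44], [33, 28, 24, 21]), ([45, 44], [33, 29, 23, 22]), ([47, 36], [33, 12, 25, 45]), ([47, 36], [33, 13, 22, 46]), ([46, 35], [33, 11, 26, 45]), ([26, 36], [33, 12, 46, 2]), ([46, 35], [33, 13, 21, 47]), ([45, 34], [33, 11, 24, 46]), ([24, 36], [33, 13, 45, 1]), ([25, 35], [33, 11, 47, 2]), ([26, 36], [33, 40, 1, 25]), ([45, 34], [33, 12, 23, 47]), ([23, 35], [33, 13, 45, 0]), ([22, 34], [33, 11, 47, 1]), ([24, 36], [33, 40, 2, 22]), ([25, 35], [33, 40, 0, 26]), ([26, 20], [33, 3, 46, 24]), ([21, 34], [33, 12, 46, 0]), ([23, 35], [33, 40, 2, 21]), ([22, 34], [33, 40, 0, 24]), ([24, 19], [33, 3, 45, 26]), ([25, 20], [33, 3, 47, 23]), ([26, 20], [33, 28, 1, 47]), ([21, 34], [33, 40, 1, 23]), ([23, 18], [33, 3, 45,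 25]), ([22, 19], [33, 3, 47, 21]), ([24, 19], [33, 27, 2, 47]), ([25, 20], [33, 29, 0, 46]), ([2, 20], [33, 28, 24, 0]), ([21, 18], [33, 3, 46, 22]), ([23, 18], [33, 27, 2, 46]), ([22, 19], [33, 29, 0, 45]), ([2, 20], [33, 29, 23, 1]), ([1, 19], [33, 27, 26, 0]), ([21, 18], [33, 28, 1, 45]), ([1, 19], [33, 29, 21, 2]), ([0, 18], [33, 27, 25, 1]), ([0, 18], [33, 28, 22, 2]), ([2, 7], [33, 11, 24, 25]), ([2, 7], [33, 12, 23, 26]), ([1, 7], [33, 11, 26, 22]), ([1, 7], [33, 13, 21, 24]), ([0, 7], [33, 12, 25, 21]), ([0, 7], [33, 13, 22, 23])],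
  [([47, 44], [34, 20, 30, 24]), ([46, 44], [34, 20, 31, 23]), ([47, 44], [34, 28, 17, 31]), ([46, 44], [34, 29, 16, 30]), ([43, 44], [34, 28, 24, 16]), ([43, 44], [34, 29, 23, 17]), ([47, 38], [34, 10, 30, 43]), ([46, 37], [34, 9, 31, 43]), ([31, 38], [34, 10, 46, 4]), ([47, 38], [34, 14, 17, 46]), ([30, 37], [34, 9, 47, 4]), ([46, 37], [34, 14, 16, 47]), ([24, 38], [34, 14, 43, 1]), ([31, 38], [34, 39, 1, 30]), ([23, 37], [34, 14, 43, 0]), ([30, 37], [34, 39, 0, 31]), ([24, 38], [34, 39, 4, 17]), ([43, 33], [34, 9, 24, 46]), ([31, 27], [34, 3, 46, 24]), ([23, 37], [34, 39, 4, 16]), ([43, 33], [34, 10, 23, 47]), ([30, 27], [34, 3, 47, 23]), ([17, 33], [34, 9, 47, 1]), ([31, 27], [34, 28, 1, 47]), ([16, 33], [34, 10, 46, 0]), ([30, 27], [34, 29, 0, 46]), ([17, 33], [34, 39, 0, 24]), ([4, 27], [34, 28, 24, 0]), ([24, 19], [34, 3, 43, 31]), ([16, 33], [34,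 39, 1, 23]), ([4, 27], [34, 29, 23, 1]), ([23, 18], [34, 3, 43, 30]), ([17, 19], [34, 3, 47, 16]), ([24, 19], [34, 20, 4, 47]), ([16, 18], [34, 3, 46, 17]), ([23, 18], [34, 20, 4, 46]), ([1, 19], [34, 20, 31, 0]), ([17, 19], [34, 29, 0, 43]), ([0, 18], [34, 20, 30, 1]), ([16, 18], [34, 28, 1, 43]), ([1, 19], [34, 29, 16, 4]), ([0, 18], [34, 28, 17, 4]), ([4, 8], [34, 9, 24, 30]), ([4, 8], [34, 10, 23, 31]), ([1, 8], [34, 9, 31, 17]), ([0, 8], [34, 10, 30, 16]), ([1, 8], [34, 14, 16, 24]), ([0, 8], [34, 14, 17, 23])],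
  [([47, 44], [35, 19, 30, 26]), ([45, 44], [35, 19, 32, 21]), ([47, 44], [35, 27, 17, 32]), ([45, 44], [35, 29, 15, 30]), ([42, 44], [35, 27, 26, 15]), ([47, 39], [35, 10, 30, 42]), ([42, 44], [35, 29, 21, 17]), ([32, 39], [35, 10, 45, 5]), ([47, 39], [35, 14, 17, 45]), ([26, 39], [35, 14, 42, 2]), ([32, 39], [35, 38, 2, 30]), ([45, 37], [35, 8, 32, 42]), ([26, 39], [35, 38, 5, 17]), ([32, 28], [35, 3, 45, 26]), ([30, 37], [35, 8, 47, 5]), ([45, 37], [35, 14, 15, 47]), ([30, 28], [35, 3, 47, 21]), ([21, 37], [35, 14, 42, 0]), ([32, 28], [35, 27, 2, 47]), ([30, 37], [35, 38, 0, 32]), ([42, 33], [35, 8, 26, 45]), ([30, 28], [35, 29, 0, 45]), ([21, 37], [35, 38, 5, 15]), ([5, 28], [35, 27, 26, 0]), ([42, 33], [35, 10, 21, 47]), ([26, 20], [35, 3, 42, 32]), ([17, 33], [35, 8, 47, 2]), ([5, 28], [35, 29, 21, 2]), ([17, 20], [35, 3, 47, 15]), ([15, 33], [35,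 10, 45, 0]), ([26, 20], [35, 19, 5, 47]), ([17, 33], [35, 38, 0, 26]), ([2, 20], [35, 19, 32, 0]), ([17, 20], [35, 29, 0, 42]), ([15, 33], [35, 38, 2, 21]), ([21, 18], [35, 3, 42, 30]), ([2, 20], [35, 29, 15, 5]), ([15, 18], [35, 3, 45, 17]), ([21, 18], [35, 19, 5, 45]), ([0, 18], [35, 19, 30, 2]), ([15, 18], [35, 27, 2, 42]), ([5, 9], [35, 8, 26, 30]), ([0, 18], [35, 27, 17, 5]), ([5, 9], [35, 10, 21, 32]), ([2, 9], [35, 8, 32, 17]), ([0, 9], [35, 10, 30, 15]), ([2, 9], [35, 14, 15, 26]), ([0, 9], [35, 14, 17, 21])],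
  [([46, 44], [36, 18, 31, 25]), ([45, 44], [36, 18, 32, 22]), ([46, 44], [36, 27, 16, 32]), ([45, 44], [36, 28, 15, 31]), ([41, 44], [36, 27, 25, 15]), ([46, 39], [36, 9, 31, 41]), ([41, 44], [36, 28, 22, 16]), ([45, 38], [36, 8, 32, 41]), ([32, 39], [36, 9, 45, 6]), ([46, 39], [36, 14, 16, 45]), ([32, 29], [36, 3, 45, 25]), ([31, 38], [36, 8, 46, 6]), ([45, 38], [36, 14, 15, 46]), ([25, 39], [36, 14, 41, 2]), ([32, 39], [36, 37, 2, 31]), ([31, 29], [36, 3, 46, 22]), ([22, 38], [36, 14, 41, 1]), ([32, 29], [36, 27, 2, 46]), ([31, 38], [36, 37, 1, 32]), ([25, 39], [36, 37, 6, 16]), ([31, 29], [36, 28, 1, 45]), ([22, 38], [36, 37, 6, 15]), ([6, 29], [36, 27, 25, 1]), ([6, 29], [36, 28, 22, 2]), ([41, 33], [36, 8, 25, 45]), ([41, 33], [36, 9, 22, 46]), ([25, 20], [36, 3, 41, 32]), ([16, 33], [36, 8, 46, 2]), ([22, 19], [36, 3, 41, 31]), ([16, 20], [36, 3,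 46, 15]), ([15, 33], [36, 9, 45, 1]), ([25, 20], [36, 18, 6, 46]), ([16, 33], [36, 37, 1, 25]), ([15, 19], [36, 3, 45, 16]), ([22, 19], [36, 18, 6, 45]), ([2, 20], [36, 18, 32, 1]), ([16, 20], [36, 28, 1, 41]), ([15, 33], [36, 37, 2, 22]), ([1, 19], [36, 18, 31, 2]), ([15, 19], [36, 27, 2, 41]), ([2, 20], [36, 28, 15, 6]), ([6, 10], [36, 8, 25, 31]), ([1, 19], [36, 27, 16, 6]), ([6, 10], [36, 9, 22, 32]), ([2, 10], [36, 8, 32, 16]), ([1, 10], [36, 9, 31, 15]), ([2, 10], [36, 14, 15, 25]), ([1, 10], [36, 14, 16, 22])],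
  [([47, 44], [37, 19, 25, 31]), ([47, 40], [37, 12, 25, 42]), ([47, 44], [37, 20, 22, 32]), ([43, 44], [37, 19, 32, 16]), ([47, 40], [37, 13, 22, 43]), ([32, 40], [37, 12, 43, 5]), ([42, 44], [37, 20, 31, 15]), ([43, 44], [37, 29, 15, 25]), ([31, 40], [37, 13, 42, 4]), ([32, 40], [37, 36, 4, 25]), ([42, 44], [37, 29, 16, 22]), ([31, 40], [37, 36, 5, 22]), ([43, 35], [37, 7, 32, 42]), ([32, 28], [37, 3, 43, 31]), ([42, 34], [37, 7, 31, 43]), ([25, 35], [37, 7, 47, 5]), ([43, 35], [37, 13, 15, 47]), ([31, 27], [37, 3, 42, 32]), ([25, 28], [37, 3, 47, 16]), ([22, 34], [37, 7, 47, 4]), ([32, 28], [37, 20, 4, 47]), ([42, 34], [37, 12, 16, 47]), ([16, 35], [37, 13, 42, 0]), ([25, 35], [37, 36, 0, 32]), ([22, 27], [37, 3, 47, 15]), ([31, 27], [37, 19, 5, 47]), ([5, 28], [37, 20, 31, 0]), ([15, 34], [37, 12, 43, 0]), ([25, 28], [37, 29, 0, 43]), ([22, 34], [37,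 36, 0, 31]), ([16, 35], [37, 36, 5, 15]), ([4, 27], [37, 19, 32, 0]), ([22, 27], [37, 29, 0, 42]), ([5, 28], [37, 29, 16, 4]), ([15, 34], [37, 36, 4, 16]), ([4, 27], [37, 29, 15, 5]), ([16, 18], [37, 3, 42, 25]), ([5, 11], [37, 7, 31, 25]), ([15, 18], [37, 3, 43, 22]), ([16, 18], [37, 19, 5, 43]), ([4, 11], [37, 7, 32, 22]), ([5, 11], [37, 12, 16, 32]), ([15, 18], [37, 20, 4, 42]), ([0, 18], [37, 19, 25, 4]), ([4, 11], [37, 13, 15, 31]), ([0, 11], [37, 12, 25, 15]), ([0, 18], [37, 20, 22, 5]), ([0, 11], [37, 13, 22, 16])],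
  [([46, 44], [38, 18, 26, 30]), ([46, 40], [38, 11, 26, 41]), ([46, 44], [38, 20, 21, 32]), ([43, 44], [38, 18, 32, 17]), ([46, 40], [38, 13, 21, 43]), ([32, 40], [38, 11, 43, 6]), ([41, 44], [38, 20, 30, 15]), ([43, 44], [38, 28, 15, 26]), ([30, 40], [38, 13, 41, 4]), ([32, 40], [38, 35, 4, 26]), ([41, 44], [38, 28, 17, 21]), ([43, 36], [38, 7, 32, 41]), ([30, 40], [38, 35, 6, 21]), ([32, 29], [38, 3, 43, 30]), ([26, 36], [38, 7, 46, 6]), ([43, 36], [38, 13, 15, 46]), ([26, 29], [38, 3, 46, 17]), ([32, 29], [38, 20, 4, 46]), ([17, 36], [38, 13, 41, 1]), ([26, 36], [38, 35, 1, 32]), ([41, 34], [38, 7, 30, 43]), ([6, 29], [38, 20, 30, 1]), ([26, 29], [38, 28, 1, 43]), ([17, 36], [38, 35, 6, 15]), ([30, 27], [38, 3, 41, 32]), ([21, 34], [38, 7, 46, 4]), ([41, 34], [38, 11, 17, 46]), ([6, 29], [38, 28, 17, 4]), ([21, 27], [38, 3, 46, 15]), ([30, 27], [38,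 18, 6, 46]), ([15, 34], [38, 11, 43, 1]), ([21, 34], [38, 35, 1, 30]), ([4, 27], [38, 18, 32, 1]), ([21, 27], [38, 28, 1, 41]), ([15, 34], [38, 35, 4, 17]), ([17, 19], [38, 3, 41, 26]), ([4, 27], [38, 28, 15, 6]), ([6, 12], [38, 7, 30, 26]), ([15, 19], [38, 3, 43, 21]), ([17, 19], [38, 18, 6, 43]), ([4, 12], [38, 7, 32, 21]), ([6, 12], [38, 11, 17, 32]), ([15, 19], [38, 20, 4, 41]), ([1, 19], [38, 18, 26, 4]), ([4, 12], [38, 13, 15, 30]), ([1, 12], [38, 11, 26, 15]), ([1, 19], [38, 20, 21, 6]), ([1, 12], [38, 13, 21, 17])],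
  [([45, 44], [39, 18, 24, 30]), ([45, 40], [39, 11, 24, 41]), ([45, 44], [39, 19, 23, 31]), ([42, 44], [39, 18, 31, 17]), ([45, 40], [39, 12, 23, 42]), ([31, 40], [39, 11, 42, 6]), ([41, 44], [39, 19, 30, 16]), ([42, 44], [39, 27, 16, 24]), ([30, 40], [39, 12, 41, 5]), ([31, 40], [39, 34, 5, 24]), ([41, 44], [39, 27, 17, 23]), ([42, 36], [39, 7, 31, 41]), ([30, 40], [39, 34, 6, 23]), ([31, 29], [39, 3, 42, 30]), ([41, 35], [39, 7, 30, 42]), ([24, 36], [39, 7, 45, 6]), ([42, 36], [39, 12, 16, 45]), ([30, 28], [39, 3, 41, 31]), ([24, 29], [39, 3, 45, 17]), ([23, 35], [39, 7, 45, 5]), ([31, 29], [39, 19, 5, 45]), ([41, 35], [39, 11, 17, 45]), ([17, 36], [39, 12, 41, 2]), ([24, 36], [39, 34, 2, 31]), ([23, 28], [39, 3, 45, 16]), ([30, 28], [39, 18, 6, 45]), ([16, 35], [39, 11, 42, 2]), ([6, 29], [39, 19, 30, 2]), ([24, 29], [39, 27, 2, 42]), ([23, 35], [39,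 34, 2, 30]), ([17, 36], [39, 34, 6, 16]), ([5, 28], [39, 18, 31, 2]), ([23, 28], [39, 27, 2, 41]), ([16, 35], [39, 34, 5, 17]), ([6, 29], [39, 27, 17, 5]), ([17, 20], [39, 3, 41, 24]), ([5, 28], [39, 27, 16, 6]), ([16, 20], [39, 3, 42, 23]), ([6, 13], [39, 7, 30, 24]), ([17, 20], [39, 18, 6, 42]), ([5, 13], [39, 7, 31, 23]), ([16, 20], [39, 19, 5, 41]), ([6, 13], [39, 11, 17, 31]), ([2, 20], [39, 18, 24, 5]), ([5, 13], [39, 12, 16, 30]), ([2, 13], [39, 11, 24, 16]), ([2, 20], [39, 19, 23, 6]), ([2, 13], [39, 12, 23, 17])],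
  [([43, 44], [40, 18, 24, 25]), ([43, 39], [40, 9, 24, 41]), ([43, 44], [40, 19, 23, 26]), ([42, 44], [40, 18, 26, 22]), ([43, 39], [40, 10, 23, 42]), ([42, 38], [40, 8, 26, 41]), ([42, 44], [40, 20, 21, 24]), ([41, 44], [40, 19, 25, 21]), ([26, 39], [40, 9, 42, 6]), ([42, 38], [40, 10, 21, 43]), ([41, 37], [40, 8, 25, 42]), ([41, 44], [40, 20, 22, 23]), ([24, 38], [40, 8, 43, 6]), ([25, 39], [40, 10, 41, 5]), ([26, 39], [40, 33, 5, 24]), ([41, 37], [40, 9, 22, 43]), ([23, 37], [40, 8, 43, 5]), ([22, 38], [40, 10, 41, 4]), ([24, 38], [40, 33, 4, 26]), ([25, 39], [40, 33, 6, 23]), ([26, 29], [40, 3, 42, 25]), ([21, 37], [40, 9, 42, 4]), ([23, 37], [40, 33, 4, 25]), ([22, 38], [40, 33, 6, 21]), ([24, 29], [40, 3, 43, 22]), ([25, 28], [40, 3, 41, 26]), ([26, 29], [40, 19, 5, 43]), ([21, 37], [40, 33, 5, 22]), ([23, 28], [40, 3, 43, 21]), ([22, 27], [40, 3,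 41, 24]), ([24, 29], [40, 20, 4, 42]), ([25, 28], [40, 18, 6, 43]), ([6, 29], [40, 19, 25, 4]), ([21, 27], [40, 3, 42, 23]), ([23, 28], [40, 20, 4, 41]), ([22, 27], [40, 18, 6, 42]), ([6, 14], [40, 8, 25, 24]), ([6, 29], [40, 20, 22, 5]), ([5, 28], [40, 18, 26, 4]), ([21, 27], [40, 19, 5, 41]), ([6, 14], [40, 9, 22, 26]), ([5, 14], [40, 8, 26, 23]), ([5, 28], [40, 20, 21, 6]), ([4, 27], [40, 18, 24, 5]), ([5, 14], [40, 10, 21, 25]), ([4, 14], [40, 9, 24, 21]), ([4, 27], [40, 19, 23, 6]), ([4, 14], [40, 10, 23, 22])],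
  [],
  [],
  [],
  [([32, 40], [44, 11, 24, 25]), ([32, 39], [44, 9, 24, 30]), ([32, 40], [44, 12, 23, 26]), ([31, 40], [44, 11, 26, 22]), ([32, 39], [44, 10, 23, 31]), ([31, 38], [44, 8, 26, 30]), ([31, 40], [44, 13, 21, 24]), ([26, 39], [44, 9, 31, 17]), ([30, 40], [44, 12, 25, 21]), ([31, 38], [44, 10, 21, 32]), ([26, 36], [44, 7, 31, 25]), ([30, 37], [44, 8, 25, 31]), ([26, 39], [44, 14, 16, 24]), ([30, 40], [44, 13, 22, 23]), ([24, 38], [44, 8, 32, 17]), ([25, 39], [44, 10, 30, 16]), ([26, 36], [44, 12, 16, 32]), ([30, 37], [44, 9, 22, 32]), ([24, 36], [44, 7, 32, 22]), ([25, 35], [44, 7, 30, 26]), ([24, 38], [44, 14, 15, 26]), ([25, 39], [44, 14, 17, 23]), ([23, 37], [44, 8, 32, 16]), ([22, 38], [44, 10, 30, 15]), ([24, 36], [44, 13, 15, 31]), ([25, 35], [44, 11, 17, 32]), ([23, 35], [44, 7, 32, 21]), ([22, 34], [44, 7, 30, 24]), ([23, 37], [44,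 14, 15, 25]), ([22, 38], [44, 14, 17, 21]), ([21, 37], [44, 9, 31, 15]), ([17, 36], [44, 12, 25, 15]), ([23, 35], [44, 13, 15, 30]), ([22, 34], [44, 11, 17, 31]), ([21, 34], [44, 7, 31, 23]), ([17, 33], [44, 8, 25, 24]), ([21, 37], [44, 14, 16, 22]), ([17, 36], [44, 13, 22, 16]), ([16, 35], [44, 11, 26, 15]), ([21, 34], [44, 12, 16, 30]), ([17, 33], [44, 9, 22, 26]), ([16, 33], [44, 8, 26, 23]), ([16, 35], [44, 13, 21, 17]), ([15, 34], [44, 11, 24, 16]), ([16, 33], [44, 10, 21, 25]), ([15, 33], [44, 9, 24, 21]), ([15, 34], [44, 12, 23, 17]), ([15, 33], [44, 10, 23, 22])],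
  [],
  [],
  []
]
abbrev Oma : List (List ℕ × List ℕ) := OmBa.flatten

theorem a_hN : R.N ≤ chevF4.nroots := by decide +kernel
theorem a_hVnd : Va.Nodup := by decide +kernel
theorem a_hVA : ∀ r ∈ Va, r ∈ Aa := by decide +kernel
theorem a_hAP : ∀ r ∈ Aa, R.N ≤ r ∧ r < chevF4.nroots := by decide +kernel
theorem a_hJ : ∀ j ∈ Ja, j < chevF4.rank ∧ chevF4.simple j ∉ KLa.map Prod.fst := by decide +kernel
theorem a_hU : ∀ s ∈ List.range' R.N (chevF4.nroots - R.N), ∀ a ∈ Aa, s ≠ a → ∀ c ∈ oddT chevF4 s a, c.1 ∈ Aa ∧ c.1 ∉ Va := by decide +kernel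
theorem a_hYP : ∀ q ∈ List.range' R.N (chevF4.nroots - R.N), q ∉ KLa.map Prod.fst → ∀ r ∈ Va, q ≠ r → oddT chevF4 q r = [] := by decide +kernel
theorem a_hYN : ∀ j ∈ Ja, ∀ r ∈ Va, r ≠ chevF4.neg (chevF4.simple j) ∧ r ≠ chevF4.neg (chevF4.neg (chevF4.simple j)) ∧ oddT chevF4 (chevF4.neg (chevF4.simple j)) r = [] := by decide +kernel
theorem a_hwf : ∀ j ∈ Ja, ∀ r ∈ Va, X.wf j r = r := by decide +kernel
theorem a_hFn : ∀ p ∈ Fna, ∀ s ∈ Aa, (p.2 : ℤ) + 1 ≤ linL R chevF4 p.1 s := by decide +kernel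
theorem a_hBn : ∀ p ∈ Bna, 0 < linL R chevF4 p.2 p.1 ∧ ∀ s ∈ Aa, s ≠ p.1 → linL R chevF4 p.2 p.1 < linL R chevF4 p.2 s := by decide +kernel
theorem a_hBV : ∀ r ∈ Va, r ∈ Bna.map Prod.fst := by decide +kernel
theorem a_hOm0 : (Va, (List.range chevF4.rank).map chevF4.simple) ∈ Oma := by decide +kernel
theorem a_hOm1B : omClosedB X chevF4.rank OmBa = true := by decide +kernel
theorem a_hOm1 : ∀ p ∈ Oma, ∀ i < chevF4.rank, (p.1.map (X.wf i), p.2.map (X.wf i)) ∈ Oma := omClosed_of_B a_hOm1B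
theorem a_hfix : ∀ p ∈ Oma, (∀ x ∈ p.1, ∀ q ∈ Fna, (q.2 : ℤ) + 1 ≤ linL R chevF4 q.1 x) → p.1 = Va := by decide +kernel
theorem a_hneg : ∀ p ∈ Oma, p.1 = Va → ∀ i < chevF4.rank, i ∉ Ja → R.N ≤ p.2.getD i 0 := by decide +kernel
theorem a_hdual : ∀ e ∈ duala, (∀ p ∈ e.2, p.1 ∈ Va) ∧ ∀ i' < chevF4.rank, (e.2.map fun p => p.2 * chevF4.cartan i' p.1).sum = if i' = e.1 then 1 else 0 := by decide +kernel
theorem a_hdual2 : ∀ i < chevF4.rank, i ∉ Ja → i ∈ duala.map Prod.fst := by decide +kernel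
theorem a_hkill : KillOK R chevF4 Va [] KLa := trivial

theorem taba : CentTab R chevF4 X Va Aa Ja KLa Fna Bna Oma duala where
  hN := a_hN
  hVnd := a_hVnd
  hVA := a_hVA
  hAP := a_hAP
  hJ := a_hJ
  hU := a_hU
  hYP := a_hYP
  hYN := a_hYN
  hwf := a_hwf
  hFn := a_hFn
  hBn := a_hBn
  hBV := a_hBV
  hOm0 := a_hOm0
  hOm1 := a_hOm1
  hfix := a_hfix
  hneg := a_hneg
  hdual := a_hdual
  hdual2 := a_hdual2
  hkill := a_hkill

end Cfsg.Agent.Lib.ChevInv.CentG.TabF4a
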