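import Mathlib
import Cfsg.Agent.Lib.ChevInv.CentG3
import Cfsg.Agent.Lib.Chev.RelF4
import Cfsg.Agent.Lib.Chev.RootF4

/-!
# Tables for centralisers of involutions in type F4
-/

set_option autoImplicit false
set_option maxRecDepth 100000

namespace Cfsg.Agent.Lib.ChevInv.CentG.TabF4b

open Cfsg Cfsg.Lie Matrix Cfsg.Agent.Lib.Chev Cfsg.Agent.Lib.ChevInv Cfsg.Agent.Lib.ChevInv.CentG
open Cfsg.Agent.Lib.Chev.TabF4 Cfsg.Agent.Lib.Chev.RootF4T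

theorem hF : Full T X R chevF4 := ⟨RelF4.checks, RootF4.checks⟩

def Vb : List ℕ := [39, 45]
def Ab : List ℕ := [39, 40, 44, 45, 46, 47]
def Jb : List ℕ := [0, 3]
def KLb : List (ℕ × ℕ × ℕ) := [(27, 40, 39), (34, 44, 39), (25, 46, 45), (26, 47, 45)]
def Fnb : List (List ℤ × ℕ) := [([1, 0, 2, 0], 4), ([(-1), 1, 0, 0], 0)]
def Bnb : List (ℕ × List ℤ) := [(39, [0, 1, 0, 0]), (45, [0, (-1), 2, 1])]
def dualb : List (ℕ × List (ℕ × ℤ)) := [(1, [(39, 1), (45, 1)]), (2, [(39, 2), (45, 1)])]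
def OmBb : List (List (List ℕ × List ℕ)) := [
  [],
  [],
  [],
  [([29, 30], [3, 37, 24, 25]), ([29, 25], [3, 35, 24, 30]), ([28, 31], [3, 38, 23, 26]), ([29, 30], [3, 37, 26, 22]), ([28, 26], [3, 36, 23, 31]), ([29, 22], [3, 34, 26, 30]), ([27, 32], [3, 39, 21, 24]), ([29, 25], [3, 35, 31, 17]), ([28, 31], [3, 38, 25, 21]), ([27, 24], [3, 36, 21, 32]), ([29, 17], [3, 33, 31, 25]), ([28, 21], [3, 34, 25, 31]), ([20, 32], [3, 40, 16, 24]), ([27, 32], [3, 39, 22, 23]), ([29, 22], [3, 34, 32, 17]), ([28, 26], [3, 36, 30, 16]), ([20, 24], [3, 38, 16, 32]), ([27, 23], [3, 35, 22, 32]), ([29, 17], [3, 33, 32, 22]), ([28, 16], [3, 33, 30, 26]), ([19, 31], [3, 40, 15, 26]), ([20, 32], [3, 40, 17, 23]), ([28, 21], [3, 34, 32, 16]), ([27, 24], [3, 36, 30, 15]), ([19, 26], [3, 39, 15, 31]), ([20, 23], [3, 37, 17, 32]), ([28, 16], [3, 33, 32, 21]), ([27, 15], [3,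 33, 30, 24]), ([18, 30], [3, 40, 15, 25]), ([19, 31], [3, 40, 17, 21]), ([27, 23], [3, 35, 31, 15]), ([20, 24], [3, 38, 25, 15]), ([18, 25], [3, 39, 15, 30]), ([19, 21], [3, 37, 17, 31]), ([27, 15], [3, 33, 31, 23]), ([20, 15], [3, 34, 25, 24]), ([18, 30], [3, 40, 16, 22]), ([19, 26], [3, 39, 22, 16]), ([20, 23], [3, 37, 26, 15]), ([18, 22], [3, 38, 16, 30]), ([19, 16], [3, 35, 22, 26]), ([20, 15], [3, 34, 26, 23]), ([18, 25], [3, 39, 21, 17]), ([19, 21], [3, 37, 24, 16]), ([18, 17], [3, 36, 21, 25]), ([19, 16], [3, 35, 24, 21]), ([18, 22], [3, 38, 23, 17]), ([18, 17], [3, 36, 23, 22])],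
  [],
  [],
  [],
  [([36, 41], [7, 37, 24, 25]), ([36, 25], [7, 28, 24, 41]), ([35, 42], [7, 38, 23, 26]), ([36, 41], [7, 37, 26, 22]), ([35, 26], [7, 29, 23, 42]), ([36, 22], [7, 27, 26, 41]), ([34, 43], [7, 39, 21, 24]), ([35, 42], [7, 38, 25, 21]), ([36, 25], [7, 28, 42, 6]), ([34, 24], [7, 29, 21, 43]), ([35, 21], [7, 27, 25, 42]), ([34, 43], [7, 39, 22, 23]), ([36, 22], [7, 27, 43, 6]), ([35, 26], [7, 29, 41, 5]), ([13, 43], [7, 44, 5, 24]), ([34, 23], [7, 28, 22, 43]), ([35, 21], [7, 27, 43, 5]), ([34, 24], [7, 29, 41, 4]), ([12, 42], [7, 44, 4, 26]), ([13, 43], [7, 44, 6, 23]), ([36, 6], [7, 14, 42, 25]), ([34, 23], [7, 28, 42, 4]), ([11, 41], [7, 44, 4, 25]), ([12, 42], [7, 44, 6, 21]), ([36, 6], [7, 14, 43, 22]), ([35, 5], [7, 14, 41, 26]), ([13, 24], [7, 38, 5, 43]), ([11, 41], [7, 44, 5, 22]), ([35, 5], [7, 14, 43, 21]), ([34, 4], [7, 14, 41,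 24]), ([12, 26], [7, 39, 4, 42]), ([13, 23], [7, 37, 6, 43]), ([13, 24], [7, 38, 25, 4]), ([34, 4], [7, 14, 42, 23]), ([11, 25], [7, 39, 4, 41]), ([12, 21], [7, 37, 6, 42]), ([13, 4], [7, 27, 25, 24]), ([12, 26], [7, 39, 22, 5]), ([13, 23], [7, 37, 26, 4]), ([11, 22], [7, 38, 5, 41]), ([12, 5], [7, 28, 22, 26]), ([13, 4], [7, 27, 26, 23]), ([11, 25], [7, 39, 21, 6]), ([12, 21], [7, 37, 24, 5]), ([11, 6], [7, 29, 21, 25]), ([12, 5], [7, 28, 24, 21]), ([11, 22], [7, 38, 23, 6]), ([11, 6], [7, 29, 23, 22])],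
  [([38, 41], [8, 35, 24, 30]), ([38, 30], [8, 28, 24, 41]), ([37, 42], [8, 36, 23, 31]), ([38, 41], [8, 35, 31, 17]), ([37, 31], [8, 29, 23, 42]), ([38, 30], [8, 28, 42, 6]), ([37, 42], [8, 36, 30, 16]), ([33, 45], [8, 40, 16, 24]), ([37, 31], [8, 29, 41, 5]), ([14, 45], [8, 44, 5, 24]), ([33, 45], [8, 40, 17, 23]), ([38, 17], [8, 20, 31, 41]), ([14, 45], [8, 44, 6, 23]), ([38, 6], [8, 13, 42, 30]), ([37, 16], [8, 20, 30, 42]), ([38, 17], [8, 20, 45, 6]), ([33, 24], [8, 29, 16, 45]), ([37, 5], [8, 13, 41, 31]), ([38, 6], [8, 13, 45, 17]), ([37, 16], [8, 20, 45, 5]), ([14, 24], [8, 36, 5, 45]), ([33, 23], [8, 28, 17, 45]), ([33, 24], [8, 29, 41, 2]), ([10, 42], [8, 44, 2, 31]), ([37, 5], [8, 13, 45, 16]), ([14, 23], [8, 35, 6, 45]), ([33, 23], [8, 28, 42, 2]), ([14, 24], [8, 36, 30, 2]), ([10, 31], [8, 40, 2, 42]), ([9, 41], [8, 44, 2, 30]), ([10, 42],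 [8, 44, 6, 16]), ([14, 23], [8, 35, 31, 2]), ([9, 30], [8, 40, 2, 41]), ([9, 41], [8, 44, 5, 17]), ([10, 31], [8, 40, 17, 5]), ([33, 2], [8, 13, 41, 24]), ([9, 30], [8, 40, 16, 6]), ([33, 2], [8, 13, 42, 23]), ([14, 2], [8, 20, 30, 24]), ([10, 16], [8, 35, 6, 42]), ([14, 2], [8, 20, 31, 23]), ([9, 17], [8, 36, 5, 41]), ([10, 5], [8, 28, 17, 31]), ([10, 16], [8, 35, 24, 5]), ([9, 6], [8, 29, 16, 30]), ([10, 5], [8, 28, 24, 16]), ([9, 17], [8, 36, 23, 6]), ([9, 6], [8, 29, 23, 17])],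
  [([39, 41], [9, 34, 26, 30]), ([39, 30], [9, 27, 26, 41]), ([37, 43], [9, 36, 21, 32]), ([39, 41], [9, 34, 32, 17]), ([37, 32], [9, 29, 21, 43]), ([39, 30], [9, 27, 43, 6]), ([37, 43], [9, 36, 30, 15]), ([33, 46], [9, 40, 15, 26]), ([37, 32], [9, 29, 41, 4]), ([14, 46], [9, 44, 4, 26]), ([33, 46], [9, 40, 17, 21]), ([39, 17], [9, 19, 32, 41]), ([14, 46], [9, 44, 6, 21]), ([39, 6], [9, 12, 43, 30]), ([39, 17], [9, 19, 46, 6]), ([33, 26], [9, 29, 15, 46]), ([39, 6], [9, 12, 46, 17]), ([14, 26], [9, 36, 4, 46]), ([33, 26], [9, 29, 41, 1]), ([10, 43], [9, 44, 1, 32]), ([37, 15], [9, 19, 30, 43]), ([14, 26], [9, 36, 30, 1]), ([10, 32], [9, 40, 1, 43]), ([10, 43], [9, 44, 6, 15]), ([37, 4], [9, 12, 41, 32]), ([37, 15], [9, 19, 46, 4]), ([33, 21], [9, 27, 17, 46]), ([10, 32], [9, 40, 17, 4]), ([37, 4], [9, 12, 46, 15]), ([14, 21], [9, 34, 6, 46]), ([33, 21],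 [9, 27, 43, 1]), ([8, 41], [9, 44, 1, 30]), ([14, 21], [9, 34, 32, 1]), ([8, 30], [9, 40, 1, 41]), ([8, 41], [9, 44, 4, 17]), ([33, 1], [9, 12, 41, 26]), ([8, 30], [9, 40, 15, 6]), ([14, 1], [9, 19, 30, 26]), ([33, 1], [9, 12, 43, 21]), ([10, 15], [9, 34, 6, 43]), ([14, 1], [9, 19, 32, 21]), ([10, 4], [9, 27, 17, 32]), ([8, 17], [9, 36, 4, 41]), ([10, 15], [9, 34, 26, 4]), ([8, 6], [9, 29, 15, 30]), ([10, 4], [9, 27, 26, 15]), ([8, 17], [9, 36, 21, 6]), ([8, 6], [9, 29, 21, 17])],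
  [([39, 42], [10, 34, 25, 31]), ([39, 31], [10, 27, 25, 42]), ([38, 43], [10, 35, 22, 32]), ([39, 42], [10, 34, 32, 16]), ([38, 32], [10, 28, 22, 43]), ([39, 31], [10, 27, 43, 5]), ([38, 43], [10, 35, 31, 15]), ([33, 47], [10, 40, 15, 25]), ([38, 32], [10, 28, 42, 4]), ([14, 47], [10, 44, 4, 25]), ([33, 47], [10, 40, 16, 22]), ([14, 47], [10, 44, 5, 22]), ([39, 16], [10, 18, 32, 42]), ([39, 5], [10, 11, 43, 31]), ([38, 15], [10, 18, 31, 43]), ([39, 16], [10, 18, 47, 5]), ([33, 25], [10, 28, 15, 47]), ([38, 4], [10, 11, 42, 32]), ([39, 5], [10, 11, 47, 16]), ([38, 15], [10, 18, 47, 4]), ([14, 25], [10, 35, 4, 47]), ([33, 22], [10, 27, 16, 47]), ([33, 25], [10, 28, 42, 0]), ([9, 43], [10, 44, 0, 32]), ([38, 4], [10, 11, 47, 15]), ([14, 22], [10, 34, 5, 47]), ([14, 25], [10, 35, 31, 0]), ([33, 22], [10, 27, 43, 0]), ([9, 32], [10, 40, 0, 43]), ([8, 42],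 [10, 44, 0, 31]), ([9, 43], [10, 44, 5, 15]), ([14, 22], [10, 34, 32, 0]), ([8, 31], [10, 40, 0, 42]), ([9, 32], [10, 40, 16, 4]), ([8, 42], [10, 44, 4, 16]), ([8, 31], [10, 40, 15, 5]), ([33, 0], [10, 11, 42, 25]), ([14, 0], [10, 18, 31, 25]), ([33, 0], [10, 11, 43, 22]), ([9, 15], [10, 34, 5, 43]), ([14, 0], [10, 18, 32, 22]), ([9, 4], [10, 27, 16, 32]), ([8, 16], [10, 35, 4, 42]), ([9, 15], [10, 34, 25, 4]), ([8, 5], [10, 28, 15, 31]), ([9, 4], [10, 27, 25, 15]), ([8, 16], [10, 35, 22, 5]), ([8, 5], [10, 28, 22, 16])],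
  [([40, 41], [11, 33, 31, 25]), ([40, 41], [11, 33, 32, 22]), ([35, 45], [11, 38, 16, 32]), ([34, 46], [11, 39, 15, 31]), ([35, 45], [11, 38, 25, 15]), ([40, 25], [11, 20, 31, 41]), ([34, 46], [11, 39, 22, 16]), ([40, 22], [11, 19, 32, 41]), ([40, 25], [11, 20, 45, 6]), ([35, 32], [11, 29, 16, 45]), ([40, 6], [11, 10, 45, 25]), ([40, 22], [11, 19, 46, 6]), ([34, 31], [11, 29, 15, 46]), ([35, 32], [11, 29, 41, 2]), ([13, 46], [11, 44, 2, 31]), ([40, 6], [11, 10, 46, 22]), ([34, 31], [11, 29, 41, 1]), ([13, 31], [11, 38, 2, 46]), ([12, 45], [11, 44, 1, 32]), ([13, 46], [11, 44, 6, 16]), ([12, 32], [11, 39, 1, 45]), ([12, 45], [11, 44, 6, 15]), ([13, 31], [11, 38, 25, 1]), ([12, 32], [11, 39, 22, 2]), ([35, 15], [11, 19, 25, 45]), ([34, 16], [11, 20, 22, 46]), ([35, 2], [11, 10, 41, 32]), ([35, 15], [11, 19, 46, 2]), ([34, 1], [11, 10, 41, 31]), ([35, 2],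 [11, 10, 46, 15]), ([34, 16], [11, 20, 45, 1]), ([13, 16], [11, 33, 6, 46]), ([7, 41], [11, 44, 1, 25]), ([34, 1], [11, 10, 45, 16]), ([12, 15], [11, 33, 6, 45]), ([13, 16], [11, 33, 32, 1]), ([7, 25], [11, 39, 1, 41]), ([7, 41], [11, 44, 2, 22]), ([12, 15], [11, 33, 31, 2]), ([7, 22], [11, 38, 2, 41]), ([7, 25], [11, 39, 15, 6]), ([13, 1], [11, 19, 25, 31]), ([7, 22], [11, 38, 16, 6]), ([12, 2], [11, 20, 22, 32]), ([13, 1], [11, 19, 32, 16]), ([12, 2], [11, 20, 31, 15]), ([7, 6], [11, 29, 15, 25]), ([7, 6], [11, 29, 16, 22])],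
  [([40, 42], [12, 33, 30, 26]), ([40, 42], [12, 33, 32, 21]), ([36, 45], [12, 37, 17, 32]), ([34, 47], [12, 39, 15, 30]), ([36, 45], [12, 37, 26, 15]), ([40, 26], [12, 20, 30, 42]), ([34, 47], [12, 39, 21, 17]), ([40, 26], [12, 20, 45, 5]), ([36, 32], [12, 28, 17, 45]), ([36, 32], [12, 28, 42, 2]), ([13, 47], [12, 44, 2, 30]), ([40, 21], [12, 18, 32, 42]), ([13, 47], [12, 44, 5, 17]), ([40, 5], [12, 9, 45, 26]), ([40, 21], [12, 18, 47, 5]), ([34, 30], [12, 28, 15, 47]), ([40, 5], [12, 9, 47, 21]), ([34, 30], [12, 28, 42, 0]), ([13, 30], [12, 37, 2, 47]), ([11, 45], [12, 44, 0, 32]), ([36, 15], [12, 18, 26, 45]), ([11, 32], [12, 39, 0, 45]), ([11, 45], [12, 44, 5, 15]), ([13, 30], [12, 37, 26, 0]), ([34, 17], [12, 20, 21, 47]), ([36, 2], [12, 9, 42, 32]), ([36, 15], [12, 18, 47, 2]), ([11, 32], [12, 39, 21, 2]), ([36, 2], [12, 9, 47, 15]), ([34, 17], [12,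 20, 45, 0]), ([13, 17], [12, 33, 5, 47]), ([7, 42], [12, 44, 0, 26]), ([13, 17], [12, 33, 32, 0]), ([7, 26], [12, 39, 0, 42]), ([7, 42], [12, 44, 2, 21]), ([34, 0], [12, 9, 42, 30]), ([7, 26], [12, 39, 15, 5]), ([34, 0], [12, 9, 45, 17]), ([11, 15], [12, 33, 5, 45]), ([11, 15], [12, 33, 30, 2]), ([7, 21], [12, 37, 2, 42]), ([13, 0], [12, 18, 26, 30]), ([7, 21], [12, 37, 17, 5]), ([11, 2], [12, 20, 21, 32]), ([13, 0], [12, 18, 32, 17]), ([11, 2], [12, 20, 30, 15]), ([7, 5], [12, 28, 15, 26]), ([7, 5], [12, 28, 17, 21])],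
  [([40, 43], [13, 33, 30, 24]), ([40, 43], [13, 33, 31, 23]), ([36, 46], [13, 37, 17, 31]), ([35, 47], [13, 38, 16, 30]), ([36, 46], [13, 37, 24, 16]), ([35, 47], [13, 38, 23, 17]), ([40, 24], [13, 19, 30, 43]), ([40, 23], [13, 18, 31, 43]), ([40, 24], [13, 19, 46, 4]), ([36, 31], [13, 27, 17, 46]), ([40, 23], [13, 18, 47, 4]), ([35, 30], [13, 27, 16, 47]), ([36, 31], [13, 27, 43, 1]), ([12, 47], [13, 44, 1, 30]), ([35, 30], [13, 27, 43, 0]), ([11, 46], [13, 44, 0, 31]), ([12, 47], [13, 44, 4, 17]), ([36, 16], [13, 18, 24, 46]), ([40, 4], [13, 8, 46, 24]), ([11, 46], [13, 44, 4, 16]), ([35, 17], [13, 19, 23, 47]), ([40, 4], [13, 8, 47, 23]), ([36, 16], [13, 18, 47, 1]), ([12, 30], [13, 37, 1, 47]), ([35, 17], [13, 19, 46, 0]), ([11, 31], [13, 38, 0, 46]), ([7, 43], [13, 44, 0, 24]), ([12, 30], [13, 37, 24, 0]), ([36, 1], [13, 8, 43, 31]), ([7, 43], [13,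 44, 1, 23]), ([11, 31], [13, 38, 23, 1]), ([35, 0], [13, 8, 43, 30]), ([36, 1], [13, 8, 47, 16]), ([12, 17], [13, 33, 4, 47]), ([35, 0], [13, 8, 46, 17]), ([11, 16], [13, 33, 4, 46]), ([12, 17], [13, 33, 31, 0]), ([7, 24], [13, 38, 0, 43]), ([11, 16], [13, 33, 30, 1]), ([7, 23], [13, 37, 1, 43]), ([7, 24], [13, 38, 16, 4]), ([7, 23], [13, 37, 17, 4]), ([12, 0], [13, 18, 24, 30]), ([11, 1], [13, 19, 23, 31]), ([12, 0], [13, 18, 31, 17]), ([11, 1], [13, 19, 30, 16]), ([7, 4], [13, 27, 16, 24]), ([7, 4], [13, 27, 17, 23])],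
  [([39, 45], [14, 34, 25, 24]), ([38, 46], [14, 35, 22, 26]), ([39, 45], [14, 34, 26, 23]), ([37, 47], [14, 36, 21, 25]), ([38, 46], [14, 35, 24, 21]), ([37, 47], [14, 36, 23, 22]), ([39, 24], [14, 19, 25, 45]), ([38, 26], [14, 20, 22, 46]), ([39, 23], [14, 18, 26, 45]), ([39, 24], [14, 19, 46, 2]), ([37, 25], [14, 20, 21, 47]), ([38, 21], [14, 18, 24, 46]), ([38, 26], [14, 20, 45, 1]), ([39, 23], [14, 18, 47, 2]), ([10, 47], [14, 44, 1, 25]), ([37, 22], [14, 19, 23, 47]), ([37, 25], [14, 20, 45, 0]), ([38, 21], [14, 18, 47, 1]), ([10, 47], [14, 44, 2, 22]), ([9, 46], [14, 44, 0, 26]), ([39, 2], [14, 7, 46, 24]), ([37, 22], [14, 19, 46, 0]), ([9, 46], [14, 44, 2, 21]), ([8, 45], [14, 44, 0, 24]), ([38, 1], [14, 7, 45, 26]), ([39, 2], [14, 7, 47, 23]), ([10, 25], [14, 35, 1, 47]), ([8, 45], [14, 44, 1, 23]), ([37, 0], [14, 7, 45, 25]), ([38, 1], [14, 7,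 47, 21]), ([10, 22], [14, 34, 2, 47]), ([9, 26], [14, 36, 0, 46]), ([10, 25], [14, 35, 24, 0]), ([37, 0], [14, 7, 46, 22]), ([9, 21], [14, 34, 2, 46]), ([8, 24], [14, 36, 0, 45]), ([9, 26], [14, 36, 23, 1]), ([10, 22], [14, 34, 26, 0]), ([8, 23], [14, 35, 1, 45]), ([8, 24], [14, 36, 21, 2]), ([9, 21], [14, 34, 25, 1]), ([8, 23], [14, 35, 22, 2]), ([10, 0], [14, 18, 24, 25]), ([9, 1], [14, 19, 23, 26]), ([10, 0], [14, 18, 26, 22]), ([8, 2], [14, 20, 21, 24]), ([9, 1], [14, 19, 25, 21]), ([8, 2], [14, 20, 22, 23])],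
  [],
  [],
  [],
  [([44, 30], [18, 14, 42, 25]), ([44, 25], [18, 13, 42, 30]), ([44, 30], [18, 14, 43, 22]), ([28, 45], [18, 38, 5, 43]), ([44, 22], [18, 12, 43, 30]), ([44, 25], [18, 13, 45, 17]), ([28, 43], [18, 36, 5, 45]), ([27, 46], [18, 39, 4, 42]), ([28, 45], [18, 38, 25, 4]), ([44, 17], [18, 10, 45, 25]), ([44, 22], [18, 12, 46, 17]), ([27, 42], [18, 36, 4, 46]), ([20, 46], [18, 40, 2, 42]), ([27, 46], [18, 39, 22, 5]), ([28, 43], [18, 36, 30, 2]), ([44, 17], [18, 10, 46, 22]), ([20, 42], [18, 38, 2, 46]), ([19, 45], [18, 40, 1, 43]), ([20, 46], [18, 40, 17, 5]), ([27, 42], [18, 36, 30, 1]), ([19, 43], [18, 39, 1, 45]), ([19, 45], [18, 40, 17, 4]), ([20, 42], [18, 38, 25, 1]), ([19, 43], [18, 39, 22, 2]), ([28, 4], [18, 12, 25, 45]), ([27, 5], [18, 13, 22, 46]), ([28, 2], [18, 10, 30, 43]), ([28, 4], [18, 12, 46, 2]), ([20, 5], [18, 14, 17, 46]),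 ([27, 1], [18, 10, 30, 42]), ([28, 2], [18, 10, 46, 4]), ([27, 5], [18, 13, 45, 1]), ([3, 30], [18, 40, 1, 25]), ([19, 4], [18, 14, 17, 45]), ([20, 1], [18, 12, 25, 42]), ([27, 1], [18, 10, 45, 5]), ([20, 5], [18, 14, 43, 1]), ([3, 25], [18, 39, 1, 30]), ([3, 30], [18, 40, 2, 22]), ([19, 2], [18, 13, 22, 43]), ([20, 1], [18, 12, 43, 5]), ([19, 4], [18, 14, 42, 2]), ([3, 22], [18, 38, 2, 30]), ([3, 25], [18, 39, 4, 17]), ([19, 2], [18, 13, 42, 4]), ([3, 17], [18, 36, 4, 25]), ([3, 22], [18, 38, 5, 17]), ([3, 17], [18, 36, 5, 22])],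
  [([44, 31], [19, 14, 41, 26]), ([44, 26], [19, 13, 41, 31]), ([44, 31], [19, 14, 43, 21]), ([29, 45], [19, 37, 6, 43]), ([44, 26], [19, 13, 45, 16]), ([29, 43], [19, 35, 6, 45]), ([27, 47], [19, 39, 4, 41]), ([29, 45], [19, 37, 26, 4]), ([20, 47], [19, 40, 2, 41]), ([27, 47], [19, 39, 21, 6]), ([29, 43], [19, 35, 31, 2]), ([44, 21], [19, 11, 43, 31]), ([20, 47], [19, 40, 16, 6]), ([44, 16], [19, 9, 45, 26]), ([44, 21], [19, 11, 47, 16]), ([27, 41], [19, 35, 4, 47]), ([44, 16], [19, 9, 47, 21]), ([20, 41], [19, 37, 2, 47]), ([18, 45], [19, 40, 0, 43]), ([27, 41], [19, 35, 31, 0]), ([18, 43], [19, 39, 0, 45]), ([18, 45], [19, 40, 16, 4]), ([20, 41], [19, 37, 26, 0]), ([18, 43], [19, 39, 21, 2]), ([29, 4], [19, 11, 26, 45]), ([27, 6], [19, 13, 21, 47]), ([29, 2], [19, 9, 31, 43]), ([29, 4], [19, 11, 47, 2]), ([20, 6], [19, 14, 16, 47]), ([29, 2], [19, 9,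 47, 4]), ([27, 6], [19, 13, 45, 0]), ([3, 31], [19, 40, 0, 26]), ([20, 6], [19, 14, 43, 0]), ([3, 26], [19, 39, 0, 31]), ([3, 31], [19, 40, 2, 21]), ([27, 0], [19, 9, 31, 41]), ([3, 26], [19, 39, 4, 16]), ([18, 4], [19, 14, 16, 45]), ([20, 0], [19, 11, 26, 41]), ([27, 0], [19, 9, 45, 6]), ([18, 2], [19, 13, 21, 43]), ([20, 0], [19, 11, 43, 6]), ([18, 4], [19, 14, 41, 2]), ([3, 21], [19, 37, 2, 31]), ([18, 2], [19, 13, 41, 4]), ([3, 16], [19, 35, 4, 26]), ([3, 21], [19, 37, 6, 16]), ([3, 16], [19, 35, 6, 21])],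
  [([44, 32], [20, 14, 41, 24]), ([44, 32], [20, 14, 42, 23]), ([29, 46], [20, 37, 6, 42]), ([28, 47], [20, 38, 5, 41]), ([29, 46], [20, 37, 24, 5]), ([44, 24], [20, 12, 41, 32]), ([28, 47], [20, 38, 23, 6]), ([44, 23], [20, 11, 42, 32]), ([44, 24], [20, 12, 46, 15]), ([29, 42], [20, 34, 6, 46]), ([44, 23], [20, 11, 47, 15]), ([28, 41], [20, 34, 5, 47]), ([19, 47], [20, 40, 1, 41]), ([29, 42], [20, 34, 32, 1]), ([18, 46], [20, 40, 0, 42]), ([19, 47], [20, 40, 15, 6]), ([28, 41], [20, 34, 32, 0]), ([44, 15], [20, 8, 46, 24]), ([18, 46], [20, 40, 15, 5]), ([44, 15], [20, 8, 47, 23]), ([19, 41], [20, 37, 1, 47]), ([29, 5], [20, 11, 24, 46]), ([18, 42], [20, 38, 0, 46]), ([19, 41], [20, 37, 24, 0]), ([28, 6], [20, 12, 23, 47]), ([29, 5], [20, 11, 47, 1]), ([18, 42], [20, 38, 23, 1]), ([28, 6], [20, 12, 46, 0]), ([3, 32], [20, 40, 0, 24]), ([29, 1], [20, 8,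 32, 42]), ([3, 32], [20, 40, 1, 23]), ([19, 6], [20, 14, 15, 47]), ([28, 0], [20, 8, 32, 41]), ([29, 1], [20, 8, 47, 5]), ([18, 5], [20, 14, 15, 46]), ([28, 0], [20, 8, 46, 6]), ([19, 6], [20, 14, 42, 0]), ([3, 24], [20, 38, 0, 32]), ([18, 5], [20, 14, 41, 1]), ([3, 23], [20, 37, 1, 32]), ([3, 24], [20, 38, 5, 15]), ([19, 0], [20, 11, 24, 41]), ([3, 23], [20, 37, 6, 15]), ([18, 1], [20, 12, 23, 42]), ([19, 0], [20, 11, 42, 6]), ([18, 1], [20, 12, 41, 5]), ([3, 15], [20, 34, 5, 24]), ([3, 15], [20, 34, 6, 23])],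
  [],
  [],
  [],
  [],
  [],
  [],
  [([44, 32], [27, 13, 41, 24]), ([44, 32], [27, 13, 42, 23]), ([29, 46], [27, 35, 6, 42]), ([28, 47], [27, 36, 5, 41]), ([29, 46], [27, 35, 24, 5]), ([44, 24], [27, 10, 41, 32]), ([28, 47], [27, 36, 23, 6]), ([44, 23], [27, 9, 42, 32]), ([44, 24], [27, 10, 46, 15]), ([29, 42], [27, 33, 6, 46]), ([44, 23], [27, 9, 47, 15]), ([28, 41], [27, 33, 5, 47]), ([19, 47], [27, 39, 1, 41]), ([29, 42], [27, 33, 32, 1]), ([18, 46], [27, 39, 0, 42]), ([19, 47], [27, 39, 15, 6]), ([28, 41], [27, 33, 32, 0]), ([44, 15], [27, 7, 46, 24]), ([18, 46], [27, 39, 15, 5]), ([44, 15], [27, 7, 47, 23]), ([19, 41], [27, 35, 1, 47]), ([29, 5], [27, 9, 24, 46]), ([18, 42], [27, 36, 0, 46]), ([19, 41], [27, 35, 24, 0]), ([28, 6], [27, 10, 23, 47]), ([29, 5], [27, 9, 47, 1]), ([18, 42], [27, 36, 23, 1]), ([28, 6], [27, 10, 46, 0]), ([3, 32], [27,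 39, 0, 24]), ([29, 1], [27, 7, 32, 42]), ([3, 32], [27, 39, 1, 23]), ([19, 6], [27, 13, 15, 47]), ([28, 0], [27, 7, 32, 41]), ([29, 1], [27, 7, 47, 5]), ([18, 5], [27, 13, 15, 46]), ([28, 0], [27, 7, 46, 6]), ([19, 6], [27, 13, 42, 0]), ([3, 24], [27, 36, 0, 32]), ([18, 5], [27, 13, 41, 1]), ([3, 23], [27, 35, 1, 32]), ([3, 24], [27, 36, 5, 15]), ([19, 0], [27, 9, 24, 41]), ([3, 23], [27, 35, 6, 15]), ([18, 1], [27, 10, 23, 42]), ([19, 0], [27, 9, 42, 6]), ([18, 1], [27, 10, 41, 5]), ([3, 15], [27, 33, 5, 24]), ([3, 15], [27, 33, 6, 23])],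
  [([44, 31], [28, 12, 41, 26]), ([44, 26], [28, 10, 41, 31]), ([44, 31], [28, 12, 43, 21]), ([29, 45], [28, 34, 6, 43]), ([44, 26], [28, 10, 45, 16]), ([29, 43], [28, 33, 6, 45]), ([27, 47], [28, 36, 4, 41]), ([29, 45], [28, 34, 26, 4]), ([20, 47], [28, 38, 2, 41]), ([27, 47], [28, 36, 21, 6]), ([29, 43], [28, 33, 31, 2]), ([44, 21], [28, 8, 43, 31]), ([20, 47], [28, 38, 16, 6]), ([44, 16], [28, 7, 45, 26]), ([44, 21], [28, 8, 47, 16]), ([27, 41], [28, 33, 4, 47]), ([44, 16], [28, 7, 47, 21]), ([20, 41], [28, 34, 2, 47]), ([18, 45], [28, 38, 0, 43]), ([27, 41], [28, 33, 31, 0]), ([18, 43], [28, 36, 0, 45]), ([18, 45], [28, 38, 16, 4]), ([20, 41], [28, 34, 26, 0]), ([18, 43], [28, 36, 21, 2]), ([29, 4], [28, 8, 26, 45]), ([27, 6], [28, 10, 21, 47]), ([29, 2], [28, 7, 31, 43]), ([29, 4], [28, 8, 47, 2]), ([20, 6], [28, 12, 16, 47]), ([29, 2], [28, 7, 47,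 4]), ([27, 6], [28, 10, 45, 0]), ([3, 31], [28, 38, 0, 26]), ([20, 6], [28, 12, 43, 0]), ([3, 26], [28, 36, 0, 31]), ([3, 31], [28, 38, 2, 21]), ([27, 0], [28, 7, 31, 41]), ([3, 26], [28, 36, 4, 16]), ([18, 4], [28, 12, 16, 45]), ([20, 0], [28, 8, 26, 41]), ([27, 0], [28, 7, 45, 6]), ([18, 2], [28, 10, 21, 43]), ([20, 0], [28, 8, 43, 6]), ([18, 4], [28, 12, 41, 2]), ([3, 21], [28, 34, 2, 31]), ([18, 2], [28, 10, 41, 4]), ([3, 16], [28, 33, 4, 26]), ([3, 21], [28, 34, 6, 16]), ([3, 16], [28, 33, 6, 21])],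
  [([44, 30], [29, 11, 42, 25]), ([44, 25], [29, 9, 42, 30]), ([44, 30], [29, 11, 43, 22]), ([28, 45], [29, 34, 5, 43]), ([44, 22], [29, 8, 43, 30]), ([44, 25], [29, 9, 45, 17]), ([28, 43], [29, 33, 5, 45]), ([27, 46], [29, 35, 4, 42]), ([28, 45], [29, 34, 25, 4]), ([44, 17], [29, 7, 45, 25]), ([44, 22], [29, 8, 46, 17]), ([27, 42], [29, 33, 4, 46]), ([20, 46], [29, 37, 2, 42]), ([27, 46], [29, 35, 22, 5]), ([28, 43], [29, 33, 30, 2]), ([44, 17], [29, 7, 46, 22]), ([20, 42], [29, 34, 2, 46]), ([19, 45], [29, 37, 1, 43]), ([20, 46], [29, 37, 17, 5]), ([27, 42], [29, 33, 30, 1]), ([19, 43], [29, 35, 1, 45]), ([19, 45], [29, 37, 17, 4]), ([20, 42], [29, 34, 25, 1]), ([19, 43], [29, 35, 22, 2]), ([28, 4], [29, 8, 25, 45]), ([27, 5], [29, 9, 22, 46]), ([28, 2], [29, 7, 30, 43]), ([28, 4], [29, 8, 46, 2]), ([20, 5], [29, 11, 17, 46]), ([27, 1], [29, 7, 30, 42]),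 ([28, 2], [29, 7, 46, 4]), ([27, 5], [29, 9, 45, 1]), ([3, 30], [29, 37, 1, 25]), ([19, 4], [29, 11, 17, 45]), ([20, 1], [29, 8, 25, 42]), ([27, 1], [29, 7, 45, 5]), ([20, 5], [29, 11, 43, 1]), ([3, 25], [29, 35, 1, 30]), ([3, 30], [29, 37, 2, 22]), ([19, 2], [29, 9, 22, 43]), ([20, 1], [29, 8, 43, 5]), ([19, 4], [29, 11, 42, 2]), ([3, 22], [29, 34, 2, 30]), ([3, 25], [29, 35, 4, 17]), ([19, 2], [29, 9, 42, 4]), ([3, 17], [29, 33, 4, 25]), ([3, 22], [29, 34, 5, 17]), ([3, 17], [29, 33, 5, 22])],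
  [],
  [],
  [],
  [([39, 45], [33, 27, 25, 24]), ([38, 46], [33, 28, 22, 26]), ([39, 45], [33, 27, 26, 23]), ([37, 47], [33, 29, 21, 25]), ([38, 46], [33, 28, 24, 21]), ([37, 47], [33, 29, 23, 22]), ([39, 24], [33, 12, 25, 45]), ([38, 26], [33, 13, 22, 46]), ([39, 23], [33, 11, 26, 45]), ([39, 24], [33, 12, 46, 2]), ([37, 25], [33, 13, 21, 47]), ([38, 21], [33, 11, 24, 46]), ([38, 26], [33, 13, 45, 1]), ([39, 23], [33, 11, 47, 2]), ([10, 47], [33, 40, 1, 25]), ([37, 22], [33, 12, 23, 47]), ([37, 25], [33, 13, 45, 0]), ([38, 21], [33, 11, 47, 1]), ([10, 47], [33, 40, 2, 22]), ([9, 46], [33, 40, 0, 26]), ([39, 2], [33, 3, 46, 24]), ([37, 22], [33, 12, 46, 0]), ([9, 46], [33, 40, 2, 21]), ([8, 45], [33, 40, 0, 24]), ([38, 1], [33, 3, 45, 26]), ([39, 2], [33, 3, 47, 23]), ([10, 25], [33, 28, 1, 47]), ([8, 45], [33, 40, 1, 23]), ([37, 0], [33, 3, 45, 25]),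 ([38, 1], [33, 3, 47, 21]), ([10, 22], [33, 27, 2, 47]), ([9, 26], [33, 29, 0, 46]), ([10, 25], [33, 28, 24, 0]), ([37, 0], [33, 3, 46, 22]), ([9, 21], [33, 27, 2, 46]), ([8, 24], [33, 29, 0, 45]), ([9, 26], [33, 29, 23, 1]), ([10, 22], [33, 27, 26, 0]), ([8, 23], [33, 28, 1, 45]), ([8, 24], [33, 29, 21, 2]), ([9, 21], [33, 27, 25, 1]), ([8, 23], [33, 28, 22, 2]), ([10, 0], [33, 11, 24, 25]), ([9, 1], [33, 12, 23, 26]), ([10, 0], [33, 11, 26, 22]), ([8, 2], [33, 13, 21, 24]), ([9, 1], [33, 12, 25, 21]), ([8, 2], [33, 13, 22, 23])],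
  [([40, 43], [34, 20, 30, 24]), ([40, 43], [34, 20, 31, 23]), ([36, 46], [34, 28, 17, 31]), ([35, 47], [34, 29, 16, 30]), ([36, 46], [34, 28, 24, 16]), ([35, 47], [34, 29, 23, 17]), ([40, 24], [34, 10, 30, 43]), ([40, 23], [34, 9, 31, 43]), ([40, 24], [34, 10, 46, 4]), ([36, 31], [34, 14, 17, 46]), ([40, 23], [34, 9, 47, 4]), ([35, 30], [34, 14, 16, 47]), ([36, 31], [34, 14, 43, 1]), ([12, 47], [34, 39, 1, 30]), ([35, 30], [34, 14, 43, 0]), ([11, 46], [34, 39, 0, 31]), ([12, 47], [34, 39, 4, 17]), ([36, 16], [34, 9, 24, 46]), ([40, 4], [34, 3, 46, 24]), ([11, 46], [34, 39, 4, 16]), ([35, 17], [34, 10, 23, 47]), ([40, 4], [34, 3, 47, 23]), ([36, 16], [34, 9, 47, 1]), ([12, 30], [34, 28, 1, 47]), ([35, 17], [34, 10, 46, 0]), ([11, 31], [34, 29, 0, 46]), ([7, 43], [34, 39, 0, 24]), ([12, 30], [34, 28, 24, 0]), ([36, 1], [34, 3, 43, 31]), ([7, 43], [34, 39,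 1, 23]), ([11, 31], [34, 29, 23, 1]), ([35, 0], [34, 3, 43, 30]), ([36, 1], [34, 3, 47, 16]), ([12, 17], [34, 20, 4, 47]), ([35, 0], [34, 3, 46, 17]), ([11, 16], [34, 20, 4, 46]), ([12, 17], [34, 20, 31, 0]), ([7, 24], [34, 29, 0, 43]), ([11, 16], [34, 20, 30, 1]), ([7, 23], [34, 28, 1, 43]), ([7, 24], [34, 29, 16, 4]), ([7, 23], [34, 28, 17, 4]), ([12, 0], [34, 9, 24, 30]), ([11, 1], [34, 10, 23, 31]), ([12, 0], [34, 9, 31, 17]), ([11, 1], [34, 10, 30, 16]), ([7, 4], [34, 14, 16, 24]), ([7, 4], [34, 14, 17, 23])],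
  [([40, 42], [35, 19, 30, 26]), ([40, 42], [35, 19, 32, 21]), ([36, 45], [35, 27, 17, 32]), ([34, 47], [35, 29, 15, 30]), ([36, 45], [35, 27, 26, 15]), ([40, 26], [35, 10, 30, 42]), ([34, 47], [35, 29, 21, 17]), ([40, 26], [35, 10, 45, 5]), ([36, 32], [35, 14, 17, 45]), ([36, 32], [35, 14, 42, 2]), ([13, 47], [35, 38, 2, 30]), ([40, 21], [35, 8, 32, 42]), ([13, 47], [35, 38, 5, 17]), ([40, 5], [35, 3, 45, 26]), ([40, 21], [35, 8, 47, 5]), ([34, 30], [35, 14, 15, 47]), ([40, 5], [35, 3, 47, 21]), ([34, 30], [35, 14, 42, 0]), ([13, 30], [35, 27, 2, 47]), ([11, 45], [35, 38, 0, 32]), ([36, 15], [35, 8, 26, 45]), ([11, 32], [35, 29, 0, 45]), ([11, 45], [35, 38, 5, 15]), ([13, 30], [35, 27, 26, 0]), ([34, 17], [35, 10, 21, 47]), ([36, 2], [35, 3, 42, 32]), ([36, 15], [35, 8, 47, 2]), ([11, 32], [35, 29, 21, 2]), ([36, 2], [35, 3, 47, 15]), ([34, 17], [35,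 10, 45, 0]), ([13, 17], [35, 19, 5, 47]), ([7, 42], [35, 38, 0, 26]), ([13, 17], [35, 19, 32, 0]), ([7, 26], [35, 29, 0, 42]), ([7, 42], [35, 38, 2, 21]), ([34, 0], [35, 3, 42, 30]), ([7, 26], [35, 29, 15, 5]), ([34, 0], [35, 3, 45, 17]), ([11, 15], [35, 19, 5, 45]), ([11, 15], [35, 19, 30, 2]), ([7, 21], [35, 27, 2, 42]), ([13, 0], [35, 8, 26, 30]), ([7, 21], [35, 27, 17, 5]), ([11, 2], [35, 10, 21, 32]), ([13, 0], [35, 8, 32, 17]), ([11, 2], [35, 10, 30, 15]), ([7, 5], [35, 14, 15, 26]), ([7, 5], [35, 14, 17, 21])],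
  [([40, 41], [36, 18, 31, 25]), ([40, 41], [36, 18, 32, 22]), ([35, 45], [36, 27, 16, 32]), ([34, 46], [36, 28, 15, 31]), ([35, 45], [36, 27, 25, 15]), ([40, 25], [36, 9, 31, 41]), ([34, 46], [36, 28, 22, 16]), ([40, 22], [36, 8, 32, 41]), ([40, 25], [36, 9, 45, 6]), ([35, 32], [36, 14, 16, 45]), ([40, 6], [36, 3, 45, 25]), ([40, 22], [36, 8, 46, 6]), ([34, 31], [36, 14, 15, 46]), ([35, 32], [36, 14, 41, 2]), ([13, 46], [36, 37, 2, 31]), ([40, 6], [36, 3, 46, 22]), ([34, 31], [36, 14, 41, 1]), ([13, 31], [36, 27, 2, 46]), ([12, 45], [36, 37, 1, 32]), ([13, 46], [36, 37, 6, 16]), ([12, 32], [36, 28, 1, 45]), ([12, 45], [36, 37, 6, 15]), ([13, 31], [36, 27, 25, 1]), ([12, 32], [36, 28, 22, 2]), ([35, 15], [36, 8, 25, 45]), ([34, 16], [36, 9, 22, 46]), ([35, 2], [36, 3, 41, 32]), ([35, 15], [36, 8, 46, 2]), ([34, 1], [36, 3, 41, 31]), ([35, 2], [36, 3, 46,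 15]), ([34, 16], [36, 9, 45, 1]), ([13, 16], [36, 18, 6, 46]), ([7, 41], [36, 37, 1, 25]), ([34, 1], [36, 3, 45, 16]), ([12, 15], [36, 18, 6, 45]), ([13, 16], [36, 18, 32, 1]), ([7, 25], [36, 28, 1, 41]), ([7, 41], [36, 37, 2, 22]), ([12, 15], [36, 18, 31, 2]), ([7, 22], [36, 27, 2, 41]), ([7, 25], [36, 28, 15, 6]), ([13, 1], [36, 8, 25, 31]), ([7, 22], [36, 27, 16, 6]), ([12, 2], [36, 9, 22, 32]), ([13, 1], [36, 8, 32, 16]), ([12, 2], [36, 9, 31, 15]), ([7, 6], [36, 14, 15, 25]), ([7, 6], [36, 14, 16, 22])],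
  [([39, 42], [37, 19, 25, 31]), ([39, 31], [37, 12, 25, 42]), ([38, 43], [37, 20, 22, 32]), ([39, 42], [37, 19, 32, 16]), ([38, 32], [37, 13, 22, 43]), ([39, 31], [37, 12, 43, 5]), ([38, 43], [37, 20, 31, 15]), ([33, 47], [37, 29, 15, 25]), ([38, 32], [37, 13, 42, 4]), ([14, 47], [37, 36, 4, 25]), ([33, 47], [37, 29, 16, 22]), ([14, 47], [37, 36, 5, 22]), ([39, 16], [37, 7, 32, 42]), ([39, 5], [37, 3, 43, 31]), ([38, 15], [37, 7, 31, 43]), ([39, 16], [37, 7, 47, 5]), ([33, 25], [37, 13, 15, 47]), ([38, 4], [37, 3, 42, 32]), ([39, 5], [37, 3, 47, 16]), ([38, 15], [37, 7, 47, 4]), ([14, 25], [37, 20, 4, 47]), ([33, 22], [37, 12, 16, 47]), ([33, 25], [37, 13, 42, 0]), ([9, 43], [37, 36, 0, 32]), ([38, 4], [37, 3, 47, 15]), ([14, 22], [37, 19, 5, 47]), ([14, 25], [37, 20, 31, 0]), ([33, 22], [37, 12, 43, 0]), ([9, 32], [37, 29, 0, 43]), ([8, 42], [37, 36,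 0, 31]), ([9, 43], [37, 36, 5, 15]), ([14, 22], [37, 19, 32, 0]), ([8, 31], [37, 29, 0, 42]), ([9, 32], [37, 29, 16, 4]), ([8, 42], [37, 36, 4, 16]), ([8, 31], [37, 29, 15, 5]), ([33, 0], [37, 3, 42, 25]), ([14, 0], [37, 7, 31, 25]), ([33, 0], [37, 3, 43, 22]), ([9, 15], [37, 19, 5, 43]), ([14, 0], [37, 7, 32, 22]), ([9, 4], [37, 12, 16, 32]), ([8, 16], [37, 20, 4, 42]), ([9, 15], [37, 19, 25, 4]), ([8, 5], [37, 13, 15, 31]), ([9, 4], [37, 12, 25, 15]), ([8, 16], [37, 20, 22, 5]), ([8, 5], [37, 13, 22, 16])],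
  [([39, 41], [38, 18, 26, 30]), ([39, 30], [38, 11, 26, 41]), ([37, 43], [38, 20, 21, 32]), ([39, 41], [38, 18, 32, 17]), ([37, 32], [38, 13, 21, 43]), ([39, 30], [38, 11, 43, 6]), ([37, 43], [38, 20, 30, 15]), ([33, 46], [38, 28, 15, 26]), ([37, 32], [38, 13, 41, 4]), ([14, 46], [38, 35, 4, 26]), ([33, 46], [38, 28, 17, 21]), ([39, 17], [38, 7, 32, 41]), ([14, 46], [38, 35, 6, 21]), ([39, 6], [38, 3, 43, 30]), ([39, 17], [38, 7, 46, 6]), ([33, 26], [38, 13, 15, 46]), ([39, 6], [38, 3, 46, 17]), ([14, 26], [38, 20, 4, 46]), ([33, 26], [38, 13, 41, 1]), ([10, 43], [38, 35, 1, 32]), ([37, 15], [38, 7, 30, 43]), ([14, 26], [38, 20, 30, 1]), ([10, 32], [38, 28, 1, 43]), ([10, 43], [38, 35, 6, 15]), ([37, 4], [38, 3, 41, 32]), ([37, 15], [38, 7, 46, 4]), ([33, 21], [38, 11, 17, 46]), ([10, 32], [38, 28, 17, 4]), ([37, 4], [38, 3, 46, 15]), ([14, 21], [38,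 18, 6, 46]), ([33, 21], [38, 11, 43, 1]), ([8, 41], [38, 35, 1, 30]), ([14, 21], [38, 18, 32, 1]), ([8, 30], [38, 28, 1, 41]), ([8, 41], [38, 35, 4, 17]), ([33, 1], [38, 3, 41, 26]), ([8, 30], [38, 28, 15, 6]), ([14, 1], [38, 7, 30, 26]), ([33, 1], [38, 3, 43, 21]), ([10, 15], [38, 18, 6, 43]), ([14, 1], [38, 7, 32, 21]), ([10, 4], [38, 11, 17, 32]), ([8, 17], [38, 20, 4, 41]), ([10, 15], [38, 18, 26, 4]), ([8, 6], [38, 13, 15, 30]), ([10, 4], [38, 11, 26, 15]), ([8, 17], [38, 20, 21, 6]), ([8, 6], [38, 13, 21, 17])],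
  [([38, 41], [39, 18, 24, 30]), ([38, 30], [39, 11, 24, 41]), ([37, 42], [39, 19, 23, 31]), ([38, 41], [39, 18, 31, 17]), ([37, 31], [39, 12, 23, 42]), ([38, 30], [39, 11, 42, 6]), ([37, 42], [39, 19, 30, 16]), ([33, 45], [39, 27, 16, 24]), ([37, 31], [39, 12, 41, 5]), ([14, 45], [39, 34, 5, 24]), ([33, 45], [39, 27, 17, 23]), ([38, 17], [39, 7, 31, 41]), ([14, 45], [39, 34, 6, 23]), ([38, 6], [39, 3, 42, 30]), ([37, 16], [39, 7, 30, 42]), ([38, 17], [39, 7, 45, 6]), ([33, 24], [39, 12, 16, 45]), ([37, 5], [39, 3, 41, 31]), ([38, 6], [39, 3, 45, 17]), ([37, 16], [39, 7, 45, 5]), ([14, 24], [39, 19, 5, 45]), ([33, 23], [39, 11, 17, 45]), ([33, 24], [39, 12, 41, 2]), ([10, 42], [39, 34, 2, 31]), ([37, 5], [39, 3, 45, 16]), ([14, 23], [39, 18, 6, 45]), ([33, 23], [39, 11, 42, 2]), ([14, 24], [39, 19, 30, 2]), ([10, 31], [39, 27, 2, 42]), ([9, 41], [39, 34,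 2, 30]), ([10, 42], [39, 34, 6, 16]), ([14, 23], [39, 18, 31, 2]), ([9, 30], [39, 27, 2, 41]), ([9, 41], [39, 34, 5, 17]), ([10, 31], [39, 27, 17, 5]), ([33, 2], [39, 3, 41, 24]), ([9, 30], [39, 27, 16, 6]), ([33, 2], [39, 3, 42, 23]), ([14, 2], [39, 7, 30, 24]), ([10, 16], [39, 18, 6, 42]), ([14, 2], [39, 7, 31, 23]), ([9, 17], [39, 19, 5, 41]), ([10, 5], [39, 11, 17, 31]), ([10, 16], [39, 18, 24, 5]), ([9, 6], [39, 12, 16, 30]), ([10, 5], [39, 11, 24, 16]), ([9, 17], [39, 19, 23, 6]), ([9, 6], [39, 12, 23, 17])],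
  [([36, 41], [40, 18, 24, 25]), ([36, 25], [40, 9, 24, 41]), ([35, 42], [40, 19, 23, 26]), ([36, 41], [40, 18, 26, 22]), ([35, 26], [40, 10, 23, 42]), ([36, 22], [40, 8, 26, 41]), ([34, 43], [40, 20, 21, 24]), ([35, 42], [40, 19, 25, 21]), ([36, 25], [40, 9, 42, 6]), ([34, 24], [40, 10, 21, 43]), ([35, 21], [40, 8, 25, 42]), ([34, 43], [40, 20, 22, 23]), ([36, 22], [40, 8, 43, 6]), ([35, 26], [40, 10, 41, 5]), ([13, 43], [40, 33, 5, 24]), ([34, 23], [40, 9, 22, 43]), ([35, 21], [40, 8, 43, 5]), ([34, 24], [40, 10, 41, 4]), ([12, 42], [40, 33, 4, 26]), ([13, 43], [40, 33, 6, 23]), ([36, 6], [40, 3, 42, 25]), ([34, 23], [40, 9, 42, 4]), ([11, 41], [40, 33, 4, 25]), ([12, 42], [40, 33, 6, 21]), ([36, 6], [40, 3, 43, 22]), ([35, 5], [40, 3, 41, 26]), ([13, 24], [40, 19, 5, 43]), ([11, 41], [40, 33, 5, 22]), ([35, 5], [40, 3, 43, 21]), ([34, 4], [40, 3, 41,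 24]), ([12, 26], [40, 20, 4, 42]), ([13, 23], [40, 18, 6, 43]), ([13, 24], [40, 19, 25, 4]), ([34, 4], [40, 3, 42, 23]), ([11, 25], [40, 20, 4, 41]), ([12, 21], [40, 18, 6, 42]), ([13, 4], [40, 8, 25, 24]), ([12, 26], [40, 20, 22, 5]), ([13, 23], [40, 18, 26, 4]), ([11, 22], [40, 19, 5, 41]), ([12, 5], [40, 9, 22, 26]), ([13, 4], [40, 8, 26, 23]), ([11, 25], [40, 20, 21, 6]), ([12, 21], [40, 18, 24, 5]), ([11, 6], [40, 10, 21, 25]), ([12, 5], [40, 9, 24, 21]), ([11, 22], [40, 19, 23, 6]), ([11, 6], [40, 10, 23, 22])],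
  [],
  [],
  [],
  [([29, 30], [44, 11, 24, 25]), ([29, 25], [44, 9, 24, 30]), ([28, 31], [44, 12, 23, 26]), ([29, 30], [44, 11, 26, 22]), ([28, 26], [44, 10, 23, 31]), ([29, 22], [44, 8, 26, 30]), ([27, 32], [44, 13, 21, 24]), ([29, 25], [44, 9, 31, 17]), ([28, 31], [44, 12, 25, 21]), ([27, 24], [44, 10, 21, 32]), ([29, 17], [44, 7, 31, 25]), ([28, 21], [44, 8, 25, 31]), ([20, 32], [44, 14, 16, 24]), ([27, 32], [44, 13, 22, 23]), ([29, 22], [44, 8, 32, 17]), ([28, 26], [44, 10, 30, 16]), ([20, 24], [44, 12, 16, 32]), ([27, 23], [44, 9, 22, 32]), ([29, 17], [44, 7, 32, 22]), ([28, 16], [44, 7, 30, 26]), ([19, 31], [44, 14, 15, 26]), ([20, 32], [44, 14, 17, 23]), ([28, 21], [44, 8, 32, 16]), ([27, 24], [44, 10, 30, 15]), ([19, 26], [44, 13, 15, 31]), ([20, 23], [44, 11, 17, 32]), ([28, 16], [44, 7, 32, 21]), ([27, 15], [44, 7, 30, 24]), ([18, 30], [44,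 14, 15, 25]), ([19, 31], [44, 14, 17, 21]), ([27, 23], [44, 9, 31, 15]), ([20, 24], [44, 12, 25, 15]), ([18, 25], [44, 13, 15, 30]), ([19, 21], [44, 11, 17, 31]), ([27, 15], [44, 7, 31, 23]), ([20, 15], [44, 8, 25, 24]), ([18, 30], [44, 14, 16, 22]), ([19, 26], [44, 13, 22, 16]), ([20, 23], [44, 11, 26, 15]), ([18, 22], [44, 12, 16, 30]), ([19, 16], [44, 9, 22, 26]), ([20, 15], [44, 8, 26, 23]), ([18, 25], [44, 13, 21, 17]), ([19, 21], [44, 11, 24, 16]), ([18, 17], [44, 10, 21, 25]), ([19, 16], [44, 9, 24, 21]), ([18, 22], [44, 12, 23, 17]), ([18, 17], [44, 10, 23, 22])],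
  [],
  [],
  []
]
abbrev Omb : List (List ℕ × List ℕ) := OmBb.flatten

theorem b_hN : R.N ≤ chevF4.nroots := by decide +kernel
theorem b_hVnd : Vb.Nodup := by decide +kernel
theorem b_hVA : ∀ r ∈ Vb, r ∈ Ab := by decide +kernel
theorem b_hAP : ∀ r ∈ Ab, R.N ≤ r ∧ r < chevF4.nroots := by decide +kernel
theorem b_hJ : ∀ j ∈ Jb, j < chevF4.rank ∧ chevF4.simple j ∉ KLb.map Prod.fst := by decide +kernel
theorem b_hU : ∀ s ∈ List.range' R.N (chevF4.nroots - R.N), ∀ a ∈ Ab, s ≠ a → ∀ c ∈ oddT chevF4 s a, c.1 ∈ Ab ∧ c.1 ∉ Vb := by decide +kernel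
theorem b_hYP : ∀ q ∈ List.range' R.N (chevF4.nroots - R.N), q ∉ KLb.map Prod.fst → ∀ r ∈ Vb, q ≠ r → oddT chevF4 q r = [] := by decide +kernel
theorem b_hYN : ∀ j ∈ Jb, ∀ r ∈ Vb, r ≠ chevF4.neg (chevF4.simple j) ∧ r ≠ chevF4.neg (chevF4.neg (chevF4.simple j)) ∧ oddT chevF4 (chevF4.neg (chevF4.simple j)) r = [] := by decide +kernel
theorem b_hwf : ∀ j ∈ Jb, ∀ r ∈ Vb, X.wf j r = r := by decide +kernel
theorem b_hFn : ∀ p ∈ Fnb, ∀ s ∈ Ab, (p.2 : ℤ) + 1 ≤ linL R chevF4 p.1 s := by decide +kernel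
theorem b_hBn : ∀ p ∈ Bnb, 0 < linL R chevF4 p.2 p.1 ∧ ∀ s ∈ Ab, s ≠ p.1 → linL R chevF4 p.2 p.1 < linL R chevF4 p.2 s := by decide +kernel
theorem b_hBV : ∀ r ∈ Vb, r ∈ Bnb.map Prod.fst := by decide +kernel
theorem b_hOm0 : (Vb, (List.range chevF4.rank).map chevF4.simple) ∈ Omb := by decide +kernel
theorem b_hOm1B : omClosedB X chevF4.rank OmBb = true := by decide +kernel
theorem b_hOm1 : ∀ p ∈ Omb, ∀ i < chevF4.rank, (p.1.map (X.wf i), p.2.map (X.wf i)) ∈ Omb := omClosed_of_B b_hOm1B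
theorem b_hfix : ∀ p ∈ Omb, (∀ x ∈ p.1, ∀ q ∈ Fnb, (q.2 : ℤ) + 1 ≤ linL R chevF4 q.1 x) → p.1 = Vb := by decide +kernel
theorem b_hneg : ∀ p ∈ Omb, p.1 = Vb → ∀ i < chevF4.rank, i ∉ Jb → R.N ≤ p.2.getD i 0 := by decide +kernel
theorem b_hdual : ∀ e ∈ dualb, (∀ p ∈ e.2, p.1 ∈ Vb) ∧ ∀ i' < chevF4.rank, (e.2.map fun p => p.2 * chevF4.cartan i' p.1).sum = if i' = e.1 then 1 else 0 := by decide +kernel
theorem b_hdual2 : ∀ i < chevF4.rank, i ∉ Jb → i ∈ dualb.map Prod.fst := by decide +kernel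
theorem b_hkill : KillOK R chevF4 Vb [] KLb := ⟨by decide +kernel, ⟨by decide +kernel, ⟨by decide +kernel, ⟨by decide +kernel, trivial⟩⟩⟩⟩

theorem tabb : CentTab R chevF4 X Vb Ab Jb KLb Fnb Bnb Omb dualb where
  hN := b_hN
  hVnd := b_hVnd
  hVA := b_hVA
  hAP := b_hAP
  hJ := b_hJ
  hU := b_hU
  hYP := b_hYP
  hYN := b_hYN
  hwf := b_hwf
  hFn := b_hFn
  hBn := b_hBn
  hBV := b_hBV
  hOm0 := b_hOm0
  hOm1 := b_hOm1
  hfix := b_hfix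
  hneg := b_hneg
  hdual := b_hdual
  hdual2 := b_hdual2
  hkill := b_hkill

end Cfsg.Agent.Lib.ChevInv.CentG.TabF4b
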