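import Mathlib
import Cfsg.Agent.Lib.ChevInv.Main
import Cfsg.Agent.Lib.Chev.RelE8
import Cfsg.Agent.Lib.Chev.RootE8

/-!
# Tables for the involution classes in type E8 (root data)
-/

set_option autoImplicit false
set_option maxRecDepth 100000

namespace Cfsg.Agent.Lib.ChevInv.InvE8

open Cfsg Cfsg.Lie Matrix Cfsg.Agent.Lib.Chev Cfsg.Agent.Lib.ChevInv
open Cfsg.Agent.Lib.Chev.TabE8 Cfsg.Agent.Lib.Chev.RootE8T

theorem c1 : ∀ r < chevE8.nroots, ∀ i < chevE8.rank, (chevE8.coroot.getD r #[]).getD i 0 = R.rcAt r i := by decide +kernel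
theorem c2 : ∀ r < chevE8.nroots, X.chiOf r r = 2 := by decide +kernel
theorem c3 : ∀ r < chevE8.nroots, ∀ s < chevE8.nroots, X.chiOf r s = X.chiOf s r := by decide +kernel
theorem c4 : ∀ r < chevE8.nroots, ∀ s < chevE8.nroots, s ≠ r → s ≠ chevE8.neg r → X.chiOf r s = -1 ∨ X.chiOf r s = 0 ∨ X.chiOf r s = 1 := by decide +kernel
theorem c5 : ∀ r < chevE8.nroots, ∀ s < chevE8.nroots, X.chiOf r s = -1 → oneB chevE8 r s = true := by decide +kernel

theorem hF : Full T X R chevE8 := ⟨RelE8.checks, RootE8.checks⟩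

theorem hSL : SL R chevE8 := SL_of hF ⟨c1, c2, c3, c4, c5⟩

/-- The representatives (with the empty list first). -/
def Reps : List (List ℕ) := [[], [239], [232, 233], [228, 222, 218], [226, 220, 213, 216]]

/-- The table of nodes of the tower. -/
def Tb : List (List ℕ × ICert) := [
  ([], .wm [] []),
  ([239], .wm [] [239]),
  ([226, 239], .wm [1, 3, 4, 5, 6, 7] [232, 233]),
  ([159, 226, 239], .wm [5, 4, 3, 1, 2, 3, 4, 5, 6, 7, 4, 3, 2, 0] [228, 222, 218]),
  ([121, 159, 226, 239], .red [122, 160, 161, 227] [121, 159, 226]),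
  ([152, 159, 226, 239], .wm [7, 6, 5, 4, 3, 1, 2, 3, 4, 5, 6, 7, 6, 5, 4, 3, 2, 0, 4, 5] [226, 220, 213, 216]),
  ([121, 152, 159, 226, 239], .red [122, 160, 161, 227] [121, 152, 159, 226]),
  ([126, 152, 159, 226, 239], .red [129, 155, 158, 229] [126, 152, 159, 226]),
  ([135, 152, 159, 226, 239], .red [163, 174, 181, 184] [135, 152, 159, 239]),
  ([141, 152, 159, 226, 239], .red [173, 196, 203, 206] [141, 152, 159, 226]),
  ([121, 126, 152, 159, 226, 239], .red [124, 127, 128, 153] [121, 126, 152, 226, 239]),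
  ([121, 135, 152, 159, 226, 239], .red [183, 192, 193, 215] [121, 135, 152, 159, 226]),
  ([121, 141, 152, 159, 226, 239], .red [167, 171, 172, 194] [121, 141, 152, 159, 239]),
  ([126, 135, 152, 159, 226, 239], .red [180, 187, 190, 217] [126, 135, 152, 159, 226]),
  ([126, 141, 152, 159, 226, 239], .red [165, 169, 170, 197] [126, 141, 152, 159, 239]),
  ([135, 141, 152, 159, 226, 239], .red [140, 146, 151, 231] [135, 141, 152, 159, 226]),
  ([121, 126, 135, 152, 159, 226, 239], .red [176, 178, 179, 185] [121, 126, 135, 152, 159, 239]),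
  ([121, 126, 141, 152, 159, 226, 239], .red [199, 201, 202, 208] [121, 126, 141, 152, 159, 226]),
  ([121, 135, 141, 152, 159, 226, 239], .red [133, 138, 139, 144] [121, 135, 141, 152, 226, 239]),
  ([126, 135, 141, 152, 159, 226, 239], .red [131, 136, 137, 142] [126, 135, 141, 159, 226, 239]),
  ([121, 126, 135, 141, 152, 159, 226, 239], .red [176, 178, 179, 185] [121, 126, 135, 141, 152, 159, 239])
]


end Cfsg.Agent.Lib.ChevInv.InvE8
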