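import Mathlib
import Cfsg.Agent.Lib.ChevInv.InvE8A

/-!
# Tables for the involution classes in type E8 (the tables)
-/

set_option autoImplicit false
set_option maxRecDepth 100000

namespace Cfsg.Agent.Lib.ChevInv.InvE8

open Cfsg Cfsg.Lie Matrix Cfsg.Agent.Lib.Chev Cfsg.Agent.Lib.ChevInv
open Cfsg.Agent.Lib.Chev.TabE8 Cfsg.Agent.Lib.Chev.RootE8T

theorem tab_ok : tableB X chevE8 R.N 100 Reps Tb = true := by decide +kernel

theorem tree_ok : treeB X chevE8 (inTable Tb) 8 [] = true := by decide +kernel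


end Cfsg.Agent.Lib.ChevInv.InvE8
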