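import Mathlib
import Cfsg.Agent.Lib.ChevInv.InvE8T
import Cfsg.Agent.Lib.ChevInv.InvE8R0
import Cfsg.Agent.Lib.ChevInv.InvE8R1
import Cfsg.Agent.Lib.ChevInv.InvE8R2
import Cfsg.Agent.Lib.ChevInv.InvE8R3

/-!
# Tables for the involution classes in type E8 (the conclusion)
-/

set_option autoImplicit false
set_option maxRecDepth 100000

namespace Cfsg.Agent.Lib.ChevInv.InvE8

open Cfsg Cfsg.Lie Matrix Cfsg.Agent.Lib.Chev Cfsg.Agent.Lib.ChevInv
open Cfsg.Agent.Lib.Chev.TabE8 Cfsg.Agent.Lib.Chev.RootE8T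

/-- The representatives with their ranks. -/
def RR : List (List ℕ × ℕ) := [([239], 58), ([232, 233], 92), ([228, 222, 218], 110), ([226, 220, 213, 216], 120)]

theorem orth_all : ∀ p ∈ RR, OrthL R chevE8 p.1 := by
  intro p hp
  have h : RR.all (fun p => orthB X chevE8 p.1) = true := by decide +kernel
  exact orthB_spec hF hSL c1 ((List.all_eq_true.1 h) p hp)

theorem rk_all {F : Type*} [Field F] [CharP F 2] :
    ∀ p ∈ RR, (((xL hF F p.1 : GL chevE8.Idx F) : Matrix chevE8.Idx chevE8.Idx F) - 1).rank = p.2 := by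
  intro p hp
  simp only [RR, List.mem_cons, List.not_mem_nil, or_false] at hp
  rcases hp with rfl|rfl|rfl|rfl
  exacts [rk0, rk1, rk2, rk3]

theorem nd : (RR.map Prod.snd).Nodup := by decide +kernel

theorem pos : ∀ p ∈ RR, p.2 ≠ 0 := by decide +kernel

theorem main {F : Type*} [Field F] [Fintype F] [CharP F 2] : FinalShape hF F RR :=
  final_shape hF hSL (fun t ht htt => by
    obtain ⟨h, hh, N, hN, hE⟩ := classify_tables hF hSL tab_ok tree_ok ht htt
    refine ⟨h, hh, N, ?_, hE⟩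
    simpa [Reps, RR] using hN) orth_all rk_all nd pos

end Cfsg.Agent.Lib.ChevInv.InvE8
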