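import Mathlib
import Cfsg.Agent.Lib.ChevInv.Gen6
import Cfsg.Agent.Lib.Chev.RelF4
import Cfsg.Agent.Lib.Chev.RootF4

/-!
# Tables for the involution classes in type F4
-/

set_option autoImplicit false
set_option maxRecDepth 100000

namespace Cfsg.Agent.Lib.ChevInv.InvF4

open Cfsg Cfsg.Lie Matrix Cfsg.Agent.Lib.Chev Cfsg.Agent.Lib.ChevInv
open Cfsg.Agent.Lib.Chev.TabF4 Cfsg.Agent.Lib.Chev.RootF4T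

theorem hF : Full T X R chevF4 := ⟨RelF4.checks, RootF4.checks⟩

/-- The representatives (with the empty list first). -/
def Reps : List (List ℕ) := [[], [47], [44], [47, 44], [39, 45]]

/-- The table. -/
def Tb : List (List ℕ × RCert) := [
  ([], .wm [] []),
  ([24], .wm [3, 2, 1, 0, 2, 1, 2] [47]),
  ([24, 27], .wm [1, 2, 1, 0, 2, 1, 2, 3] [34, 1]),
  ([24, 27, 32], .wm [0, 2, 1, 0, 2, 3, 2, 1, 0, 2, 1, 2, 3] [0, 6, 19]),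
  ([24, 27, 32, 45], .wm [2, 1, 2, 3, 2, 1, 0, 2, 1, 2, 3, 2, 1, 0, 2, 1] [0, 3, 17, 22]),
  ([24, 27, 45], .wm [1, 2, 3, 2, 1, 0, 2, 1, 2, 3, 2, 1, 0, 2, 1] [0, 3, 17]),
  ([24, 32], .wm [0, 1, 2, 3, 2, 1, 0, 2, 1, 2, 3] [0, 6]),
  ([24, 32, 43], .wm [1, 0, 2, 1, 2, 3, 2, 1, 0, 2, 1, 2, 3] [0, 6, 17]),
  ([24, 32, 43, 45], .wm [2, 1, 0, 2, 1, 2, 3, 2, 1, 0, 2, 1, 2, 3] [0, 6, 17, 22]),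
  ([24, 32, 44], .wm [2, 1, 0, 2, 1, 2, 3, 2, 1, 0, 2, 1, 2, 3] [0, 6, 19]),
  ([24, 32, 44, 45], .wm [0, 1, 2, 1, 0, 2, 1, 2, 3, 2, 1, 0, 2, 1, 2, 3, 2, 1, 0, 2, 1] [0, 3, 17, 22]),
  ([24, 32, 45], .wm [1, 0, 2, 1, 0, 2, 3, 2, 1, 0, 2, 1, 2, 3] [0, 6, 17]),
  ([24, 33], .wm [0, 2, 1, 0, 2, 1, 2, 3] [34, 1]),
  ([24, 33, 43], .wm [1, 0, 2, 3, 2, 1, 0, 2, 1, 2, 3, 2, 1, 0, 2] [0, 3, 17]),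
  ([24, 33, 43, 45], .wm [2, 1, 0, 2, 3, 2, 1, 0, 2, 1, 2, 3, 2, 1, 0, 2] [0, 3, 17, 22]),
  ([24, 33, 45], .wm [0, 1, 2, 1, 0, 2, 1, 3, 2, 1, 0, 2, 1, 2, 3] [0, 6, 19]),
  ([24, 34], .wm [2, 1, 0, 2, 1, 2, 3] [34, 1]),
  ([24, 34, 43], .wm [0, 2, 1, 0, 2, 1, 3, 2, 1, 0, 2, 1, 2, 3] [0, 6, 19]),
  ([24, 34, 43, 45], .wm [2, 1, 0, 2, 3, 2, 1, 0, 2, 1, 2, 3, 2, 1, 0, 2, 1] [0, 3, 17, 22]),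
  ([24, 34, 45], .wm [1, 0, 2, 3, 2, 1, 0, 2, 1, 2, 3, 2, 1, 0, 2, 1] [0, 3, 17]),
  ([24, 39], .wm [0, 2, 1, 0, 3, 2, 1, 2, 3] [34, 1]),
  ([24, 39, 43], .wm [0, 1, 0, 2, 1, 2, 3, 2, 1, 0, 2, 1, 2, 3, 2, 1, 0, 2] [0, 3, 17]),
  ([24, 39, 43, 45], .wm [0, 2, 1, 0, 2, 1, 2, 3, 2, 1, 0, 2, 1, 2, 3, 2, 1, 0, 2] [0, 3, 17, 22]),
  ([24, 39, 45], .wm [0, 1, 2, 1, 0, 2, 1, 2, 3, 2, 1, 0, 2, 1, 2, 3] [0, 6, 19]),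
  ([24, 40], .wm [2, 1, 0, 3, 2, 1, 2, 3] [34, 1]),
  ([24, 40, 43], .wm [0, 2, 1, 0, 2, 1, 2, 3, 2, 1, 0, 2, 1, 2, 3] [0, 6, 19]),
  ([24, 40, 43, 45], .wm [0, 2, 1, 0, 2, 1, 2, 3, 2, 1, 0, 2, 1, 2, 3, 2, 1, 0, 2, 1] [0, 3, 17, 22]),
  ([24, 40, 45], .wm [0, 1, 0, 2, 1, 2, 3, 2, 1, 0, 2, 1, 2, 3, 2, 1, 0, 2, 1] [0, 3, 17]),
  ([24, 43], .wm [0, 1, 2, 1, 3, 2, 1, 0, 2, 1, 2, 3] [0, 6]),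
  ([24, 43, 45], .wm [1, 0, 2, 1, 0, 2, 1, 3, 2, 1, 0, 2, 1, 2, 3] [0, 6, 17]),
  ([24, 44], .wm [2, 1, 0, 3, 2, 1, 0, 2, 3] [34, 1]),
  ([24, 44, 45], .wm [0, 1, 0, 2, 1, 0, 2, 3, 2, 1, 0, 2, 1, 2, 3, 2, 1, 0, 2, 1] [0, 3, 17]),
  ([24, 45], .wm [0, 1, 2, 1, 0, 3, 2, 1, 0, 2, 1, 2, 3] [0, 6]),
  ([25], .wm [3, 2, 1, 0, 2, 1, 3] [47]),
  ([25, 29], .wm [1, 2, 1, 0, 2, 1, 3, 2] [34, 1]),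
  ([25, 29, 30], .wm [0, 2, 1, 0, 2, 3, 2, 1, 0, 2, 1, 3, 2] [0, 6, 19]),
  ([25, 29, 30, 47], .wm [2, 1, 2, 3, 2, 1, 0, 2, 1, 2, 3, 2, 1, 0, 2, 1, 2, 3] [0, 3, 17, 22]),
  ([25, 29, 47], .wm [1, 2, 3, 2, 1, 0, 2, 1, 2, 3, 2, 1, 0, 2, 1, 2, 3] [0, 3, 17]),
  ([25, 30], .wm [0, 1, 2, 3, 2, 1, 0, 2, 1, 3, 2] [0, 6]),
  ([25, 30, 41], .wm [1, 0, 2, 1, 2, 3, 2, 1, 0, 2, 1, 3, 2] [0, 6, 17]),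
  ([25, 30, 41, 47], .wm [2, 1, 0, 2, 1, 2, 3, 2, 1, 0, 2, 1, 3, 2] [0, 6, 17, 22]),
  ([25, 30, 44], .wm [2, 1, 0, 2, 1, 2, 3, 2, 1, 0, 2, 1, 3, 2] [0, 6, 19]),
  ([25, 30, 44, 47], .wm [0, 1, 2, 1, 0, 2, 1, 2, 3, 2, 1, 0, 2, 1, 2, 3, 2, 1, 0, 2, 1, 2, 3] [0, 3, 17, 22]),
  ([25, 30, 47], .wm [1, 0, 2, 1, 0, 2, 3, 2, 1, 0, 2, 1, 3, 2] [0, 6, 17]),
  ([25, 33], .wm [0, 2, 1, 0, 2, 1, 3, 2] [34, 1]),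
  ([25, 33, 41], .wm [1, 0, 2, 3, 2, 1, 0, 2, 1, 3, 2, 1, 0] [0, 3, 17]),
  ([25, 33, 41, 47], .wm [2, 1, 0, 2, 3, 2, 1, 0, 2, 1, 3, 2, 1, 0] [0, 3, 17, 22]),
  ([25, 33, 47], .wm [0, 1, 2, 1, 0, 2, 1, 3, 2, 1, 0, 2, 1, 3, 2] [0, 6, 19]),
  ([25, 36], .wm [2, 1, 0, 2, 1, 3, 2] [34, 1]),
  ([25, 36, 41], .wm [0, 2, 1, 0, 2, 1, 3, 2, 1, 0, 2, 1, 3, 2] [0, 6, 19]),
  ([25, 36, 41, 47], .wm [2, 1, 0, 2, 3, 2, 1, 0, 2, 1, 2, 3, 2, 1, 0, 2, 1, 2, 3] [0, 3, 17, 22]),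
  ([25, 36, 47], .wm [1, 0, 2, 3, 2, 1, 0, 2, 1, 2, 3, 2, 1, 0, 2, 1, 2, 3] [0, 3, 17]),
  ([25, 37], .wm [0, 2, 1, 0, 2, 3, 2, 1, 2] [34, 1]),
  ([25, 37, 41], .wm [0, 1, 0, 2, 1, 2, 3, 2, 1, 0, 2, 1, 3, 2, 1, 0] [0, 3, 17]),
  ([25, 37, 41, 47], .wm [0, 2, 1, 0, 2, 1, 2, 3, 2, 1, 0, 2, 1, 3, 2, 1, 0] [0, 3, 17, 22]),
  ([25, 37, 47], .wm [0, 1, 2, 1, 0, 2, 1, 2, 3, 2, 1, 0, 2, 1, 3, 2] [0, 6, 19]),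
  ([25, 40], .wm [2, 1, 0, 2, 3, 2, 1, 2] [34, 1]),
  ([25, 40, 41], .wm [0, 2, 1, 0, 2, 1, 2, 3, 2, 1, 0, 2, 1, 3, 2] [0, 6, 19]),
  ([25, 40, 41, 47], .wm [0, 2, 1, 0, 2, 1, 2, 3, 2, 1, 0, 2, 1, 2, 3, 2, 1, 0, 2, 1, 2, 3] [0, 3, 17, 22]),
  ([25, 40, 47], .wm [0, 1, 0, 2, 1, 2, 3, 2, 1, 0, 2, 1, 2, 3, 2, 1, 0, 2, 1, 2, 3] [0, 3, 17]),
  ([25, 41], .wm [0, 1, 2, 1, 3, 2, 1, 0, 2, 1, 3, 2] [0, 6]),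
  ([25, 41, 47], .wm [1, 0, 2, 1, 0, 2, 1, 3, 2, 1, 0, 2, 1, 3, 2] [0, 6, 17]),
  ([25, 44], .wm [2, 1, 0, 2, 3, 2, 1, 0, 2] [34, 1]),
  ([25, 44, 47], .wm [0, 1, 0, 2, 1, 0, 2, 3, 2, 1, 0, 2, 1, 2, 3, 2, 1, 0, 2, 1, 2, 3] [0, 3, 17]),
  ([25, 47], .wm [0, 1, 2, 1, 0, 3, 2, 1, 0, 2, 1, 3, 2] [0, 6]),
  ([26], .wm [3, 2, 1, 0, 2, 1] [47]),
  ([26, 28], .wm [1, 2, 1, 0, 2, 1, 2, 3, 2] [34, 1]),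
  ([26, 28, 31], .wm [0, 2, 1, 0, 2, 3, 2, 1, 0, 2, 1, 2, 3, 2] [0, 6, 19]),
  ([26, 28, 31, 46], .wm [2, 1, 2, 3, 2, 1, 0, 2, 1, 2, 3, 2, 1, 0, 2, 1, 2] [0, 3, 17, 22]),
  ([26, 28, 46], .wm [1, 2, 3, 2, 1, 0, 2, 1, 2, 3, 2, 1, 0, 2, 1, 2] [0, 3, 17]),
  ([26, 31], .wm [0, 1, 2, 3, 2, 1, 0, 2, 1, 2, 3, 2] [0, 6]),
  ([26, 31, 42], .wm [1, 0, 2, 1, 2, 3, 2, 1, 0, 2, 1, 2, 3, 2] [0, 6, 17]),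
  ([26, 31, 42, 46], .wm [2, 1, 0, 2, 1, 2, 3, 2, 1, 0, 2, 1, 2, 3, 2] [0, 6, 17, 22]),
  ([26, 31, 44], .wm [2, 1, 0, 2, 1, 2, 3, 2, 1, 0, 2, 1, 2, 3, 2] [0, 6, 19]),
  ([26, 31, 44, 46], .wm [0, 1, 2, 1, 0, 2, 1, 2, 3, 2, 1, 0, 2, 1, 2, 3, 2, 1, 0, 2, 1, 2] [0, 3, 17, 22]),
  ([26, 31, 46], .wm [1, 0, 2, 1, 0, 2, 3, 2, 1, 0, 2, 1, 2, 3, 2] [0, 6, 17]),
  ([26, 33], .wm [0, 2, 1, 0, 2, 1, 2, 3, 2] [34, 1]),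
  ([26, 33, 42], .wm [1, 0, 2, 3, 2, 1, 0, 2, 1, 2, 3, 2, 1, 0] [0, 3, 17]),
  ([26, 33, 42, 46], .wm [2, 1, 0, 2, 3, 2, 1, 0, 2, 1, 2, 3, 2, 1, 0] [0, 3, 17, 22]),
  ([26, 33, 46], .wm [0, 1, 2, 1, 0, 2, 1, 3, 2, 1, 0, 2, 1, 2, 3, 2] [0, 6, 19]),
  ([26, 35], .wm [2, 1, 0, 2, 1, 2, 3, 2] [34, 1]),
  ([26, 35, 42], .wm [0, 2, 1, 0, 2, 1, 3, 2, 1, 0, 2, 1, 2, 3, 2] [0, 6, 19]),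
  ([26, 35, 42, 46], .wm [2, 1, 0, 2, 3, 2, 1, 0, 2, 1, 2, 3, 2, 1, 0, 2, 1, 2] [0, 3, 17, 22]),
  ([26, 35, 46], .wm [1, 0, 2, 3, 2, 1, 0, 2, 1, 2, 3, 2, 1, 0, 2, 1, 2] [0, 3, 17]),
  ([26, 38], .wm [0, 2, 1, 0, 2, 3, 2, 1, 2, 3] [34, 1]),
  ([26, 38, 42], .wm [0, 1, 0, 2, 1, 2, 3, 2, 1, 0, 2, 1, 2, 3, 2, 1, 0] [0, 3, 17]),
  ([26, 38, 42, 46], .wm [0, 2, 1, 0, 2, 1, 2, 3, 2, 1, 0, 2, 1, 2, 3, 2, 1, 0] [0, 3, 17, 22]),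
  ([26, 38, 46], .wm [0, 1, 2, 1, 0, 2, 1, 2, 3, 2, 1, 0, 2, 1, 2, 3, 2] [0, 6, 19]),
  ([26, 40], .wm [2, 1, 0, 2, 3, 2, 1, 2, 3] [34, 1]),
  ([26, 40, 42], .wm [0, 2, 1, 0, 2, 1, 2, 3, 2, 1, 0, 2, 1, 2, 3, 2] [0, 6, 19]),
  ([26, 40, 42, 46], .wm [0, 2, 1, 0, 2, 1, 2, 3, 2, 1, 0, 2, 1, 2, 3, 2, 1, 0, 2, 1, 2] [0, 3, 17, 22]),
  ([26, 40, 46], .wm [0, 1, 0, 2, 1, 2, 3, 2, 1, 0, 2, 1, 2, 3, 2, 1, 0, 2, 1, 2] [0, 3, 17]),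
  ([26, 42], .wm [0, 1, 2, 1, 3, 2, 1, 0, 2, 1, 2, 3, 2] [0, 6]),
  ([26, 42, 46], .wm [1, 0, 2, 1, 0, 2, 1, 3, 2, 1, 0, 2, 1, 2, 3, 2] [0, 6, 17]),
  ([26, 44], .wm [2, 1, 0, 2, 3, 2, 1, 0, 2, 3] [34, 1]),
  ([26, 44, 46], .wm [0, 1, 0, 2, 1, 0, 2, 3, 2, 1, 0, 2, 1, 2, 3, 2, 1, 0, 2, 1, 2] [0, 3, 17]),
  ([26, 46], .wm [0, 1, 2, 1, 0, 3, 2, 1, 0, 2, 1, 2, 3, 2] [0, 6]),
  ([27], .wm [0, 1, 2, 1, 0, 3, 2] [44]),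
  ([27, 30], .wm [0, 1, 2, 3, 2, 1, 0, 2, 3] [47, 44]),
  ([27, 30, 32], .wm [1, 2, 1, 0, 2, 3, 2, 1, 0, 2, 1, 3, 2, 1] [0, 1, 9]),
  ([27, 30, 32, 47], .wm [0, 1, 2, 1, 0, 3, 2, 1, 0, 2, 1, 2, 3, 2, 1, 2] [0, 1, 5, 10]),
  ([27, 30, 41], .wm [1, 0, 2, 1, 3, 2, 1, 0, 2, 1, 3, 2, 1] [0, 3, 17]),
  ([27, 30, 41, 47], .wm [2, 1, 0, 2, 1, 3, 2, 1, 0, 2, 1, 3, 2, 1] [0, 3, 17, 22]),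
  ([27, 30, 46], .wm [1, 0, 2, 1, 0, 2, 1, 2, 3, 2, 1, 0, 2, 1, 3, 2, 1] [0, 1, 9]),
  ([27, 30, 46, 47], .wm [0, 1, 0, 2, 1, 3, 2, 1, 0, 2, 1, 2, 3, 2, 1, 0, 2, 1, 2] [0, 1, 5, 10]),
  ([27, 30, 47], .wm [1, 0, 2, 1, 0, 3, 2, 1, 0, 2, 1, 3, 2, 1] [0, 3, 17]),
  ([27, 31], .wm [0, 1, 2, 3, 2, 1, 0, 2] [47, 44]),
  ([27, 31, 32], .wm [1, 2, 1, 0, 2, 3, 2, 1, 0, 2, 1, 2, 3, 2, 1] [0, 1, 9]),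
  ([27, 31, 32, 46], .wm [0, 1, 2, 1, 0, 2, 3, 2, 1, 0, 2, 1, 2, 3, 2, 1, 2] [0, 1, 5, 10]),
  ([27, 31, 42], .wm [1, 0, 2, 1, 3, 2, 1, 0, 2, 1, 2, 3, 2, 1] [0, 3, 17]),
  ([27, 31, 42, 46], .wm [2, 1, 0, 2, 1, 3, 2, 1, 0, 2, 1, 2, 3, 2, 1] [0, 3, 17, 22]),
  ([27, 31, 46], .wm [1, 0, 2, 1, 0, 3, 2, 1, 0, 2, 1, 2, 3, 2, 1] [0, 3, 17]),
  ([27, 31, 47], .wm [1, 0, 2, 1, 0, 2, 1, 2, 3, 2, 1, 0, 2, 1, 2, 3, 2, 1] [0, 1, 9]),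
  ([27, 32], .wm [1, 2, 1, 0, 2, 1, 2, 3, 2, 1, 2] [34, 1]),
  ([27, 32, 45], .wm [1, 2, 1, 3, 2, 1, 0, 2, 1, 2, 3, 2, 1, 0, 2, 1] [0, 3, 17]),
  ([27, 41], .wm [0, 2, 1, 0, 2, 1, 3, 2, 1, 0] [34, 1]),
  ([27, 41, 47], .wm [0, 1, 2, 1, 0, 2, 1, 3, 2, 1, 0, 2, 1, 3, 2, 1, 0] [0, 6, 19]),
  ([27, 42], .wm [0, 2, 1, 0, 2, 1, 2, 3, 2, 1, 0] [34, 1]),
  ([27, 42, 46], .wm [0, 1, 2, 1, 0, 2, 1, 3, 2, 1, 0, 2, 1, 2, 3, 2, 1, 0] [0, 6, 19]),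
  ([27, 45], .wm [0, 1, 2, 1, 0, 3, 2] [47, 44]),
  ([27, 45, 46], .wm [2, 1, 0, 2, 1, 3, 2, 1, 0, 2, 1, 2, 3, 2, 1, 0, 2, 1] [0, 1, 9]),
  ([27, 45, 47], .wm [2, 1, 0, 2, 1, 2, 3, 2, 1, 0, 2, 1, 2, 3, 2, 1, 0, 2, 1] [0, 1, 9]),
  ([27, 46], .wm [0, 2, 1, 0, 2, 1, 2, 3, 2, 1, 0, 2, 1, 2] [34, 1]),
  ([27, 47], .wm [0, 2, 1, 0, 2, 1, 2, 3, 2, 1, 0, 2, 1, 2, 3] [34, 1]),
  ([28], .wm [0, 1, 2, 1, 0, 3] [44]),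
  ([28, 30], .wm [0, 1, 3, 2, 1, 0, 2, 3] [47, 44]),
  ([28, 30, 31], .wm [1, 2, 1, 0, 3, 2, 1, 0, 2, 1, 3, 2, 1] [0, 1, 9]),
  ([28, 30, 31, 47], .wm [0, 1, 2, 1, 0, 3, 2, 1, 0, 2, 1, 2, 3, 2, 1] [0, 1, 5, 10]),
  ([28, 30, 41], .wm [1, 0, 2, 1, 2, 3, 2, 1, 0, 2, 1, 3, 2, 1] [0, 3, 17]),
  ([28, 30, 41, 47], .wm [2, 1, 0, 2, 1, 2, 3, 2, 1, 0, 2, 1, 3, 2, 1] [0, 3, 17, 22]),
  ([28, 30, 45], .wm [1, 0, 2, 1, 0, 2, 1, 3, 2, 1, 0, 2, 1, 3, 2, 1] [0, 1, 9]),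
  ([28, 30, 45, 47], .wm [0, 1, 0, 2, 1, 3, 2, 1, 0, 2, 1, 2, 3, 2, 1, 0, 2, 1] [0, 1, 5, 10]),
  ([28, 30, 47], .wm [1, 0, 2, 1, 0, 2, 3, 2, 1, 0, 2, 1, 3, 2, 1] [0, 3, 17]),
  ([28, 31], .wm [1, 2, 1, 0, 2, 1, 2, 3, 2, 1] [34, 1]),
  ([28, 31, 46], .wm [1, 2, 1, 3, 2, 1, 0, 2, 1, 2, 3, 2, 1, 0, 2, 1, 2] [0, 3, 17]),
  ([28, 32], .wm [0, 1, 2, 3, 2, 1, 0] [47, 44]),
  ([28, 32, 43], .wm [1, 0, 2, 1, 3, 2, 1, 0, 2, 1, 2, 3, 2, 1, 2] [0, 3, 17]),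
  ([28, 32, 43, 45], .wm [2, 1, 0, 2, 1, 3, 2, 1, 0, 2, 1, 2, 3, 2, 1, 2] [0, 3, 17, 22]),
  ([28, 32, 45], .wm [1, 0, 2, 1, 0, 3, 2, 1, 0, 2, 1, 2, 3, 2, 1, 2] [0, 3, 17]),
  ([28, 32, 47], .wm [1, 0, 2, 1, 0, 2, 1, 2, 3, 2, 1, 0, 2, 1, 2, 3, 2, 1, 2] [0, 1, 9]),
  ([28, 41], .wm [0, 2, 1, 0, 2, 1, 3, 2, 1, 0, 2] [34, 1]),
  ([28, 41, 47], .wm [0, 1, 2, 1, 0, 2, 1, 2, 3, 2, 1, 0, 2, 1, 3, 2, 1, 0] [0, 6, 19]),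
  ([28, 43], .wm [0, 2, 1, 0, 2, 1, 2, 3, 2, 1, 0, 2] [34, 1]),
  ([28, 43, 45], .wm [0, 1, 2, 1, 0, 2, 1, 3, 2, 1, 0, 2, 1, 2, 3, 2, 1, 0, 2] [0, 6, 19]),
  ([28, 45], .wm [0, 2, 1, 0, 2, 1, 2, 3, 2, 1, 0, 2, 1] [34, 1]),
  ([28, 46], .wm [0, 1, 2, 1, 0, 3] [47, 44]),
  ([28, 46, 47], .wm [2, 1, 0, 2, 1, 2, 3, 2, 1, 0, 2, 1, 2, 3, 2, 1, 0, 2, 1, 2] [0, 1, 9]),
  ([28, 47], .wm [0, 2, 1, 0, 2, 1, 2, 3, 2, 1, 0, 2, 1, 2, 3, 2] [34, 1]),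
  ([29], .wm [0, 1, 2, 1, 0] [44]),
  ([29, 30], .wm [1, 2, 1, 0, 2, 1, 3, 2, 1] [34, 1]),
  ([29, 30, 47], .wm [1, 2, 1, 3, 2, 1, 0, 2, 1, 2, 3, 2, 1, 0, 2, 1, 2, 3] [0, 3, 17]),
  ([29, 31], .wm [0, 1, 3, 2, 1, 0, 2] [47, 44]),
  ([29, 31, 42], .wm [1, 0, 2, 1, 2, 3, 2, 1, 0, 2, 1, 2, 3, 2, 1] [0, 3, 17]),
  ([29, 31, 42, 46], .wm [2, 1, 0, 2, 1, 2, 3, 2, 1, 0, 2, 1, 2, 3, 2, 1] [0, 3, 17, 22]),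
  ([29, 31, 45], .wm [1, 0, 2, 1, 0, 2, 1, 3, 2, 1, 0, 2, 1, 2, 3, 2, 1] [0, 1, 9]),
  ([29, 31, 45, 46], .wm [0, 1, 0, 2, 1, 2, 3, 2, 1, 0, 2, 1, 2, 3, 2, 1, 0, 2, 1] [0, 1, 5, 10]),
  ([29, 31, 46], .wm [1, 0, 2, 1, 0, 2, 3, 2, 1, 0, 2, 1, 2, 3, 2, 1] [0, 3, 17]),
  ([29, 32], .wm [0, 1, 3, 2, 1, 0] [47, 44]),
  ([29, 32, 43], .wm [1, 0, 2, 1, 2, 3, 2, 1, 0, 2, 1, 2, 3, 2, 1, 2] [0, 3, 17]),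
  ([29, 32, 43, 45], .wm [2, 1, 0, 2, 1, 2, 3, 2, 1, 0, 2, 1, 2, 3, 2, 1, 2] [0, 3, 17, 22]),
  ([29, 32, 45], .wm [1, 0, 2, 1, 0, 2, 3, 2, 1, 0, 2, 1, 2, 3, 2, 1, 2] [0, 3, 17]),
  ([29, 32, 46], .wm [1, 0, 2, 1, 0, 2, 1, 3, 2, 1, 0, 2, 1, 2, 3, 2, 1, 2] [0, 1, 9]),
  ([29, 42], .wm [0, 2, 1, 0, 2, 1, 3, 2, 1, 0, 2, 3] [34, 1]),
  ([29, 42, 46], .wm [0, 1, 2, 1, 0, 2, 1, 2, 3, 2, 1, 0, 2, 1, 2, 3, 2, 1, 0] [0, 6, 19]),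
  ([29, 43], .wm [0, 2, 1, 0, 2, 1, 2, 3, 2, 1, 0, 2, 3] [34, 1]),
  ([29, 43, 45], .wm [0, 1, 2, 1, 0, 2, 1, 2, 3, 2, 1, 0, 2, 1, 2, 3, 2, 1, 0, 2] [0, 6, 19]),
  ([29, 45], .wm [0, 2, 1, 0, 2, 1, 2, 3, 2, 1, 0, 2, 1, 3] [34, 1]),
  ([29, 46], .wm [0, 2, 1, 0, 2, 1, 2, 3, 2, 1, 0, 2, 1, 3, 2] [34, 1]),
  ([29, 47], .wm [0, 1, 2, 1, 0] [47, 44]),
  ([30], .wm [3, 2, 1, 0, 2, 3] [47]),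
  ([30, 34], .wm [0, 2, 1, 0, 2, 1, 3, 2, 1] [34, 1]),
  ([30, 34, 41], .wm [1, 0, 2, 1, 3, 2, 1, 0, 2, 1, 3, 2, 1, 0] [0, 3, 17]),
  ([30, 34, 41, 47], .wm [2, 1, 0, 2, 1, 3, 2, 1, 0, 2, 1, 3, 2, 1, 0] [0, 3, 17, 22]),
  ([30, 34, 47], .wm [0, 1, 2, 1, 0, 2, 1, 3, 2, 1, 0, 2, 1, 3, 2, 1] [0, 6, 19]),
  ([30, 35], .wm [0, 2, 1, 0, 2, 1, 3, 2, 1, 2] [34, 1]),
  ([30, 35, 41], .wm [1, 0, 2, 1, 2, 3, 2, 1, 0, 2, 1, 3, 2, 1, 0] [0, 3, 17]),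
  ([30, 35, 41, 47], .wm [2, 1, 0, 2, 1, 2, 3, 2, 1, 0, 2, 1, 3, 2, 1, 0] [0, 3, 17, 22]),
  ([30, 35, 47], .wm [0, 1, 2, 1, 0, 2, 1, 2, 3, 2, 1, 0, 2, 1, 3, 2, 1] [0, 6, 19]),
  ([30, 38], .wm [2, 1, 0, 2, 1, 3, 2, 1] [34, 1]),
  ([30, 38, 41], .wm [0, 2, 1, 0, 2, 1, 3, 2, 1, 0, 2, 1, 3, 2, 1] [0, 6, 19]),
  ([30, 38, 41, 47], .wm [2, 1, 0, 2, 1, 3, 2, 1, 0, 2, 1, 2, 3, 2, 1, 0, 2, 1, 2, 3] [0, 3, 17, 22]),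
  ([30, 38, 47], .wm [1, 0, 2, 1, 3, 2, 1, 0, 2, 1, 2, 3, 2, 1, 0, 2, 1, 2, 3] [0, 3, 17]),
  ([30, 39], .wm [2, 1, 0, 2, 1, 3, 2, 1, 2] [34, 1]),
  ([30, 39, 41], .wm [0, 2, 1, 0, 2, 1, 2, 3, 2, 1, 0, 2, 1, 3, 2, 1] [0, 6, 19]),
  ([30, 39, 41, 47], .wm [2, 1, 0, 2, 1, 2, 3, 2, 1, 0, 2, 1, 2, 3, 2, 1, 0, 2, 1, 2, 3] [0, 3, 17, 22]),
  ([30, 39, 47], .wm [1, 0, 2, 1, 2, 3, 2, 1, 0, 2, 1, 2, 3, 2, 1, 0, 2, 1, 2, 3] [0, 3, 17]),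
  ([30, 41], .wm [0, 1, 2, 1, 3, 2, 1, 0, 2, 1, 3, 2, 1] [0, 6]),
  ([30, 41, 47], .wm [1, 0, 2, 1, 0, 2, 1, 3, 2, 1, 0, 2, 1, 3, 2, 1] [0, 6, 17]),
  ([30, 44], .wm [2, 1, 0, 2, 3, 2, 1, 0, 2, 1] [34, 1]),
  ([30, 44, 47], .wm [0, 1, 0, 2, 1, 0, 2, 1, 3, 2, 1, 0, 2, 1, 2, 3, 2, 1, 0, 2, 1, 2, 3] [0, 3, 17]),
  ([30, 47], .wm [0, 1, 2, 1, 0, 3, 2, 1, 0, 2, 1, 3, 2, 1] [0, 6]),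
  ([31], .wm [3, 2, 1, 0, 2] [47]),
  ([31, 34], .wm [0, 2, 1, 0, 2, 1, 2, 3, 2, 1] [34, 1]),
  ([31, 34, 42], .wm [1, 0, 2, 1, 3, 2, 1, 0, 2, 1, 2, 3, 2, 1, 0] [0, 3, 17]),
  ([31, 34, 42, 46], .wm [2, 1, 0, 2, 1, 3, 2, 1, 0, 2, 1, 2, 3, 2, 1, 0] [0, 3, 17, 22]),
  ([31, 34, 46], .wm [0, 1, 2, 1, 0, 2, 1, 3, 2, 1, 0, 2, 1, 2, 3, 2, 1] [0, 6, 19]),
  ([31, 36], .wm [0, 2, 1, 0, 2, 1, 3, 2, 1, 2, 3] [34, 1]),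
  ([31, 36, 42], .wm [1, 0, 2, 1, 2, 3, 2, 1, 0, 2, 1, 2, 3, 2, 1, 0] [0, 3, 17]),
  ([31, 36, 42, 46], .wm [2, 1, 0, 2, 1, 2, 3, 2, 1, 0, 2, 1, 2, 3, 2, 1, 0] [0, 3, 17, 22]),
  ([31, 36, 46], .wm [0, 1, 2, 1, 0, 2, 1, 2, 3, 2, 1, 0, 2, 1, 2, 3, 2, 1] [0, 6, 19]),
  ([31, 37], .wm [2, 1, 0, 2, 1, 2, 3, 2, 1] [34, 1]),
  ([31, 37, 42], .wm [0, 2, 1, 0, 2, 1, 3, 2, 1, 0, 2, 1, 2, 3, 2, 1] [0, 6, 19]),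
  ([31, 37, 42, 46], .wm [2, 1, 0, 2, 1, 3, 2, 1, 0, 2, 1, 2, 3, 2, 1, 0, 2, 1, 2] [0, 3, 17, 22]),
  ([31, 37, 46], .wm [1, 0, 2, 1, 3, 2, 1, 0, 2, 1, 2, 3, 2, 1, 0, 2, 1, 2] [0, 3, 17]),
  ([31, 39], .wm [2, 1, 0, 2, 1, 3, 2, 1, 2, 3] [34, 1]),
  ([31, 39, 42], .wm [0, 2, 1, 0, 2, 1, 2, 3, 2, 1, 0, 2, 1, 2, 3, 2, 1] [0, 6, 19]),
  ([31, 39, 42, 46], .wm [2, 1, 0, 2, 1, 2, 3, 2, 1, 0, 2, 1, 2, 3, 2, 1, 0, 2, 1, 2] [0, 3, 17, 22]),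
  ([31, 39, 46], .wm [1, 0, 2, 1, 2, 3, 2, 1, 0, 2, 1, 2, 3, 2, 1, 0, 2, 1, 2] [0, 3, 17]),
  ([31, 42], .wm [0, 1, 2, 1, 3, 2, 1, 0, 2, 1, 2, 3, 2, 1] [0, 6]),
  ([31, 42, 46], .wm [1, 0, 2, 1, 0, 2, 1, 3, 2, 1, 0, 2, 1, 2, 3, 2, 1] [0, 6, 17]),
  ([31, 44], .wm [2, 1, 0, 2, 3, 2, 1, 0, 2, 1, 3] [34, 1]),
  ([31, 44, 46], .wm [0, 1, 0, 2, 1, 0, 2, 1, 3, 2, 1, 0, 2, 1, 2, 3, 2, 1, 0, 2, 1, 2] [0, 3, 17]),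
  ([31, 46], .wm [0, 1, 2, 1, 0, 3, 2, 1, 0, 2, 1, 2, 3, 2, 1] [0, 6]),
  ([32], .wm [3, 2, 1, 0] [47]),
  ([32, 35], .wm [0, 2, 1, 0, 2, 1, 2, 3, 2, 1, 2] [34, 1]),
  ([32, 35, 43], .wm [1, 0, 2, 1, 3, 2, 1, 0, 2, 1, 2, 3, 2, 1, 0, 2] [0, 3, 17]),
  ([32, 35, 43, 45], .wm [2, 1, 0, 2, 1, 3, 2, 1, 0, 2, 1, 2, 3, 2, 1, 0, 2] [0, 3, 17, 22]),
  ([32, 35, 45], .wm [0, 1, 2, 1, 0, 2, 1, 3, 2, 1, 0, 2, 1, 2, 3, 2, 1, 2] [0, 6, 19]),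
  ([32, 36], .wm [0, 2, 1, 0, 2, 1, 2, 3, 2, 1, 2, 3] [34, 1]),
  ([32, 36, 43], .wm [1, 0, 2, 1, 2, 3, 2, 1, 0, 2, 1, 2, 3, 2, 1, 0, 2] [0, 3, 17]),
  ([32, 36, 43, 45], .wm [2, 1, 0, 2, 1, 2, 3, 2, 1, 0, 2, 1, 2, 3, 2, 1, 0, 2] [0, 3, 17, 22]),
  ([32, 36, 45], .wm [0, 1, 2, 1, 0, 2, 1, 2, 3, 2, 1, 0, 2, 1, 2, 3, 2, 1, 2] [0, 6, 19]),
  ([32, 37], .wm [2, 1, 0, 2, 1, 2, 3, 2, 1, 2] [34, 1]),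
  ([32, 37, 43], .wm [0, 2, 1, 0, 2, 1, 3, 2, 1, 0, 2, 1, 2, 3, 2, 1, 2] [0, 6, 19]),
  ([32, 37, 43, 45], .wm [2, 1, 0, 2, 1, 3, 2, 1, 0, 2, 1, 2, 3, 2, 1, 0, 2, 1] [0, 3, 17, 22]),
  ([32, 37, 45], .wm [1, 0, 2, 1, 3, 2, 1, 0, 2, 1, 2, 3, 2, 1, 0, 2, 1] [0, 3, 17]),
  ([32, 38], .wm [2, 1, 0, 2, 1, 2, 3, 2, 1, 2, 3] [34, 1]),
  ([32, 38, 43], .wm [0, 2, 1, 0, 2, 1, 2, 3, 2, 1, 0, 2, 1, 2, 3, 2, 1, 2] [0, 6, 19]),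
  ([32, 38, 43, 45], .wm [2, 1, 0, 2, 1, 2, 3, 2, 1, 0, 2, 1, 2, 3, 2, 1, 0, 2, 1] [0, 3, 17, 22]),
  ([32, 38, 45], .wm [1, 0, 2, 1, 2, 3, 2, 1, 0, 2, 1, 2, 3, 2, 1, 0, 2, 1] [0, 3, 17]),
  ([32, 43], .wm [0, 1, 2, 1, 3, 2, 1, 0, 2, 1, 2, 3, 2, 1, 2] [0, 6]),
  ([32, 43, 45], .wm [1, 0, 2, 1, 0, 2, 1, 3, 2, 1, 0, 2, 1, 2, 3, 2, 1, 2] [0, 6, 17]),
  ([32, 44], .wm [2, 1, 0, 2, 3, 2, 1, 0, 2, 1, 3, 2] [34, 1]),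
  ([32, 44, 45], .wm [0, 1, 0, 2, 1, 0, 2, 1, 3, 2, 1, 0, 2, 1, 2, 3, 2, 1, 0, 2, 1] [0, 3, 17]),
  ([32, 45], .wm [0, 1, 2, 1, 0, 3, 2, 1, 0, 2, 1, 2, 3, 2, 1, 2] [0, 6]),
  ([33], .wm [0, 1, 2, 1, 3, 2, 1] [44]),
  ([33, 41], .wm [0, 1, 2, 1, 3, 2, 1, 2, 3] [47, 44]),
  ([33, 41, 45], .wm [1, 2, 1, 0, 2, 1, 3, 2, 1, 0, 2, 1, 3, 2, 1, 0] [0, 1, 9]),
  ([33, 41, 45, 47], .wm [0, 1, 2, 1, 0, 3, 2, 1, 0, 2, 1, 2, 3, 2, 1, 0, 2, 1] [0, 1, 5, 10]),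
  ([33, 41, 46], .wm [1, 2, 1, 0, 2, 1, 2, 3, 2, 1, 0, 2, 1, 3, 2, 1, 0] [0, 1, 9]),
  ([33, 41, 46, 47], .wm [0, 1, 2, 1, 0, 3, 2, 1, 0, 2, 1, 2, 3, 2, 1, 0, 2, 1, 2] [0, 1, 5, 10]),
  ([33, 41, 47], .wm [1, 2, 1, 0, 3, 2, 1, 0, 2, 1, 3, 2, 1, 0] [0, 3, 17]),
  ([33, 42], .wm [0, 1, 2, 1, 3, 2, 1, 2] [47, 44]),
  ([33, 42, 45], .wm [1, 2, 1, 0, 2, 1, 3, 2, 1, 0, 2, 1, 2, 3, 2, 1, 0] [0, 1, 9]),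
  ([33, 42, 45, 46], .wm [0, 1, 2, 1, 0, 2, 3, 2, 1, 0, 2, 1, 2, 3, 2, 1, 0, 2, 1] [0, 1, 5, 10]),
  ([33, 42, 46], .wm [1, 2, 1, 0, 3, 2, 1, 0, 2, 1, 2, 3, 2, 1, 0] [0, 3, 17]),
  ([33, 42, 47], .wm [1, 2, 1, 0, 2, 1, 2, 3, 2, 1, 0, 2, 1, 2, 3, 2, 1, 0] [0, 1, 9]),
  ([33, 43], .wm [0, 1, 2, 1, 3, 2, 1] [47, 44]),
  ([33, 43, 45], .wm [1, 2, 1, 0, 3, 2, 1, 0, 2, 1, 2, 3, 2, 1, 0, 2] [0, 3, 17]),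
  ([33, 43, 46], .wm [1, 2, 1, 0, 2, 1, 3, 2, 1, 0, 2, 1, 2, 3, 2, 1, 0, 2] [0, 1, 9]),
  ([33, 43, 47], .wm [1, 2, 1, 0, 2, 1, 2, 3, 2, 1, 0, 2, 1, 2, 3, 2, 1, 0, 2] [0, 1, 9]),
  ([33, 45], .wm [1, 2, 1, 0, 2, 1, 2, 3, 2, 1, 0, 2, 1] [34, 1]),
  ([33, 46], .wm [1, 2, 1, 0, 2, 1, 2, 3, 2, 1, 0, 2, 1, 2] [34, 1]),
  ([33, 47], .wm [1, 2, 1, 0, 2, 1, 2, 3, 2, 1, 0, 2, 1, 2, 3] [34, 1]),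
  ([34], .wm [0, 1, 2, 1, 3, 2] [44]),
  ([34, 41], .wm [0, 1, 2, 3, 2, 1, 2, 3] [47, 44]),
  ([34, 41, 43], .wm [1, 2, 1, 0, 2, 3, 2, 1, 0, 2, 1, 3, 2, 1, 0] [0, 1, 9]),
  ([34, 41, 43, 47], .wm [0, 1, 2, 1, 0, 3, 2, 1, 0, 2, 1, 2, 3, 2, 1, 0, 2] [0, 1, 5, 10]),
  ([34, 41, 46], .wm [1, 0, 2, 1, 0, 2, 1, 2, 3, 2, 1, 0, 2, 1, 3, 2, 1, 0] [0, 1, 9]),
  ([34, 41, 46, 47], .wm [0, 1, 0, 2, 1, 0, 3, 2, 1, 0, 2, 1, 2, 3, 2, 1, 0, 2, 1, 2] [0, 1, 5, 10]),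
  ([34, 41, 47], .wm [1, 0, 2, 1, 0, 3, 2, 1, 0, 2, 1, 3, 2, 1, 0] [0, 3, 17]),
  ([34, 42], .wm [0, 1, 2, 3, 2, 1, 2] [47, 44]),
  ([34, 42, 43], .wm [1, 2, 1, 0, 2, 3, 2, 1, 0, 2, 1, 2, 3, 2, 1, 0] [0, 1, 9]),
  ([34, 42, 43, 46], .wm [0, 1, 2, 1, 0, 2, 3, 2, 1, 0, 2, 1, 2, 3, 2, 1, 0, 2] [0, 1, 5, 10]),
  ([34, 42, 46], .wm [1, 0, 2, 1, 0, 3, 2, 1, 0, 2, 1, 2, 3, 2, 1, 0] [0, 3, 17]),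
  ([34, 42, 47], .wm [1, 0, 2, 1, 0, 2, 1, 2, 3, 2, 1, 0, 2, 1, 2, 3, 2, 1, 0] [0, 1, 9]),
  ([34, 43], .wm [1, 2, 1, 0, 2, 1, 2, 3, 2, 1, 0, 2] [34, 1]),
  ([34, 43, 45], .wm [1, 2, 1, 0, 3, 2, 1, 0, 2, 1, 2, 3, 2, 1, 0, 2, 1] [0, 3, 17]),
  ([34, 45], .wm [0, 1, 2, 1, 3, 2] [47, 44]),
  ([34, 45, 46], .wm [1, 2, 1, 0, 2, 1, 3, 2, 1, 0, 2, 1, 2, 3, 2, 1, 0, 2, 1] [0, 1, 9]),
  ([34, 45, 47], .wm [1, 2, 1, 0, 2, 1, 2, 3, 2, 1, 0, 2, 1, 2, 3, 2, 1, 0, 2, 1] [0, 1, 9]),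
  ([34, 46], .wm [2, 1, 0, 2, 1, 2, 3, 2, 1, 0, 2, 1, 2] [34, 1]),
  ([34, 47], .wm [2, 1, 0, 2, 1, 2, 3, 2, 1, 0, 2, 1, 2, 3] [34, 1]),
  ([35], .wm [0, 1, 2, 1, 3] [44]),
  ([35, 41], .wm [0, 1, 3, 2, 1, 2, 3] [47, 44]),
  ([35, 41, 42], .wm [1, 2, 1, 0, 3, 2, 1, 0, 2, 1, 3, 2, 1, 0] [0, 1, 9]),
  ([35, 41, 42, 47], .wm [0, 1, 2, 1, 0, 3, 2, 1, 0, 2, 1, 2, 3, 2, 1, 0] [0, 1, 5, 10]),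
  ([35, 41, 45], .wm [1, 0, 2, 1, 0, 2, 1, 3, 2, 1, 0, 2, 1, 3, 2, 1, 0] [0, 1, 9]),
  ([35, 41, 45, 47], .wm [0, 1, 0, 2, 1, 0, 3, 2, 1, 0, 2, 1, 2, 3, 2, 1, 0, 2, 1] [0, 1, 5, 10]),
  ([35, 41, 47], .wm [1, 0, 2, 1, 0, 2, 3, 2, 1, 0, 2, 1, 3, 2, 1, 0] [0, 3, 17]),
  ([35, 42], .wm [1, 2, 1, 0, 2, 1, 2, 3, 2, 1, 0] [34, 1]),
  ([35, 42, 46], .wm [1, 2, 1, 0, 3, 2, 1, 0, 2, 1, 2, 3, 2, 1, 0, 2, 1, 2] [0, 3, 17]),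
  ([35, 43], .wm [0, 1, 2, 3, 2, 1] [47, 44]),
  ([35, 43, 45], .wm [1, 0, 2, 1, 0, 3, 2, 1, 0, 2, 1, 2, 3, 2, 1, 0, 2] [0, 3, 17]),
  ([35, 43, 47], .wm [1, 0, 2, 1, 0, 2, 1, 2, 3, 2, 1, 0, 2, 1, 2, 3, 2, 1, 0, 2] [0, 1, 9]),
  ([35, 45], .wm [2, 1, 0, 2, 1, 2, 3, 2, 1, 0, 2, 1] [34, 1]),
  ([35, 46], .wm [0, 1, 2, 1, 3] [47, 44]),
  ([35, 46, 47], .wm [1, 2, 1, 0, 2, 1, 2, 3, 2, 1, 0, 2, 1, 2, 3, 2, 1, 0, 2, 1, 2] [0, 1, 9]),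
  ([35, 47], .wm [2, 1, 0, 2, 1, 2, 3, 2, 1, 0, 2, 1, 2, 3, 2] [34, 1]),
  ([36], .wm [0, 1, 2, 1] [44]),
  ([36, 41], .wm [1, 2, 1, 0, 2, 1, 3, 2, 1, 0] [34, 1]),
  ([36, 41, 47], .wm [1, 2, 1, 0, 3, 2, 1, 0, 2, 1, 2, 3, 2, 1, 0, 2, 1, 2, 3] [0, 3, 17]),
  ([36, 42], .wm [0, 1, 3, 2, 1, 2] [47, 44]),
  ([36, 42, 45], .wm [1, 0, 2, 1, 0, 2, 1, 3, 2, 1, 0, 2, 1, 2, 3, 2, 1, 0] [0, 1, 9]),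
  ([36, 42, 45, 46], .wm [0, 1, 0, 2, 1, 0, 2, 3, 2, 1, 0, 2, 1, 2, 3, 2, 1, 0, 2, 1] [0, 1, 5, 10]),
  ([36, 42, 46], .wm [1, 0, 2, 1, 0, 2, 3, 2, 1, 0, 2, 1, 2, 3, 2, 1, 0] [0, 3, 17]),
  ([36, 43], .wm [0, 1, 3, 2, 1] [47, 44]),
  ([36, 43, 45], .wm [1, 0, 2, 1, 0, 2, 3, 2, 1, 0, 2, 1, 2, 3, 2, 1, 0, 2] [0, 3, 17]),
  ([36, 43, 46], .wm [1, 0, 2, 1, 0, 2, 1, 3, 2, 1, 0, 2, 1, 2, 3, 2, 1, 0, 2] [0, 1, 9]),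
  ([36, 45], .wm [2, 1, 0, 2, 1, 2, 3, 2, 1, 0, 2, 1, 3] [34, 1]),
  ([36, 46], .wm [2, 1, 0, 2, 1, 2, 3, 2, 1, 0, 2, 1, 3, 2] [34, 1]),
  ([36, 47], .wm [0, 1, 2, 1] [47, 44]),
  ([37], .wm [0, 1, 2, 3] [44]),
  ([37, 41], .wm [0, 3, 2, 1, 2, 3] [47, 44]),
  ([37, 41, 42], .wm [1, 0, 2, 1, 0, 3, 2, 1, 0, 2, 1, 3, 2, 1, 0] [0, 1, 9]),
  ([37, 41, 42, 47], .wm [0, 1, 0, 2, 1, 0, 3, 2, 1, 0, 2, 1, 2, 3, 2, 1, 0] [0, 1, 5, 10]),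
  ([37, 41, 43], .wm [1, 0, 2, 1, 0, 2, 3, 2, 1, 0, 2, 1, 3, 2, 1, 0] [0, 1, 9]),
  ([37, 41, 43, 47], .wm [0, 1, 0, 2, 1, 0, 3, 2, 1, 0, 2, 1, 2, 3, 2, 1, 0, 2] [0, 1, 5, 10]),
  ([37, 41, 47], .wm [1, 0, 2, 1, 0, 2, 1, 3, 2, 1, 0, 2, 1, 3, 2, 1, 0] [0, 3, 17]),
  ([37, 42], .wm [2, 1, 0, 2, 1, 2, 3, 2, 1, 0] [34, 1]),
  ([37, 42, 46], .wm [1, 0, 2, 1, 0, 3, 2, 1, 0, 2, 1, 2, 3, 2, 1, 0, 2, 1, 2] [0, 3, 17]),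
  ([37, 43], .wm [2, 1, 0, 2, 1, 2, 3, 2, 1, 0, 2] [34, 1]),
  ([37, 43, 45], .wm [1, 0, 2, 1, 0, 3, 2, 1, 0, 2, 1, 2, 3, 2, 1, 0, 2, 1] [0, 3, 17]),
  ([37, 45], .wm [0, 1, 2, 3, 2] [47, 44]),
  ([37, 45, 47], .wm [1, 0, 2, 1, 0, 2, 1, 2, 3, 2, 1, 0, 2, 1, 2, 3, 2, 1, 0, 2, 1] [0, 1, 9]),
  ([37, 46], .wm [0, 1, 2, 3] [47, 44]),
  ([37, 46, 47], .wm [1, 0, 2, 1, 0, 2, 1, 2, 3, 2, 1, 0, 2, 1, 2, 3, 2, 1, 0, 2, 1, 2] [0, 1, 9]),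
  ([37, 47], .wm [2, 1, 0, 2, 1, 2, 3, 2, 1, 0, 2, 1, 2, 3, 2, 1] [34, 1]),
  ([38], .wm [0, 1, 2] [44]),
  ([38, 41], .wm [2, 1, 0, 2, 1, 3, 2, 1, 0] [34, 1]),
  ([38, 41, 47], .wm [1, 0, 2, 1, 0, 3, 2, 1, 0, 2, 1, 2, 3, 2, 1, 0, 2, 1, 2, 3] [0, 3, 17]),
  ([38, 42], .wm [0, 3, 2, 1, 2] [47, 44]),
  ([38, 42, 43], .wm [1, 0, 2, 1, 0, 2, 3, 2, 1, 0, 2, 1, 2, 3, 2, 1, 0] [0, 1, 9]),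
  ([38, 42, 43, 46], .wm [0, 1, 0, 2, 1, 0, 2, 3, 2, 1, 0, 2, 1, 2, 3, 2, 1, 0, 2] [0, 1, 5, 10]),
  ([38, 42, 46], .wm [1, 0, 2, 1, 0, 2, 1, 3, 2, 1, 0, 2, 1, 2, 3, 2, 1, 0] [0, 3, 17]),
  ([38, 43], .wm [2, 1, 0, 2, 1, 2, 3, 2, 1, 0, 2, 3] [34, 1]),
  ([38, 43, 45], .wm [1, 0, 2, 1, 0, 2, 3, 2, 1, 0, 2, 1, 2, 3, 2, 1, 0, 2, 1] [0, 3, 17]),
  ([38, 45], .wm [0, 1, 3, 2] [47, 44]),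
  ([38, 45, 46], .wm [1, 0, 2, 1, 0, 2, 1, 3, 2, 1, 0, 2, 1, 2, 3, 2, 1, 0, 2, 1] [0, 1, 9]),
  ([38, 46], .wm [2, 1, 0, 2, 1, 2, 3, 2, 1, 0, 2, 1, 3, 2, 1] [34, 1]),
  ([38, 47], .wm [0, 1, 2] [47, 44]),
  ([39], .wm [0, 1] [44]),
  ([39, 41], .wm [2, 1, 0, 2, 1, 3, 2, 1, 0, 2] [34, 1]),
  ([39, 41, 47], .wm [1, 0, 2, 1, 0, 2, 3, 2, 1, 0, 2, 1, 2, 3, 2, 1, 0, 2, 1, 2, 3] [0, 3, 17]),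
  ([39, 42], .wm [2, 1, 0, 2, 1, 3, 2, 1, 0, 2, 3] [34, 1]),
  ([39, 42, 46], .wm [1, 0, 2, 1, 0, 2, 3, 2, 1, 0, 2, 1, 2, 3, 2, 1, 0, 2, 1, 2] [0, 3, 17]),
  ([39, 43], .wm [0, 3, 2, 1] [47, 44]),
  ([39, 43, 45], .wm [1, 0, 2, 1, 0, 2, 1, 3, 2, 1, 0, 2, 1, 2, 3, 2, 1, 0, 2] [0, 3, 17]),
  ([39, 45], .wm [2, 1, 0, 2, 1, 3, 2, 1, 0, 2, 1, 3, 2, 1] [34, 1]),
  ([39, 46], .wm [0, 1, 3] [47, 44]),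
  ([39, 47], .wm [0, 1] [47, 44]),
  ([40], .wm [0] [44]),
  ([40, 41], .wm [2, 1, 0, 2, 1, 3, 2, 1, 0, 2, 1] [34, 1]),
  ([40, 41, 47], .wm [1, 0, 2, 1, 0, 2, 1, 3, 2, 1, 0, 2, 1, 2, 3, 2, 1, 0, 2, 1, 2, 3] [0, 3, 17]),
  ([40, 42], .wm [2, 1, 0, 2, 1, 3, 2, 1, 0, 2, 1, 3] [34, 1]),
  ([40, 42, 46], .wm [1, 0, 2, 1, 0, 2, 1, 3, 2, 1, 0, 2, 1, 2, 3, 2, 1, 0, 2, 1, 2] [0, 3, 17]),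
  ([40, 43], .wm [2, 1, 0, 2, 1, 3, 2, 1, 0, 2, 1, 3, 2] [34, 1]),
  ([40, 43, 45], .wm [1, 0, 2, 1, 0, 2, 1, 3, 2, 1, 0, 2, 1, 2, 3, 2, 1, 0, 2, 1] [0, 3, 17]),
  ([40, 45], .wm [0, 3, 2] [47, 44]),
  ([40, 46], .wm [0, 3] [47, 44]),
  ([40, 47], .wm [0] [47, 44]),
  ([41], .wm [3, 2, 1, 2, 3] [47]),
  ([41, 47], .wm [0, 1, 2, 1, 0, 3, 2, 1, 0, 2, 1, 3, 2, 1, 0] [0, 6]),
  ([42], .wm [3, 2, 1, 2] [47]),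
  ([42, 46], .wm [0, 1, 2, 1, 0, 3, 2, 1, 0, 2, 1, 2, 3, 2, 1, 0] [0, 6]),
  ([43], .wm [3, 2, 1] [47]),
  ([43, 45], .wm [0, 1, 2, 1, 0, 3, 2, 1, 0, 2, 1, 2, 3, 2, 1, 0, 2] [0, 6]),
  ([44], .wm [] [44]),
  ([44, 45], .wm [3, 2] [47, 44]),
  ([44, 46], .wm [3] [47, 44]),
  ([44, 47], .wm [] [47, 44]),
  ([45], .wm [3, 2] [47]),
  ([46], .wm [3] [47]),
  ([47], .wm [] [47]),
  ([0, 6, 17, 22], .mv 9 22 0 [6, 17]),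
  ([22, 8, 6, 17], .wm [3, 2, 1, 0, 2, 1, 3] [0, 3, 17, 22]),
  ([0, 3, 17, 22], .mv 9 22 0 [3, 17]),
  ([22, 8, 3, 17], .wm [3, 2, 1, 0, 2, 1, 3] [0, 3, 10, 22]),
  ([0, 3, 10, 22], .mv 9 22 0 [3, 10]),
  ([22, 8, 3, 10], .wm [3, 2, 1, 0, 2, 1, 3] [0, 3, 10, 19]),
  ([0, 6, 19], .mv 18 6 0 [19]),
  ([6, 3, 19], .wm [3, 2, 1, 2, 3] [0, 3, 19]),
  ([0, 3, 10, 19], .mv 5 19 3 [0, 10]),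
  ([19, 1, 0, 10], .wm [0, 3] [0, 1, 9, 11]),
  ([0, 6, 17], .mv 11 17 0 [6]),
  ([17, 7, 6], .wm [3, 2, 1, 0, 2, 3] [0, 3, 17]),
  ([0, 1, 5, 10], .mv 15 5 0 [1, 10]),
  ([5, 1, 10], .wm [0, 1, 2, 3] [0, 3, 17]),
  ([0, 3, 19], .mv 5 19 3 [0]),
  ([19, 1, 0], .wm [1, 0, 3] [0, 1, 9]),
  ([0, 1, 9, 11], .mv 20 11 9 [0, 1]),
  ([11, 0, 1], .wm [1] [0, 1, 9]),
  ([0, 3, 17], .mv 11 17 0 [3]),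
  ([17, 7, 3], .wm [3, 2, 1, 0, 2, 3] [0, 3, 10]),
  ([0, 1, 9], .mv 23 1 0 [9]),
  ([1, 9], .wm [0, 1, 0, 2, 3, 2, 1] [34, 1]),
  ([0, 3, 10], .mv 11 10 3 [0]),
  ([10, 0], .wm [0, 1, 0, 3, 2, 1] [34, 1]),
  ([0, 6], .mv 18 6 0 []),
  ([6, 3], .wm [0, 1, 2, 1, 0, 3, 2, 1, 0, 2, 1, 3, 2, 1, 0] [47, 44]),
  ([], .fin0),
  ([47], .fin1 3 []),
  ([44], .fin1 0 []),
  ([47, 44], .fin2 3 0 []),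
  ([34, 1], .fin2 0 3 [1, 2, 3, 1, 2, 0, 1, 2, 3, 1, 2, 0, 1, 2])
]

theorem tab_ok : rcTable X chevF4 Reps Tb = true := by decide +kernel

theorem tree_ok : nodeB chevF4 (fun path => Tb.any (fun e => e.1 == path)) 5 [] (posL R chevF4) (posL R chevF4) = true := by decide +kernel

def A0 : List ℕ := [0, 0, 0, 2251799813685248, 2251799813685253, 268435456, 1073741824, 8589934592, 34359738368, 68719476736, 0, 1099511627776, 4398046511104, 8796093022208, 0, 17592186044416, 0, 0, 0, 70368744177664, 140737488355328, 0, 281474976710656, 0, 0, 562949953421312, 0, 1125899906842624, 0, 0, 0, 0, 0, 0, 0, 0, 0, 0, 0, 0, 0, 0, 0, 0, 0, 0, 0, 0, 0, 0, 0, 0]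
def B0 : List ℕ := [2251799813685248, 2251799813685253, 268435456, 1073741824, 8589934592, 34359738368, 68719476736, 1099511627776, 4398046511104, 8796093022208, 17592186044416, 70368744177664, 140737488355328, 281474976710656, 562949953421312, 1125899906842624]
def C0 : List ℕ := [0, 0, 0, 1, 2, 4, 8, 16, 32, 64, 0, 128, 256, 512, 0, 1024, 0, 0, 0, 2048, 4096, 0, 8192, 0, 0, 16384, 0, 32768, 0, 0, 0, 0, 0, 0, 0, 0, 0, 0, 0, 0, 0, 0, 0, 0, 0, 0, 0, 0, 0, 0, 0, 0]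
def P0 : List ℕ := [3, 0, 0, 0, 0, 0, 0, 0, 0, 0, 0, 0, 0, 0, 0, 0, 0, 0, 0, 0, 0, 0, 0, 0, 0, 0, 0, 0, 4, 0, 8, 0, 0, 16, 0, 32, 64, 0, 0, 0, 128, 0, 256, 512, 1024, 0, 2048, 4096, 8192, 16384, 32768, 1]
def Q0 : List ℕ := [8, 16, 32, 64, 128, 256, 512, 2048, 4096, 8192, 32768, 524288, 1048576, 4194304, 33554432, 134217728]
theorem a0 : A0 = minusOne T.dim (prodM T [47]) := by decide +kernel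
theorem b0 : A0 = C0.map (combo B0) := by decide +kernel
theorem d0 : B0 = Q0.map (combo A0) := by decide +kernel
theorem e0 : idC 16 = B0.map (combo P0) := by decide +kernel
theorem rk0 {F : Type*} [Field F] [CharP F 2] :
    (((xL hF F [47] : GL chevF4.Idx F) : Matrix chevF4.Idx chevF4.Idx F) - 1).rank = 16 :=
  rank_xL hF a0 (by decide +kernel) (by decide +kernel) (by decide +kernel) b0 d0 e0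

def A1 : List ℕ := [281474976710656, 0, 0, 0, 35184376283136, 70368752566272, 140737505132544, 281474976710658, 562952100904960, 1125904201809920, 2251808403619840, 137438953472, 274877906944, 549755813888, 1099511627776, 2199023255552, 4398046511104, 8796093022208, 17592186044416, 0, 0, 0, 0, 0, 0, 0, 0, 0, 0, 0, 0, 0, 0, 0, 0, 0, 0, 0, 0, 0, 0, 0, 0, 0, 0, 0, 0, 0, 0, 0, 0, 0]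
def B1 : List ℕ := [281474976710656, 35184376283136, 70368752566272, 140737505132544, 281474976710658, 562952100904960, 1125904201809920, 2251808403619840, 137438953472, 274877906944, 549755813888, 1099511627776, 2199023255552, 4398046511104, 8796093022208, 17592186044416]
def C1 : List ℕ := [1, 0, 0, 0, 2, 4, 8, 16, 32, 64, 128, 256, 512, 1024, 2048, 4096, 8192, 16384, 32768, 0, 0, 0, 0, 0, 0, 0, 0, 0, 0, 0, 0, 0, 0, 0, 0, 0, 0, 0, 0, 0, 0, 0, 0, 0, 0, 0, 0, 0, 0, 0, 0, 0]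
def P1 : List ℕ := [0, 17, 0, 0, 0, 0, 0, 0, 0, 0, 0, 0, 0, 0, 0, 0, 0, 0, 0, 0, 0, 0, 2, 4, 8, 0, 0, 0, 0, 0, 0, 32, 64, 128, 0, 0, 0, 256, 512, 1024, 2048, 4096, 8192, 16384, 32768, 0, 0, 0, 1, 0, 0, 0]
def Q1 : List ℕ := [1, 16, 32, 64, 128, 256, 512, 1024, 2048, 4096, 8192, 16384, 32768, 65536, 131072, 262144]
theorem a1 : A1 = minusOne T.dim (prodM T [44]) := by decide +kernel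
theorem b1 : A1 = C1.map (combo B1) := by decide +kernel
theorem d1 : B1 = Q1.map (combo A1) := by decide +kernel
theorem e1 : idC 16 = B1.map (combo P1) := by decide +kernel
theorem rk1 {F : Type*} [Field F] [CharP F 2] :
    (((xL hF F [44] : GL chevF4.Idx F) : Matrix chevF4.Idx chevF4.Idx F) - 1).rank = 16 :=
  rank_xL hF a1 (by decide +kernel) (by decide +kernel) (by decide +kernel) b1 d1 e1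

def A2 : List ℕ := [281474976710656, 0, 0, 2251799813685248, 2568459166679045, 70369021001728, 140738578874368, 281483566645250, 562986460643328, 1125972921286656, 2251808403619840, 1236950581248, 4672924418048, 9345848836096, 1099511627776, 19791209299968, 4398046511104, 8796093022208, 17592186044416, 70368744177664, 140737488355328, 0, 281474976710656, 0, 0, 562949953421312, 0, 1125899906842624, 0, 0, 0, 0, 0, 0, 0, 0, 0, 0, 0, 0, 0, 0, 0, 0, 0, 0, 0, 0, 0, 0, 0, 0]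
def B2 : List ℕ := [281474976710656, 2251799813685248, 2568459166679045, 70369021001728, 140738578874368, 281483566645250, 562986460643328, 1125972921286656, 2251808403619840, 1236950581248, 4672924418048, 9345848836096, 1099511627776, 19791209299968, 4398046511104, 8796093022208, 17592186044416, 70368744177664, 140737488355328, 562949953421312, 1125899906842624]
def C2 : List ℕ := [1, 0, 0, 2, 4, 8, 16, 32, 64, 128, 256, 512, 1024, 2048, 4096, 8192, 16384, 32768, 65536, 131072, 262144, 0, 1, 0, 0, 524288, 0, 1048576, 0, 0, 0, 0, 0, 0, 0, 0, 0, 0, 0, 0, 0, 0, 0, 0, 0, 0, 0, 0, 0, 0, 0, 0]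
def P2 : List ℕ := [7, 291, 0, 0, 0, 0, 0, 0, 0, 0, 0, 0, 0, 0, 0, 0, 0, 0, 0, 0, 0, 0, 0, 131080, 262160, 0, 0, 0, 0, 0, 0, 524352, 1048704, 258, 0, 0, 0, 4608, 17408, 34816, 4096, 73728, 16384, 32768, 65536, 0, 131072, 262144, 1, 524288, 1048576, 2]
def Q2 : List ℕ := [1, 8, 16, 32, 64, 128, 256, 512, 1024, 2048, 4096, 8192, 16384, 32768, 65536, 131072, 262144, 524288, 1048576, 33554432, 134217728]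
theorem a2 : A2 = minusOne T.dim (prodM T [47, 44]) := by decide +kernel
theorem b2 : A2 = C2.map (combo B2) := by decide +kernel
theorem d2 : B2 = Q2.map (combo A2) := by decide +kernel
theorem e2 : idC 21 = B2.map (combo P2) := by decide +kernel
theorem rk2 {F : Type*} [Field F] [CharP F 2] :
    (((xL hF F [47, 44] : GL chevF4.Idx F) : Matrix chevF4.Idx chevF4.Idx F) - 1).rank = 21 :=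
  rank_xL hF a2 (by decide +kernel) (by decide +kernel) (by decide +kernel) b2 d2 e2

def A3 : List ℕ := [0, 8796093022208, 571746046443520, 0, 1128099500531712, 2256199001063424, 562949953421321, 17594333659136, 68719738880, 17179869184, 34359738368, 281749871394816, 8796093022209, 2199023255552, 4398046511104, 4294967296, 8589934592, 17592186044416, 0, 140874927308800, 35184372088832, 70368744177664, 549755813888, 1099511627776, 281474976710656, 1128098930098176, 2256197860196352, 0, 0, 1125899906842624, 2251799813685248, 17592186044416, 0, 0, 0, 0, 0, 0, 281474976710656, 0, 0, 0, 0, 0, 0, 0, 0, 0, 0, 0, 0, 0]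
def B3 : List ℕ := [8796093022208, 571746046443520, 1128099500531712, 2256199001063424, 562949953421321, 17594333659136, 68719738880, 17179869184, 34359738368, 281749871394816, 8796093022209, 2199023255552, 4398046511104, 4294967296, 8589934592, 17592186044416, 140874927308800, 35184372088832, 70368744177664, 549755813888, 1099511627776, 281474976710656, 1128098930098176, 2256197860196352]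
def C3 : List ℕ := [0, 1, 2, 0, 4, 8, 16, 32, 64, 128, 256, 512, 1024, 2048, 4096, 8192, 16384, 32768, 0, 65536, 131072, 262144, 524288, 1048576, 2097152, 4194304, 8388608, 0, 0, 4196352, 8392704, 32768, 0, 0, 0, 0, 0, 0, 2097152, 0, 0, 0, 0, 0, 0, 0, 0, 0, 0, 0, 0, 0]
def P3 : List ℕ := [1025, 0, 0, 1042, 0, 0, 0, 0, 0, 0, 0, 0, 0, 4194308, 8388616, 0, 0, 32800, 64, 0, 0, 0, 0, 0, 2097664, 0, 0, 0, 0, 0, 0, 0, 8192, 16384, 128, 256, 0, 65536, 0, 524288, 1048576, 2048, 4096, 1, 32768, 131072, 262144, 0, 2097152, 3, 4196352, 8392704]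
def Q3 : List ℕ := [2, 4, 16, 32, 64, 128, 256, 512, 1024, 2048, 4096, 8192, 16384, 32768, 65536, 131072, 524288, 1048576, 2097152, 4194304, 8388608, 16777216, 33554432, 67108864]
theorem a3 : A3 = minusOne T.dim (prodM T [39, 45]) := by decide +kernel
theorem b3 : A3 = C3.map (combo B3) := by decide +kernel
theorem d3 : B3 = Q3.map (combo A3) := by decide +kernel
theorem e3 : idC 24 = B3.map (combo P3) := by decide +kernel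
theorem rk3 {F : Type*} [Field F] [CharP F 2] :
    (((xL hF F [39, 45] : GL chevF4.Idx F) : Matrix chevF4.Idx chevF4.Idx F) - 1).rank = 24 :=
  rank_xL hF a3 (by decide +kernel) (by decide +kernel) (by decide +kernel) b3 d3 e3

/-- The representatives with their ranks. -/
def RR : List (List ℕ × ℕ) := [([47], 16), ([44], 16), ([47, 44], 21), ([39, 45], 24)]

theorem rk_all {F : Type*} [Field F] [CharP F 2] :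
    ∀ p ∈ RR, (((xL hF F p.1 : GL chevF4.Idx F) : Matrix chevF4.Idx chevF4.Idx F) - 1).rank = p.2 := by
  intro p hp
  simp only [RR, List.mem_cons, List.not_mem_nil, or_false] at hp
  rcases hp with rfl|rfl|rfl|rfl
  exacts [rk0, rk1, rk2, rk3]

theorem long_stable : ∀ i < chevF4.rank, ∀ r < chevF4.nroots, chevF4.isLong r = true → chevF4.isLong (X.wf i r) = true := by
  decide +kernel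

theorem no_conj_ls {F : Type*} [Field F] [CharP F 2] {g : GL chevF4.Idx F} (hg : g ∈ chevF4.group F)
    (he : g * hF.c.xG 47 (1 : F) * g⁻¹ = hF.c.xG 44 1) : False :=
  no_conj_top hF (L := fun r => chevF4.isLong r = true) long_stable (top := 47) (s := 44) (by decide) (by
    intro s hs
    have : s < 48 := hs
    omega) (by decide +kernel) (by decide) (by decide +kernel) (by decide +kernel) (by decide +kernel) hg (one_ne_zero (α := F)) he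

theorem sq_all {F : Type*} [Field F] [CharP F 2] : ∀ p ∈ RR, xL hF F p.1 * xL hF F p.1 = 1 := by
  intro p hp
  have h : RR.all (fun p => commB chevF4 p.1) = true := by decide +kernel
  exact xL_sq_of_commB hF (List.all_eq_true.1 h p hp)

theorem nc_all {F : Type*} [Field F] [CharP F 2] : ∀ p ∈ RR, ∀ q ∈ RR, ∀ h ∈ chevF4.group F,
    h * xL hF F p.1 * h⁻¹ = xL hF F q.1 → p = q := by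
  intro p hp q hq h hh he
  have h9 := Cfsg.Agent.Lib.ChevInv.rank_conj (xL hF F p.1) h
  rw [he, rk_all q hq, rk_all p hp] at h9
  simp only [RR, List.mem_cons, List.not_mem_nil, or_false] at hp hq
  rcases hp with rfl|rfl|rfl|rfl <;> rcases hq with rfl|rfl|rfl|rfl
  · rfl
  · exfalso
    exact no_conj_ls hh (by simpa only [xL_cons hF, xL_nil hF, mul_one] using he)
  · exact absurd h9 (by decide)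
  · exact absurd h9 (by decide)
  · exfalso
    have he2 := he
    simp only [xL_cons hF, xL_nil hF, mul_one] at he2
    apply no_conj_ls (Subgroup.inv_mem _ hh)
    rw [← he2]
    group
  · rfl
  · exact absurd h9 (by decide)
  · exact absurd h9 (by decide)
  · exact absurd h9 (by decide)
  · exact absurd h9 (by decide)
  · rfl
  · exact absurd h9 (by decide)
  · exact absurd h9 (by decide)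
  · exact absurd h9 (by decide)
  · exact absurd h9 (by decide)
  · rfl

theorem main {F : Type*} [Field F] [Fintype F] [CharP F 2] : FinalShape hF F RR :=
  final_gen hF (fun t ht htt => by
    obtain ⟨h, hh, N, hN, hE⟩ := classify_gen hF tab_ok tree_ok ht htt
    refine ⟨h, hh, N, ?_, hE⟩
    simpa [Reps, RR] using hN) (by decide +kernel) sq_all (fun p hp => by
      intro h1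
      have h2 := rk_all (F := F) p hp
      rw [h1] at h2
      simp only [Units.val_one, sub_self, Matrix.rank_zero] at h2
      have h3 : ∀ p ∈ RR, p.2 ≠ 0 := by decide +kernel
      exact h3 p hp h2.symm) nc_all

end Cfsg.Agent.Lib.ChevInv.InvF4
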