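import Mathlib
import Cfsg.Agent.Lib.ChevInv.Gen6
import Cfsg.Agent.Lib.Chev.RelG2
import Cfsg.Agent.Lib.Chev.RootG2

/-!
# Tables for the involution classes in type G2
-/

set_option autoImplicit false
set_option maxRecDepth 100000

namespace Cfsg.Agent.Lib.ChevInv.InvG2

open Cfsg Cfsg.Lie Matrix Cfsg.Agent.Lib.Chev Cfsg.Agent.Lib.ChevInv
open Cfsg.Agent.Lib.Chev.TabG2 Cfsg.Agent.Lib.Chev.RootG2T

theorem hF : Full T X R chevG2 := ⟨RelG2.checks, RootG2.checks⟩

/-- The representatives (with the empty list first). -/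
def Reps : List (List ℕ) := [[], [11], [9]]

/-- The table. -/
def Tb : List (List ℕ × RCert) := [
  ([], .wm [] []),
  ([6], .wm [1, 0] [11]),
  ([6, 9], .wm [0, 1, 0, 1] [0, 4]),
  ([7], .wm [0, 1] [9]),
  ([7, 11], .wm [0, 1, 0, 1, 0, 1] [0, 4]),
  ([8], .wm [0] [9]),
  ([8, 10], .wm [0, 1, 0, 1, 0] [0, 4]),
  ([9], .wm [] [9]),
  ([10], .wm [1] [11]),
  ([11], .wm [] [11]),
  ([0, 4], .mv 3 4 0 []),
  ([4, 1], .wm [0, 1] [0, 2]),
  ([0, 2], .mv 3 2 0 []),
  ([2], .wm [0, 1, 0, 1, 0] [9]),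
  ([], .fin0),
  ([11], .fin1 1 []),
  ([9], .fin1 0 [])
]

theorem tab_ok : rcTable X chevG2 Reps Tb = true := by decide +kernel

theorem tree_ok : nodeB chevG2 (fun path => Tb.any (fun e => e.1 == path)) 5 [] (posL R chevG2) (posL R chevG2) = true := by decide +kernel

def A0 : List ℕ := [0, 8192, 8193, 256, 1024, 2048, 0, 4096, 0, 0, 0, 0, 0, 0]
def B0 : List ℕ := [8192, 8193, 256, 1024, 2048, 4096]
def C0 : List ℕ := [0, 1, 2, 4, 8, 16, 0, 32, 0, 0, 0, 0, 0, 0]
def P0 : List ℕ := [3, 0, 0, 0, 0, 0, 0, 0, 4, 0, 8, 16, 32, 1]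
def Q0 : List ℕ := [2, 4, 8, 16, 32, 128]
theorem a0 : A0 = minusOne T.dim (prodM T [11]) := by decide +kernel
theorem b0 : A0 = C0.map (combo B0) := by decide +kernel
theorem d0 : B0 = Q0.map (combo A0) := by decide +kernel
theorem e0 : idC 6 = B0.map (combo P0) := by decide +kernel
theorem rk0 {F : Type*} [Field F] [CharP F 2] :
    (((xL hF F [11] : GL chevG2.Idx F) : Matrix chevG2.Idx chevG2.Idx F) - 1).rank = 6 :=
  rank_xL hF a0 (by decide +kernel) (by decide +kernel) (by decide +kernel) b0 d0 e0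

def A1 : List ℕ := [2048, 0, 4640, 9280, 2050, 4096, 8192, 0, 0, 4096, 8192, 0, 0, 0]
def B1 : List ℕ := [2048, 4640, 9280, 2050, 4096, 8192]
def C1 : List ℕ := [1, 0, 2, 4, 8, 16, 32, 0, 0, 16, 32, 0, 0, 0]
def P1 : List ℕ := [0, 9, 0, 0, 0, 18, 36, 0, 0, 0, 0, 1, 16, 32]
def Q1 : List ℕ := [1, 4, 8, 16, 32, 64]
theorem a1 : A1 = minusOne T.dim (prodM T [9]) := by decide +kernel
theorem b1 : A1 = C1.map (combo B1) := by decide +kernel
theorem d1 : B1 = Q1.map (combo A1) := by decide +kernel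
theorem e1 : idC 6 = B1.map (combo P1) := by decide +kernel
theorem rk1 {F : Type*} [Field F] [CharP F 2] :
    (((xL hF F [9] : GL chevG2.Idx F) : Matrix chevG2.Idx chevG2.Idx F) - 1).rank = 6 :=
  rank_xL hF a1 (by decide +kernel) (by decide +kernel) (by decide +kernel) b1 d1 e1

/-- The representatives with their ranks. -/
def RR : List (List ℕ × ℕ) := [([11], 6), ([9], 6)]

theorem rk_all {F : Type*} [Field F] [CharP F 2] :
    ∀ p ∈ RR, (((xL hF F p.1 : GL chevG2.Idx F) : Matrix chevG2.Idx chevG2.Idx F) - 1).rank = p.2 := by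
  intro p hp
  simp only [RR, List.mem_cons, List.not_mem_nil, or_false] at hp
  rcases hp with rfl|rfl
  exacts [rk0, rk1]

theorem long_stable : ∀ i < chevG2.rank, ∀ r < chevG2.nroots, chevG2.isLong r = true → chevG2.isLong (X.wf i r) = true := by
  decide +kernel

theorem no_conj_ls {F : Type*} [Field F] [CharP F 2] {g : GL chevG2.Idx F} (hg : g ∈ chevG2.group F)
    (he : g * hF.c.xG 11 (1 : F) * g⁻¹ = hF.c.xG 9 1) : False :=
  no_conj_top hF (L := fun r => chevG2.isLong r = true) long_stable (top := 11) (s := 9) (by decide) (by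
    intro s hs
    have : s < 12 := hs
    omega) (by decide +kernel) (by decide) (by decide +kernel) (by decide +kernel) (by decide +kernel) hg (one_ne_zero (α := F)) he

theorem sq_all {F : Type*} [Field F] [CharP F 2] : ∀ p ∈ RR, xL hF F p.1 * xL hF F p.1 = 1 := by
  intro p hp
  have h : RR.all (fun p => commB chevG2 p.1) = true := by decide +kernel
  exact xL_sq_of_commB hF (List.all_eq_true.1 h p hp)

theorem nc_all {F : Type*} [Field F] [CharP F 2] : ∀ p ∈ RR, ∀ q ∈ RR, ∀ h ∈ chevG2.group F,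
    h * xL hF F p.1 * h⁻¹ = xL hF F q.1 → p = q := by
  intro p hp q hq h hh he
  have h9 := Cfsg.Agent.Lib.ChevInv.rank_conj (xL hF F p.1) h
  rw [he, rk_all q hq, rk_all p hp] at h9
  simp only [RR, List.mem_cons, List.not_mem_nil, or_false] at hp hq
  rcases hp with rfl|rfl <;> rcases hq with rfl|rfl
  · rfl
  · exfalso
    exact no_conj_ls hh (by simpa only [xL_cons hF, xL_nil hF, mul_one] using he)
  · exfalso
    have he2 := he
    simp only [xL_cons hF, xL_nil hF, mul_one] at he2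
    apply no_conj_ls (Subgroup.inv_mem _ hh)
    rw [← he2]
    group
  · rfl

theorem main {F : Type*} [Field F] [Fintype F] [CharP F 2] : FinalShape hF F RR :=
  final_gen hF (fun t ht htt => by
    obtain ⟨h, hh, N, hN, hE⟩ := classify_gen hF tab_ok tree_ok ht htt
    refine ⟨h, hh, N, ?_, hE⟩
    simpa [Reps, RR] using hN) (by decide +kernel) sq_all (fun p hp => by
      intro h1
      have h2 := rk_all (F := F) p hp
      rw [h1] at h2
      simp only [Units.val_one, sub_self, Matrix.rank_zero] at h2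
      have h3 : ∀ p ∈ RR, p.2 ≠ 0 := by decide +kernel
      exact h3 p hp h2.symm) nc_all

end Cfsg.Agent.Lib.ChevInv.InvG2
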